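import Cfsg.Agent.H14.CBSpec
import Cfsg.Agent.H14.Quasi

/-! Tower CB (S1308): job Par1. -/

set_option autoImplicit false

namespace H30.CBPar1

open Cfsg Subgroup MulAction H14 H98 H1.Gold H31.S2 H14.GC H14.FE H14.NF H14.CB
open scoped commutatorElement

universe u

theorem el_two {G : Type u} [Group G] {Y : Subgroup G} (h : El Y) : IsPGroup 2 Y := fun y =>
  ⟨1, Subtype.ext (by simpa [pow_two] using h y.1 y.2)⟩

theorem el_sup {G : Type u} [Group G] {A B : Subgroup G} (hA : El A) (hB : El B)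
    (h : B ≤ centralizer (A : Set G)) : El (A ⊔ B) := by
  have hc : ⁅A, B⁆ = ⊥ :=
    H14.commutator_eq_bot_iff_comm.mpr fun a ha b hb => mem_centralizer_iff.mp (h hb) a ha
  intro x hx
  obtain ⟨a, ha, b, hb, rfl⟩ := H14.mem_sup_of_commutator_eq_bot hc hx
  have hab : a * b = b * a := mem_centralizer_iff.mp (h hb) a ha
  calc a * b * (a * b) = a * (b * a) * b := by group
    _ = (a * a) * (b * b) := by rw [← hab]; group
    _ = 1 := by rw [hA a ha, hB b hb, one_mul]

theorem jobX : H14.CB.JPar1.{u} := by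
  intro jtr G _ _ Q E tg fu Q₁ T P S Q₂ T' ln sec col as
  have elT' : El T' := by
    obtain ⟨g, -, rfl⟩ := col.p2
    intro a ha
    have h1 : g⁻¹ * a * g ∈ E := mem_cj.mp ha
    have h2 := tg.el _ h1
    have : a * a = g * (g⁻¹ * a * g * (g⁻¹ * a * g)) * g⁻¹ := by group
    rw [this, h2]; group
  have elS : El (S ⊔ T') := el_sup sec.el elT' as.cS
  have hEP : E ≤ P := ln.pg.lt.le
  have hEc : E ≤ centralizer ((P ⊔ T : Subgroup G) : Set G) := by
    rw [← le_centralizer_iff]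
    exact sup_le (ln.pg.le.trans inf_le_right) ln.col.comm
  set Y : Subgroup G := (S ⊔ T') ⊓ centralizer ((P ⊔ T : Subgroup G) : Set G) with hY
  have elY : El Y := fun a ha => elS a ha.1
  have hYT : Y ≤ centralizer (T : Set G) := fun y hy =>
    mem_centralizer_iff.mpr fun t ht => mem_centralizer_iff.mp hy.2 t (mem_sup_right ht)
  have hcm : Cm3 E Y T := fun e he y hy => by
    have := mem_centralizer_iff.mp hy.2 e (mem_sup_left (hEP he))
    rw [commutatorElement_eq_one_iff_mul_comm.mpr this]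
    exact T.one_mem
  obtain ⟨P', pg', -, cm', -⟩ := fu Q₁ T Q E (tg.sym _ _ _ _ ln.col) Y hYT (el_two elY) hcm
  obtain ⟨x, hx, hxT⟩ := SetLike.exists_of_lt pg'.lt
  obtain ⟨htr, -⟩ := jtr G Q E tg Q₁ T P P' ln pg' x hx hxT
  refine ⟨Y ⊓ centralizer {x}, P', fun a ha => elY a ha.1, fun a ha => ha.1.2, fun a ha => ha.1.1,
    fun a ha => ?_, pg', x, hx, hxT, ?_⟩
  · obtain ⟨c, hc, hp⟩ := as.fw a ha
    have hpY : a * c ∈ Y := ⟨mul_mem (mem_sup_right ha) (mem_sup_left hc), hp⟩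
    obtain ⟨r, hr, hrx⟩ := htr _ (cm' _ hpY x hx)
    have hpp : (a * c)⁻¹ = a * c := inv_eq_of_mul_eq_one_right (elY _ hpY)
    have hC : (a * c)⁻¹ * r ∈ Y ⊓ centralizer {x} := by
      refine ⟨Y.mul_mem (Y.inv_mem hpY) ⟨mem_sup_left (sec.lE hr), hEc hr⟩, ?_⟩
      refine mem_centralizer_singleton_iff.mpr ?_
      rw [commutatorElement_def, commutatorElement_def] at hrx
      have h1 : r * x * r⁻¹ = a * c * x * (a * c)⁻¹ := mul_right_cancel hrx
      calc (a * c)⁻¹ * r * x = (a * c)⁻¹ * (r * x * r⁻¹) * r := by group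
        _ = x * ((a * c)⁻¹ * r) := by rw [h1]; group
    have : a = ((a * c)⁻¹ * r) * r⁻¹ * c⁻¹ := by rw [hpp]; group
    rw [this]
    exact mul_mem (mul_mem (mem_sup_right hC) (mem_sup_left (inv_mem (sec.lE hr))))
      (mem_sup_left (inv_mem hc))
  · exact mem_centralizer_iff.mpr fun c hc => mem_centralizer_singleton_iff.mp hc.2

end H30.CBPar1
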