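import Cfsg.Agent.H33.SL2Count
import Cfsg.Agent.H44.CD1

/-! Character degrees of `SL₂(q)` and `PSL₂(q)`. -/

set_option autoImplicit false
open Cfsg H28 H33

namespace H30.SG

variable {F : Type*} [Field F] [Fintype F]

theorem cd_sl {d : ℕ} (h : d ∈ charDegrees (Matrix.SpecialLinearGroup (Fin 2) F)) :
    d = Fintype.card F ∨ d ∣ Fintype.card F + 1 ∨ d ∣ Fintype.card F - 1 := by
  classical
  obtain ⟨χ, hχ, rfl⟩ := H44.exists_of_mem_cd h
  obtain ⟨e, he⟩ := exists_isEll (F := F)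
  have h1 := hχ.isCharacter.cast_charDegree
  have h0 := Fintype.one_lt_card (α := F)
  generalize charDegree χ = d at h1
  have c : ((Fintype.card F - 1 : ℕ) : ℂ) = Fintype.card F - 1 := by rw [Nat.cast_sub h0.le, Nat.cast_one]
  rcases sl2_cases_deg he hχ with k | k | k | k | k | k <;> have k2 := k.2 <;> rw [← h1] at k2
  · exact .inr (.inl (by rw [Nat.cast_eq_one.1 k2]; exact one_dvd _))
  · exact .inl (by exact_mod_cast k2)
  · exact .inr (.inl (dvd_of_eq (by exact_mod_cast k2)))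
  · exact .inr (.inr (dvd_of_eq (by rw [← c] at k2; exact_mod_cast k2)))
  · exact .inr (.inl (Dvd.intro_left 2 (by exact_mod_cast k2)))
  · exact .inr (.inr (Dvd.intro_left 2 (by rw [← c] at k2; exact_mod_cast k2)))

theorem cd_psl (h4 : 4 ≤ Fintype.card F) (h5 : Fintype.card F ≠ 5) :
    Fintype.card F ∈ charDegrees (Matrix.ProjectiveSpecialLinearGroup (Fin 2) F) ∧
    Fintype.card F + 1 ∈ charDegrees (Matrix.ProjectiveSpecialLinearGroup (Fin 2) F) ∧
    Fintype.card F - 1 ∈ charDegrees (Matrix.ProjectiveSpecialLinearGroup (Fin 2) F) := by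
  classical
  have k : ∀ {χ : SL2 F → ℂ} {d : ℕ}, IsIrrCharacter _ χ → χ 1 = d → (∀ g : SL2 F, IsSc (g : M2 F) → χ g = χ 1) →
      d ∈ charDegrees (Matrix.ProjectiveSpecialLinearGroup (Fin 2) F) := fun h1 h2 h3 =>
    charDegree_eq h2 ▸ H44.mem_cd_quot h1 fun g hg => h1.mem_charKer.2 (h3 g (isSc_iff_mem_center_sl.2 hg))
  refine ⟨k isIrr_stS stS_one fun g hg => (stS_scalar hg).trans stS_one.symm, ?_, ?_⟩
  · obtain ⟨β, hβ⟩ := MulChar.exists_mulChar_orderOf F (R := ℂ) dvd_rfl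
      (Complex.isPrimitiveRoot_exp _ (by omega))
    refine k (isIrr_rs_iff.2 fun e : (β ^ 2) ^ 2 = 1 => ?_) (by rw [rs_one]; simp) fun g hg => ?_
    · rw [← pow_mul, ← orderOf_dvd_iff_pow_eq_one, hβ] at e
      have := Nat.le_of_dvd (by decide) e
      obtain ⟨c, hc⟩ := e
      rw [show Fintype.card F - 1 = 3 by omega] at hc
      omega
    · rw [rs_apply, psVal_scalar _ hg, rs_one, MulChar.pow_apply' _ two_ne_zero, ← map_pow]
      rcases isSc_iff_sl.1 hg with rfl | rfl <;> simp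
  · obtain ⟨e, he⟩ := exists_isEll (F := F)
    have := he.isCyclic_torS
    obtain ⟨c, hc⟩ := IsCyclic.exists_generator (α := TorS e)
    have hz := Complex.isPrimitiveRoot_exp (Fintype.card F + 1) (by omega)
    have ho : orderOf (hz.isUnit (by omega)).unit = Fintype.card F + 1 := by
      rw [← orderOf_units, IsUnit.unit_spec, ← hz.eq_orderOf]
    let θ := monoidHomOfForallMemZpowers hc (g' := (hz.isUnit (by omega)).unit)
      (by rw [ho, orderOf_eq_card_of_forall_mem_zpowers hc, he.card_torS])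
    refine k (isIrr_cuspS he (θ := θ ^ 2) fun a => ?_) (by rw [cuspS_one, Nat.cast_sub (by omega), Nat.cast_one])
      fun g hg => ?_
    · have : (θ c ^ 2) ^ 2 = 1 := DFunLike.congr_fun a c
      rw [← pow_mul, ← orderOf_dvd_iff_pow_eq_one, monoidHomOfForallMemZpowers_apply_gen, ho] at this
      have := Nat.le_of_dvd (by decide) this
      omega
    · have m : g ∈ TorS e := by
        rcases isSc_iff_sl.1 hg with rfl | rfl
        · exact one_mem _
        · exact Subgroup.mem_centralizer_singleton_iff.2 (Units.ext (by simp))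
      have : (θ ^ 2) ⟨g, m⟩ = 1 := by
        rw [MonoidHom.pow_apply, ← map_pow, show (⟨g, m⟩ : TorS e) ^ 2 = 1 from Subtype.ext (by
          rcases isSc_iff_sl.1 hg with rfl | rfl <;> simp), map_one]
      rw [cuspS_one, ← mul_one (_ - _)]
      exact (cuspS_scalar he _ ⟨g, m⟩ hg).trans (by rw [this]; rfl)

theorem cd_both (h4 : 4 ≤ Fintype.card F) (h5 : Fintype.card F ≠ 5) {S : Type*} [Group S] [Finite S]
    (hS : Nonempty (S ≃* Matrix.ProjectiveSpecialLinearGroup (Fin 2) F) ∨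
      Nonempty (S ≃* Matrix.SpecialLinearGroup (Fin 2) F)) (t : ℕ) [Fact t.Prime] [CharP F t] :
    degreePrimes S = {r : ℕ | r.Prime ∧ r ∣ Fintype.card F * (Fintype.card F ^ 2 - 1)} ∧
    ∀ r s, (degreeGraph S).Adj r s ↔ r ≠ s ∧ r.Prime ∧ s.Prime ∧
      ((r ∣ Fintype.card F + 1 ∧ s ∣ Fintype.card F + 1) ∨ (r ∣ Fintype.card F - 1 ∧ s ∣ Fintype.card F - 1)) := by
  have sub := H44.cd_surj _ (QuotientGroup.mk'_surjective (Subgroup.center (Matrix.SpecialLinearGroup (Fin 2) F)))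
  obtain ⟨a1, a2, a3⟩ := cd_psl h4 h5
  obtain ⟨b0, b1, b2, b3⟩ : (∀ d ∈ charDegrees S, d = Fintype.card F ∨ d ∣ Fintype.card F + 1 ∨
      d ∣ Fintype.card F - 1) ∧ Fintype.card F ∈ charDegrees S ∧ Fintype.card F + 1 ∈ charDegrees S ∧
      Fintype.card F - 1 ∈ charDegrees S := by
    rcases hS with ⟨⟨e⟩⟩ | ⟨⟨e⟩⟩ <;> rw [H44.cd_equiv e]
    exacts [⟨fun d h => cd_sl (sub h), a1, a2, a3⟩, ⟨fun d h => cd_sl h, sub a1, sub a2, sub a3⟩]
  obtain ⟨k, hk, e⟩ := FiniteField.card F t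
  rw [show Fintype.card F ^ 2 - 1 = (Fintype.card F + 1) * (Fintype.card F - 1) by
    rw [← Nat.sq_sub_sq, one_pow]]
  refine ⟨Set.ext fun p => ⟨fun ⟨hp, d, hd, a⟩ => ⟨hp, ?_⟩, fun ⟨hp, a⟩ => ⟨hp, ?_⟩⟩, fun r s =>
    ⟨fun ⟨h, hr, hs, d, hd, a⟩ => ⟨h, hr, hs, ?_⟩, fun ⟨h, hr, hs, a⟩ => ⟨h, hr, hs, ?_⟩⟩⟩
  · rcases b0 d hd with rfl | b | b
    exacts [a.mul_right _, ((a.trans b).mul_right _).mul_left _, ((a.trans b).mul_left _).mul_left _]
  · rw [hp.dvd_mul, hp.dvd_mul] at a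
    rcases a with a | a | a
    exacts [⟨_, b1, a⟩, ⟨_, b2, a⟩, ⟨_, b3, a⟩]
  · rcases b0 d hd with rfl | b | b
    · rw [e] at a
      exact absurd (((Nat.prime_dvd_prime_iff_eq hr hk).1 (hr.dvd_of_dvd_pow ((Dvd.intro _ rfl).trans a))).trans
        ((Nat.prime_dvd_prime_iff_eq hs hk).1 (hs.dvd_of_dvd_pow ((Dvd.intro_left _ rfl).trans a))).symm) h
    · exact .inl ⟨(Dvd.intro _ rfl).trans (a.trans b), (Dvd.intro_left _ rfl).trans (a.trans b)⟩
    · exact .inr ⟨(Dvd.intro _ rfl).trans (a.trans b), (Dvd.intro_left _ rfl).trans (a.trans b)⟩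
  · have c := (Nat.coprime_primes hr hs).2 h
    rcases a with a | a
    exacts [⟨_, b2, c.mul_dvd_of_dvd_of_dvd a.1 a.2⟩, ⟨_, b3, c.mul_dvd_of_dvd_of_dvd a.1 a.2⟩]

end H30.SG
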