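import Cfsg.Agent.H30.PrC1
import Cfsg.Agent.H30.FrobSchur
import Cfsg.Agent.H29.GalChar

/-! The symmetric and alternating squares of a character of degree `p - e`. -/

set_option autoImplicit false
set_option maxHeartbeats 400000
set_option linter.unusedSectionVars false

namespace H30.PrC

open Cfsg H28 H35 H39 H45 H87 H2.PR H30.PrP H30.PrF
open scoped ComplexConjugate

universe u

theorem exists_m {p z n : ℕ} (hn : n ≠ 0) (hd : p * z ∣ n) (hc : p.Coprime z) (hz : Odd z) :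
    ∃ m : ℕ, m.Coprime n ∧ m ≡ 1 [MOD p] ∧ m ≡ 2 [MOD z] := by
  have := NeZero.mk hn
  obtain ⟨m, h1, h2⟩ := Nat.chineseRemainder hc 1 2
  obtain ⟨v, hv⟩ := ZMod.unitsMap_surjective hd (ZMod.unitOfCoprime m (Nat.Coprime.mul_right
    (by rw [Nat.Coprime, h1.gcd_eq]; simp) (by rw [Nat.Coprime, h2.gcd_eq]; simpa using hz)))
  have h3 : (v : ZMod n).val ≡ m [MOD p * z] := by
    rw [← ZMod.natCast_eq_natCast_iff, ZMod.natCast_val, ← ZMod.unitsMap_val hd, hv,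
      ZMod.coe_unitOfCoprime]
  exact ⟨_, ZMod.val_coe_unit_coprime v, (h3.of_mul_right _).trans h1, (h3.of_mul_left _).trans h2⟩

section num

variable {I : Finset ℕ} {a c : ℕ → ℕ} {s : ℤ}
  (h : ∀ k ∈ I, ∀ j ∈ I, (a k : ℤ) - a j = s * (c k - c j))
include h

theorem sum_le_of_one (hs : s = 1) (h1 : ∑ k ∈ I, c k < I.card) : ∑ k ∈ I, c k ≤ ∑ k ∈ I, a k := by
  obtain ⟨j, hj, h2⟩ := Finset.exists_lt_of_sum_lt (h1.trans_eq (Finset.card_eq_sum_ones I))
  exact Finset.sum_le_sum fun k hk => by have := h k hk j hj; rw [hs] at this; omega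

theorem card_le_of_neg (hs : s = -1) (h1 : ∑ k ∈ I, c k ≠ 0) :
    I.card ≤ ∑ k ∈ I, a k + ∑ k ∈ I, c k := by
  obtain ⟨j, hj, h2⟩ := Finset.exists_ne_zero_of_sum_ne_zero h1
  rw [Finset.card_eq_sum_ones, ← Finset.sum_add_distrib]
  exact Finset.sum_le_sum fun k hk => by have := h k hk j hj; rw [hs] at this; omega

theorem sum_pos_of (hs : s = 1 ∨ s = -1) (h1 : ∑ k ∈ I, c k ≠ 0) (h2 : ∑ k ∈ I, c k < I.card) :
    0 < ∑ k ∈ I, a k := by
  rcases hs with hs | hs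
  · have := sum_le_of_one h hs h2
    omega
  · have := card_le_of_neg h hs h1
    omega

end num

variable {G : Type u} [Group G] [Fintype G] {p e t h d : ℕ} [hp : Fact p.Prime] {P : Sylow p G}
  [Fintype (P : Subgroup G)] {x y : G} {ν : (P : Subgroup G) →* ℂˣ} {θ ψ : G → ℂ} {α : ℂ}
  {l : Subgroup.center G →* ℂˣ} {s : ℤ} {u : ℕ} {ξ : ℤ → IrrCharacter G}

theorem key (H : PH p e h ν) (F : Fam p e h (P : Subgroup G) x ν l s u ξ) (hψ : IsCharacter G ψ)
    (ho : Over l ψ) {f : ↥(P : Subgroup G) → ℂ} (hf : IsCharacter _ f)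
    (hv : ∀ z : (P : Subgroup G), z ≠ 1 → ψ z = f z) :
    mu ν ψ 0 = classInner f (pw ν 0) + (ψ 1 - f 1) / p ∧ ∃ c : ℕ → ℕ,
      ((∑ k ∈ Finset.Ico 1 p, c k : ℕ) : ℂ) = f 1 - classInner f (pw ν 0) ∧
      ∀ k ∈ Finset.Ico 1 p, ∀ j ∈ Finset.Ico 1 p,
        (mlt ψ (ξ (k : ℕ)) : ℤ) - mlt ψ (ξ (j : ℕ)) = s * (c k - c j) := by
  obtain ⟨c, h1, h2⟩ := exists_c H hf
  refine ⟨H.ip_off hv 0, c, h2, fun k hk j hj => ?_⟩
  have := F.diff ψ hψ.isClassFunction ho k j (not_dvd hk) (not_dvd hj)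
  rw [← coe_mlt hψ, ← coe_mlt hψ, mu, mu, H.ip_off hv, H.ip_off hv, h1, h1,
    add_sub_add_right_eq_sub] at this
  exact_mod_cast this

theorem ip_sq {A : Type*} [Group A] [Fintype A] {ν : A →* ℂˣ} (H : PH p e h ν) (h2 : p ≠ 2)
    (σ : ℂ) : classInner (fun z => (eta ν h e 1 z ^ 2 + σ * eta ν h e 1 (z * z)) / 2) (pw ν 0) =
      if Even e then (e : ℂ) / 2 else 0 := by
  have h3 : ¬ (p : ℤ) ∣ 2 := fun h => h2 ((Nat.prime_dvd_prime_iff_eq hp.out Nat.prime_two).1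
    (by exact_mod_cast h))
  have h4 : ¬ (p : ℤ) ∣ -1 := by simpa using not_dvd_one (p := p)
  have h5 : (fun z => (eta ν h e 1 z ^ 2 + σ * eta ν h e 1 (z * z)) / 2) =
      (2⁻¹ : ℂ) • ((eta ν h e 1 * fun z => conj (eta ν h e (-1) z)) + σ • eta ν h e 2) := by
    funext z
    have : conj (eta ν h e (-1) z) = eta ν h e 1 z := by
      simp [eta, pw_apply, conj_hom]
    simp [this, ← pow_two, eta_pow, div_eq_inv_mul]
  have h6 := H.ip_eta h3 0
  rw [if_neg (H.not_cl_zero h3)] at h6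
  rw [h5, classInner_smul_left, classInner_add_left, classInner_smul_left, h6, pw_zero,
    ← classInner_eq_mul_one, H.inner_eta (fun z => by
      rw [eta_pow, ← pow_one (h : ℤ), ← H.eta_congr not_dvd_one (H.cl_mul 1 1)]) h4,
    H.ip_eta not_dvd_one]
  have : Fact (2 < p) := ⟨lt_of_le_of_ne hp.out.two_le h2.symm⟩
  have h7 : Cl p e 1 (-1) ↔ Even e := by
    rw [← neg_one_pow_eq_one_iff_even (ZMod.neg_one_ne_one (n := p)), eq_comm]
    simp [Cl]
  simp only [h7]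
  split_ifs <;> simp [div_eq_inv_mul]

theorem exists_ne (H : PH p e h ν) (h2 : 2 * e + 1 < p) {k : ℤ} (hk : ¬ (p : ℤ) ∣ k) {s : ℂ}
    (hs : s ≠ 0) (hψ : ∀ z : (P : Subgroup G), z ≠ 1 → ψ z = s * eta ν h e k z) :
    ∃ z z' : (P : Subgroup G), z ≠ 1 ∧ z' ≠ 1 ∧ ψ z ≠ ψ z' := by
  by_contra! h1
  obtain ⟨y, hy, h3⟩ := exists_ne_one_mem_prime H.card
  obtain ⟨j, hj, h4, -⟩ := H.exists_third h2 hk hk
  have h5 := mu_const H fun z hz => h1 z ⟨y, hy⟩ hz fun h => h3 (congrArg Subtype.val h)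
  have h6 := (h5 k).trans (Eq.trans (by rw [if_neg hk, if_neg hj]) (h5 j).symm)
  rw [mu_ty H hk hψ, mu_ty H hk hψ, if_pos (show Cl p e k k from rfl), if_neg h4] at h6
  exact hs (add_right_cancel h6)

theorem jobCh (hF : JobFam.{u}) : JobCh.{u} := by
  intro G _ _ p hp e t h d P x y θ ν α D ht het
  cases nonempty_fintype G
  cases nonempty_fintype (P : Subgroup G)
  have L := D.lo
  have H := ph L D.ne
  obtain ⟨μ, hμ⟩ := D.irr.exists_central_hom (Z := Subgroup.center G) le_rfl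
  obtain ⟨s, u, ξ, F⟩ := hF G p e t h P x y L D.pe ht D.gen ν D.ne (μ ^ 2)
  obtain ⟨b, hb, hB⟩ := F.bound
  have he := L.two
  obtain ⟨t, rfl⟩ : ∃ t', t = t' + 3 := ⟨t - 3, by omega⟩
  have hpe := D.pe
  have hd : d = e * (t + 2) + 1 := by have := D.de; linarith
  have hd' : (d : ℂ) = e * (t + 2) + 1 := by exact_mod_cast hd
  have hp' : (p : ℂ) = e * (t + 3) + 1 := by exact_mod_cast hpe
  have hp0 : (p : ℂ) ≠ 0 := Nat.cast_ne_zero.2 hp.out.ne_zero
  have h1 : (μ ⟨_, L.xe⟩ : ℂ) = α ^ e := by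
    have := hμ ⟨_, L.xe⟩ 1
    rw [mul_one, theta_one D, D.top, mul_comm] at this
    exact mul_right_cancel₀ (Nat.cast_ne_zero.2 (by omega)) this.symm
  have h2 : ∀ i ∈ Finset.Ico 1 e, 2 * i ≠ e → θ (x ^ i * x ^ i) = α ^ (2 * i) := fun i hi h => by
    obtain ⟨h2, h3⟩ := Finset.mem_Ico.1 hi
    rw [← pow_add, ← two_mul]
    rcases h.lt_or_gt with h | h
    · exact D.lin _ (by omega) h
    · obtain ⟨j, hj⟩ := Nat.exists_eq_add_of_le h.le
      rw [hj, pow_add, hμ ⟨_, L.xe⟩, h1, D.lin j (by omega) (by omega), pow_add]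
  have h3 : ∀ σ : ℂ, Over (μ ^ 2) fun g => (θ g ^ 2 + σ * θ (g * g)) / 2 := fun σ w g => by
    simp only
    rw [mul_assoc, hμ, hμ, ← mul_assoc g, Subgroup.mem_center_iff.1 w.2 g, mul_assoc, hμ]
    simp only [MonoidHom.pow_apply, Units.val_pow_eq_pow_val]
    ring
  have h4 : ∀ (σ : ℂ) (z : (P : Subgroup G)), z ≠ 1 → (θ z ^ 2 + σ * θ (z * z)) / 2 =
      (eta ν h e 1 z ^ 2 + -σ * eta ν h e 1 (z * z)) / 2 := fun σ z hz => by
    rw [← Subgroup.coe_mul, D.val z hz, D.val (z * z) fun h => L.ne_two ((Nat.prime_dvd_prime_iff_eq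
      hp.out Nat.prime_two).1 ((orderOf_eq_of_mem_prime L.card z.2 fun h =>
        hz (Subtype.ext h)).symm.dvd.trans (orderOf_dvd_of_pow_eq_one
          ((pow_two _).trans (congrArg Subtype.val h)))))]
    ring
  have hΛ : IsCharacter G fun g => (θ g ^ 2 + -1 * θ (g * g)) / 2 := by
    simpa only [neg_one_mul, ← sub_eq_add_neg] using isCharacter_altSq D.irr.isCharacter
  have hS : IsCharacter G fun g => (θ g ^ 2 + 1 * θ (g * g)) / 2 := by
    simpa only [one_mul] using isCharacter_symSq D.irr.isCharacter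
  obtain ⟨h5, c, h6, h7⟩ := key H F hΛ (h3 _) (by
    simpa only [neg_neg, one_mul] using isCharacter_symSq (isCharacter_eta 1)) (h4 _)
  obtain ⟨h8, c', h9, h10⟩ := key H F hS (h3 _) (by
    simpa only [neg_one_mul, ← sub_eq_add_neg] using isCharacter_altSq (isCharacter_eta 1)) (h4 _)
  have h11 := hB _ hΛ (h3 _)
  have h12 := hB _ hS (h3 _)
  rw [h5] at h11
  rw [h8] at h12
  simp only [ip_sq H L.ne_two, mul_one, eta_one, theta_one D] at h6 h9 h11 h12
  rw [show (((d : ℂ) ^ 2 + -1 * d) / 2 - (e ^ 2 + - -1 * e) / 2) / p = e * (t + 1) / 2 by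
    rw [div_eq_iff hp0, hd', hp']; ring] at h11
  rw [show (((d : ℂ) ^ 2 + 1 * d) / 2 - (e ^ 2 + -1 * e) / 2) / p = e * (t + 1) / 2 + 1 by
    rw [div_eq_iff hp0, hd', hp']; ring] at h12
  have h13 : (Finset.Ico 1 p).card = e * (t + 3) := by simp [hpe]
  rcases Nat.even_or_odd e with h14 | h14
  · left
    by_contra h15
    rw [if_pos h14] at h6 h9 h11 h12
    obtain ⟨f, rfl⟩ := h14
    obtain ⟨f, rfl⟩ : ∃ f', f = f' + 2 := ⟨f - 2, by omega⟩
    have h16 : ∑ k ∈ Finset.Ico 1 p, c k = 2 * (f + 2) * (f + 2) :=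
      Nat.cast_injective (R := ℂ) (h6.trans (by push_cast; ring))
    have h17 : ∑ k ∈ Finset.Ico 1 p, c' k = 2 * (f + 2) * (f + 1) :=
      Nat.cast_injective (R := ℂ) (h9.trans (by push_cast; ring))
    have h18 := sum_pos_of h7 F.sg (by rw [h16]; positivity) (by rw [h16, h13]; nlinarith)
    have h19 := sum_pos_of h10 F.sg (by rw [h17]; positivity) (by rw [h17, h13]; nlinarith)
    have hf : f + 2 ∈ Finset.Ico 1 (f + 2 + (f + 2)) := Finset.mem_Ico.2 ⟨by omega, by omega⟩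
    have h20 := hb L.xe
    rw [MonoidHom.pow_apply, Units.val_pow_eq_pow_val, h1] at h20
    have hb0 : b ≠ 0 := ne_zero_pow (by omega) ((hb L.xe).trans_ne (Units.ne_zero _))
    have h21 : ∀ σ : ℂ, ∑ i ∈ Finset.Ico 1 (f + 2 + (f + 2)), (θ (x ^ i) ^ 2 +
        σ * θ (x ^ i * x ^ i)) / 2 * (b ^ i)⁻¹ = (1 + σ) / 2 * ∑ i ∈ Finset.Ico 1 (f + 2 + (f + 2)),
          (α ^ 2 * b⁻¹) ^ i + σ * (d - 1) / 2 * (α ^ 2 * b⁻¹) ^ (f + 2) := fun σ => by
      rw [← Finset.add_sum_erase _ _ hf, ← Finset.add_sum_erase _ _ hf, mul_add, Finset.mul_sum,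
        Finset.sum_congr rfl (g := fun i => (1 + σ) / 2 * (α ^ 2 * b⁻¹) ^ i) fun i hi => by
          obtain ⟨h21, h22⟩ := Finset.mem_erase.1 hi
          rw [h2 i h22 (by omega), D.lin i (Finset.mem_Ico.1 h22).1 (Finset.mem_Ico.1 h22).2]
          ring, ← pow_add, D.top, D.lin _ (by omega) (by omega)]
      ring
    rw [h21] at h11 h12
    generalize hγ : α ^ 2 * b⁻¹ = γ at h11 h12
    have h22 : γ ^ (f + 2 + (f + 2)) = 1 := by
      rw [← hγ, mul_pow, inv_pow, h20, ← pow_mul, ← pow_mul, mul_comm 2, mul_inv_cancel₀]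
      rw [pow_mul, ← h20]
      exact pow_ne_zero _ hb0
    rcases mul_self_eq_one_iff.1 ((pow_add _ _ _).symm.trans h22) with h23 | h23
    · rw [h23, hd', show ∀ a b : ℂ, a + ((1 + -1) / 2 * b + -1 * (((f + 2 + (f + 2) : ℕ) : ℂ) *
        (t + 2) + 1 - 1) / 2 * 1) = a - (f + 2 + (f + 2) : ℕ) * (t + 2) / 2 from fun _ _ => by ring,
        show ∀ a : ℂ, a / 2 + a * (t + 1) / 2 - a * (t + 2) / 2 = 0 from fun _ => by ring] at h11
      exact absurd (Nat.cast_pos.2 h18) (not_lt.2 h11)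
    · have h24 := geom_sum_eq (x := γ) (fun h => by norm_num [h] at h23) (f + 2 + (f + 2))
      rw [h22, sub_self, zero_div, Finset.range_eq_Ico,
        Finset.sum_eq_sum_Ico_succ_bot (by omega), pow_zero, add_comm, add_eq_zero_iff_eq_neg] at h24
      rw [h23, hd', h24, show ∀ a : ℂ, a / 2 + (a * (t + 1) / 2 + 1) + ((1 + 1) / 2 * -1 +
        1 * (a * (t + 2) + 1 - 1) / 2 * -1) = 0 from fun _ => by ring] at h12
      exact absurd (Nat.cast_pos.2 h19) (not_lt.2 h12)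
  right
  rw [if_neg (Nat.not_even_iff_odd.2 h14)] at h6 h11
  rw [Finset.sum_eq_zero (s := Finset.Ico 1 e) fun i hi => by
    rw [h2 i hi (by obtain ⟨f, rfl⟩ := h14; omega),
      D.lin i (Finset.mem_Ico.1 hi).1 (Finset.mem_Ico.1 hi).2]
    ring] at h11
  have h15 : 2 * ∑ k ∈ Finset.Ico 1 p, c k = e * (e + 1) :=
    Nat.cast_injective (R := ℂ) (by rw [Nat.cast_mul, h6]; push_cast; ring)
  have h16 : 2 * ∑ k ∈ Finset.Ico 1 p, mlt (fun g => (θ g ^ 2 + -1 * θ (g * g)) / 2) (ξ (k : ℕ)) ≤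
      e * (t + 1) := by
    rw [← Nat.cast_le (α := ℝ), Nat.cast_mul]
    simp only [zero_add, add_zero, Complex.div_ofNat_re, Complex.mul_re, Complex.add_re,
      Complex.natCast_re, Complex.natCast_im, Complex.one_re, zero_mul, sub_zero] at h11
    push_cast at h11 ⊢
    linarith
  have h17 : s = 1 := F.sg.resolve_right fun hs => by
    have := card_le_of_neg h7 hs (fun h => by rw [h] at h15; nlinarith)
    rw [h13] at this
    nlinarith
  refine ⟨h14, ?_, fun hZ => ?_⟩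
  · have := sum_le_of_one h7 h17 (by rw [h13]; nlinarith)
    have := Nat.le_of_mul_le_mul_left (show e * (e + 1) ≤ e * (t + 1) by omega) L.e_pos
    omega
  obtain ⟨m, h18, h19, h20⟩ := exists_m Nat.card_pos.ne'
    (L.cpl.card_cen ▸ Subgroup.card_subgroup_dvd_card _) (hp.out.coprime_iff_not_dvd.2 L.reg) hZ
  have h21 : ∀ z : (P : Subgroup G), z ≠ 1 → θ (z ^ m) = -1 * eta ν h e 1 z := fun z hz => by
    rw [pow_eq_pow_iff_modEq.2 ((orderOf_eq_of_mem_prime L.card z.2 fun h =>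
      hz (Subtype.ext h)).symm ▸ h19), pow_one, D.val z hz, neg_one_mul]
  obtain ⟨k, hk, h22⟩ := F.all ⟨_, H29.Cfsg.IsIrrCharacter.comp_pow D.irr h18⟩ (fun w g => by
    have h22 : w ^ m = w ^ 2 := pow_eq_pow_iff_modEq.2 (h20.of_dvd (orderOf_dvd_natCard w))
    change θ (((w : G) * g) ^ m) = _ * θ (g ^ m)
    rw [(show Commute (w : G) g from (Subgroup.mem_center_iff.1 w.2 g).symm).mul_pow,
      ← Subgroup.coe_pow, hμ, h22, map_pow, MonoidHom.pow_apply])
    (exists_ne H (by nlinarith) not_dvd_one (by simp) h21)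
  have := (H.type_uniq not_dvd_one hk (by simp) fun z hz => (h21 z hz).symm.trans
    ((congrFun (congrArg Subtype.val h22) z).trans (F.val k hk z hz))).2
  rw [h17] at this
  norm_num at this

end H30.PrC
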