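import Cfsg.Agent.H85.DZSpec
import Cfsg.Agent.Rz.H85_DZ_Triv_eq_def

/-! DZ-L: the lifting lemmas `H85.DZ.JobL`. -/

set_option autoImplicit false
set_option linter.unusedSectionVars false

namespace H30.DZ

open Subgroup Cfsg H14 H98 H1.Gold H31.S2 H85.FZ H49.D8 H85.DZ

universe u

variable {G : Type u} [Group G] [Finite G] {Q K R P P' : Subgroup G} {g x : G}

theorem cop2 {n : ℕ} (h : Odd n) : n.Coprime 2 := Nat.coprime_two_right.2 h

/-- The coprime lemma: an element of odd order that normalizes the `2`-group `R` and centralizes a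
self-centralizing subgroup `Q` of `R` centralizes `R`. -/
theorem copr (hR : IsPGroup 2 R) (hg : g ∈ nor R) (ho : Odd (orderOf g)) (hQ : Q ≤ R)
    (hc : g ∈ cen Q) (h : ∀ x ∈ R, x ∈ cen Q → x ∈ Q) : g ∈ cen R := by
  have e : Q ≤ cen (zpowers g) := cen_comm (zpowers_le.2 hc)
  exact zpowers_le.1 (cen_comm (thompson_AB hR (hR.to_le hQ)
    (res_eq_self_of_coprime (by rw [Nat.card_zpowers]; exact cop2 ho))
    (hQ.trans le_normalizer) (zpowers_le.2 hg) (commutator_eq_bot_iff_le_centralizer.2 e)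
    fun x hx => e (h x hx.1 hx.2)))

theorem odd_part (g : G) : ∃ k : ℕ, Odd (orderOf (g ^ 2 ^ k)) :=
  let ⟨k, hk⟩ := H98.exists_pow_coprime (p := 2) (isOfFinOrder_of_finite g)
  ⟨k, Nat.coprime_two_right.1 hk⟩

theorem odd_zpow (h : Odd (orderOf g)) (n : ℤ) : Odd (orderOf (g ^ n)) :=
  Odd.of_dvd_nat h (orderOf_dvd_of_mem_zpowers (zpow_mem_zpowers g n))

/-- `g ^ J` has odd order and `g ^ (2 J + 1)` is a `2`-element. -/
theorem two_odd' (g : G) :
    ∃ J : ℤ, Odd (orderOf (g ^ J)) ∧ ∃ k : ℕ, (g ^ (2 * J + 1)) ^ 2 ^ k = 1 := by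
  obtain ⟨k, hk⟩ := odd_part g
  obtain ⟨a, b, e⟩ : IsCoprime ((orderOf (g ^ 2 ^ k) : ℕ) : ℤ) ((2 ^ (k + 1) : ℕ) : ℤ) :=
    Nat.isCoprime_iff_coprime.2 ((cop2 hk).pow_right _)
  refine ⟨2 ^ k * -b, ?_, k, ?_⟩
  · have := odd_zpow hk (-b)
    rwa [← zpow_natCast, ← zpow_mul, Nat.cast_pow] at this
  · have e' : 2 * (2 ^ k * -b) + 1 = (orderOf (g ^ 2 ^ k) : ℤ) * a := by
      push_cast at e; linear_combination -e
    rw [e', ← zpow_natCast, ← zpow_mul, mul_right_comm, mul_comm _ ((2 ^ k : ℕ) : ℤ), zpow_mul,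
      zpow_mul, zpow_natCast, zpow_natCast, pow_orderOf_eq_one, one_zpow]

theorem two_sup_zpowers (hP : IsPGroup 2 P) (hx : x ∈ nor P) {k : ℕ} (h : x ^ 2 ^ k ∈ P) :
    IsPGroup 2 ↥(P ⊔ zpowers x) := by
  obtain ⟨j, hj⟩ := isPGroup_iff_forall.1 hP _ h
  rw [← pow_mul, ← pow_add] at hj
  exact hP.to_sup_of_normal_left' (isPGroup_zpowers hj) (zpowers_le.2 hx)

/-! ### The stabilizer of a chain -/

def step (A B : Subgroup G) : Subgroup G where
  carrier := {g | g ∈ nor A ∧ ∀ x ∈ B, g * x * g⁻¹ * x⁻¹ ∈ A}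
  one_mem' := ⟨one_mem _, fun x _ => by simpa using one_mem A⟩
  mul_mem' := fun {g h} a b => ⟨mul_mem a.1 b.1, fun x hx => by
    have := mul_mem (conj_mem_of_mem_normalizer a.1 (b.2 x hx)) (a.2 x hx)
    convert this using 1; group⟩
  inv_mem' := fun {g} a => ⟨inv_mem a.1, fun x hx => by
    have := conj_mem_of_mem_normalizer' a.1 (inv_mem (a.2 x hx))
    convert this using 1; group⟩

def stabK : Subgroup G → List (Subgroup G) → Subgroup G
  | A, [] => nor A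
  | A, B :: L => step A B ⊓ stabK B L

theorem mem_stabK {A : Subgroup G} {L : List (Subgroup G)} (h : (A :: L).IsChain (· ≤ ·)) :
    g ∈ stabK A L ↔ g ∈ nor A ∧ Triv g A L := by
  induction L generalizing A with
  | nil => simp [stabK, Triv]
  | cons B L ih =>
    rw [List.isChain_cons_cons] at h
    rw [stabK, mem_inf, ih h.2, Triv]
    refine ⟨fun k => ⟨k.1.1, k.1.2, k.2.2⟩, fun k => ⟨⟨k.1, k.2.1⟩, ?_, k.2.2⟩⟩
    exact mem_normalizer_fintype fun y hy => by simpa using mul_mem (h.1 (k.2.1 y hy)) hy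

theorem chain_le {A : Subgroup G} {L : List (Subgroup G)} (h : (A :: (L ++ [Q])).IsChain (· ≤ ·)) :
    A ≤ Q := by
  induction L generalizing A with
  | nil => simpa using h
  | cons B L ih =>
    rw [List.cons_append, List.isChain_cons_cons] at h
    exact h.1.trans (ih h.2)

theorem stabK_le {A : Subgroup G} {L : List (Subgroup G)} : stabK A (L ++ [Q]) ≤ nor Q := by
  induction L generalizing A with
  | nil => exact inf_le_right
  | cons B L ih => exact inf_le_right.trans ih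

theorem cen_le_step {A B : Subgroup G} (hA : A ≤ Q) (hB : B ≤ Q) : cen Q ≤ step A B :=
  fun g hg => ⟨centralizer_le_normalizer _ (centralizer_le hA hg), fun x hx => by
    rw [mem_cen_iff.1 hg x (hB hx)]; simpa using one_mem A⟩

theorem cen_le_stabK {A : Subgroup G} {L : List (Subgroup G)}
    (h : (A :: (L ++ [Q])).IsChain (· ≤ ·)) : cen Q ≤ stabK A (L ++ [Q]) := by
  induction L generalizing A with
  | nil => exact le_inf (cen_le_step (chain_le h) le_rfl) (centralizer_le_normalizer _)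
  | cons B L ih =>
    have h' := h
    rw [List.cons_append, List.isChain_cons_cons] at h'
    exact le_inf (cen_le_step (chain_le h) (chain_le h'.2)) (ih h'.2)

theorem step_odd {A B : Subgroup G} (hA : IsPGroup 2 A) (hg : g ∈ step A B) (hc : g ∈ cen A)
    (ho : Odd (orderOf g)) : g ∈ cen B := mem_cen_iff.2 fun x hx => by
  have c := hg.2 x hx
  have e := mem_cen_iff.1 hc _ c
  generalize hc' : g * x * g⁻¹ * x⁻¹ = y at c e
  have k : ∀ n : ℕ, g ^ n * x = y ^ n * x * g ^ n := fun n => by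
    induction n with
    | zero => simp
    | succ n ih =>
      have : g * y ^ n = y ^ n * g := (Commute.pow_right e n).eq
      rw [pow_succ' g, mul_assoc, ih, ← mul_assoc, ← mul_assoc, this, pow_succ y, ← hc']; group
  have k1 := k (orderOf g)
  rw [pow_orderOf_eq_one, one_mul, mul_one, right_eq_mul] at k1
  obtain ⟨j, hj⟩ := isPGroup_iff_forall.1 hA y c
  have : y = 1 := by
    rw [← orderOf_eq_one_iff]
    exact Nat.eq_one_of_dvd_coprimes ((cop2 ho).pow_right j) (orderOf_dvd_of_pow_eq_one k1)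
      (orderOf_dvd_of_pow_eq_one hj)
  rw [this, mul_inv_eq_one, mul_inv_eq_iff_eq_mul] at hc'
  exact hc'

theorem stabK_odd {A : Subgroup G} {L : List (Subgroup G)} (hQ : IsPGroup 2 Q)
    (h : (A :: (L ++ [Q])).IsChain (· ≤ ·)) (hg : g ∈ stabK A (L ++ [Q])) (hc : g ∈ cen A)
    (ho : Odd (orderOf g)) : g ∈ cen Q := by
  induction L generalizing A with
  | nil => exact step_odd (hQ.to_le (chain_le h)) hg.1 hc ho
  | cons B L ih =>
    have h' := h
    rw [List.cons_append, List.isChain_cons_cons] at h'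
    exact ih h'.2 hg.2 (step_odd (hQ.to_le (chain_le h)) hg.1 hc ho)

theorem nor_stabK {A : Subgroup G} {L : List (Subgroup G)} (hA : g ∈ nor A)
    (h : ∀ R ∈ L, g ∈ nor R) : g ∈ nor (stabK A L) := by
  induction L generalizing A with
  | nil => exact le_normalizer hA
  | cons B L ih =>
    have hB := h B List.mem_cons_self
    refine inf_normalizer_le_normalizer_inf ⟨mem_normalizer_fintype fun y hy => ⟨?_, fun x hx => ?_⟩,
      ih hB fun R hR => h R (List.mem_cons_of_mem _ hR)⟩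
    · exact mul_mem (mul_mem hA hy.1) (inv_mem hA)
    · have := conj_mem_of_mem_normalizer hA (hy.2 _ (conj_mem_of_mem_normalizer' hB hx))
      convert this using 1; group

/-! ### Frattini -/

theorem st_decomp (h : St Q K) (hR : IsSyl 2 R K) (hg : g ∈ K) :
    ∃ r ∈ R, ∃ c ∈ cen Q, g = r * c := by
  obtain ⟨r, hr, c, hc, e⟩ := hR.exists_mul_res hg
  exact ⟨r, hr, c, res_le_of_forall (fun x hx k => h.odd x hx (Nat.coprime_two_right.1 k)) hc,
    e⟩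

theorem st_frat (h : St Q K) (hR : IsSyl 2 R K) (hg : g ∈ nor K) : ∃ c ∈ cen Q, c * g ∈ nor R := by
  obtain ⟨a, ha, n, hn, e⟩ := hR.frattini_mem (inv_mem hg)
  obtain ⟨r, hr, c, hc, rfl⟩ := st_decomp h hR hn
  refine ⟨c, hc, ?_⟩
  rw [← inv_inv g, e]
  simpa [mul_assoc] using mul_mem (inv_mem (le_normalizer hr)) (inv_mem ha)

theorem st_adj (h : St Q K) (hP : IsPGroup 2 P) (hP' : IsPGroup 2 P') (h1 : P ≤ K) (h2 : P' ≤ K) :
    ∃ c ∈ cen Q, IsPGroup 2 ↥(P ⊔ cj c P') := by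
  obtain ⟨R, hR, e⟩ := exists_isSyl_le hP h1
  obtain ⟨g, hg, e'⟩ := hR.exists_cj_le hP' h2
  obtain ⟨r, hr, c, hc, rfl⟩ := st_decomp h hR hg
  rw [← cj_cj, cj_le_iff, cj_eq_self_of_mem (inv_mem hr)] at e'
  exact ⟨c, hc, hR.isPGroup.to_le (sup_le e e')⟩

theorem st_lift (h : St Q K) (hQ : Q ≤ K) (hc : ∀ x ∈ cen Q, x ∈ R → x ∈ Q) (hR : IsSyl 2 R K)
    {s σ : G} (sR : s ∈ nor R) (sQ : s ∈ nor Q) (ss : s * s = 1) (σK : σ ∈ nor K) (σQ : σ ∈ nor Q)
    (h3 : σ * σ * σ ∈ cen Q) (h2 : s * σ * s * σ ∈ cen Q) :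
    ∃ c ∈ cen Q, c * σ ∈ nor R ∧ s * (c * σ) * s = (c * σ)⁻¹ ∧
      c * σ * (c * σ) * (c * σ) ∈ cen R := by
  have QR : Q ≤ R := hR.le_of_le_normalizer h.two hQ (hR.le.trans h.le)
  obtain ⟨c, c1, c2⟩ := st_frat h hR σK
  have key : ∀ y : nor Q, Q.normalizerMonoidHom y = 1 ↔ (y : G) ∈ cen Q := fun y => by
    rw [← MonoidHom.mem_ker, normalizerMonoidHom_ker, mem_subgroupOf]
  generalize Q.normalizerMonoidHom = φ at key
  have cQ := centralizer_le_normalizer _ c1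
  have e0 := (key ⟨c, cQ⟩).2 c1
  have e3 := (key (⟨σ, σQ⟩ * ⟨σ, σQ⟩ * ⟨σ, σQ⟩)).2 h3
  have e2 := (key (⟨s, sQ⟩ * ⟨σ, σQ⟩ * ⟨s, sQ⟩ * ⟨σ, σQ⟩)).2 h2
  simp only [map_mul] at e2 e3
  obtain ⟨y, hy⟩ : ∃ y : nor Q, y = ⟨s, sQ⟩ * (⟨c, cQ⟩ * ⟨σ, σQ⟩) * ⟨s, sQ⟩ * (⟨c, cQ⟩ * ⟨σ, σQ⟩)⁻¹ :=
    ⟨_, rfl⟩
  have y0 : (y : G) = s * (c * σ) * s * (c * σ)⁻¹ := by rw [hy]; rfl
  have y1 : φ y = φ ⟨σ, σQ⟩ := by
    rw [hy]
    simp only [map_mul, map_inv, e0, one_mul]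
    rw [eq_inv_of_mul_eq_one_left e2, ← mul_inv_rev, inv_eq_of_mul_eq_one_right e3]
  have y2 : (y : G) ∈ nor R := y0 ▸ mul_mem (mul_mem (mul_mem sR c2) sR) (inv_mem c2)
  have y3 : s * (y : G) * s⁻¹ = (y : G)⁻¹ := by
    rw [y0, ← mul_assoc, ← mul_assoc, ← mul_assoc, ss, one_mul, mul_inv_rev (_ * s), inv_inv,
      mul_inv_rev _ s, mul_inv_rev s, inv_eq_of_mul_eq_one_right ss]
    simp only [mul_assoc]
  obtain ⟨k, hk⟩ := odd_part (y : G)
  have z1 : φ (y ^ 4 ^ k) = φ ⟨σ, σQ⟩ := by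
    rw [map_pow, y1, pow_eq_pow_mod _ (show φ ⟨σ, σQ⟩ ^ 3 = 1 by rw [pow_three', e3]), Nat.pow_mod]
    norm_num
  have z2 : Odd (orderOf ((y : G) ^ 4 ^ k)) := by
    rw [show 4 ^ k = 2 ^ k * 2 ^ k from mul_pow 2 2 k, pow_mul]
    exact Odd.of_dvd_nat hk (orderOf_pow_dvd _)
  have z3 : (y : G) ^ 4 ^ k * σ⁻¹ ∈ cen Q := (key (y ^ 4 ^ k * (⟨σ, σQ⟩ : nor Q)⁻¹)).1 (by
    rw [map_mul, z1, map_inv, mul_inv_cancel])
  have z4 : (y : G) ^ 4 ^ k * y ^ 4 ^ k * y ^ 4 ^ k ∈ cen Q :=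
    (key (y ^ 4 ^ k * y ^ 4 ^ k * y ^ 4 ^ k)).1 (by rw [map_mul, map_mul, z1, e3])
  have z5 := pow_mem y2 (4 ^ k)
  refine ⟨_, z3, ?_⟩
  rw [inv_mul_cancel_right]
  refine ⟨z5, ?_, copr hR.isPGroup (mul_mem (mul_mem z5 z5) z5) ?_ QR z4 fun x a b => hc x b a⟩
  · rw [← inv_pow, ← y3, conj_pow, inv_eq_of_mul_eq_one_right ss]
  · rw [← pow_three']
    exact Odd.of_dvd_nat z2 (orderOf_pow_dvd _)

/-! ### Dihedral groups modulo `Q C(Q)` -/

theorem st_base (hQ : IsPGroup 2 Q) : St Q (Q ⊔ cen Q) :=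
  ⟨hQ, le_sup_right, sup_le le_normalizer (centralizer_le_normalizer _), fun g hg ho =>
    res_sup_le_right hQ (le_normalizer.trans (H98.normalizer_le_normalizer_centralizer Q))
      (mem_res_of_coprime hg (cop2 ho))⟩

theorem st_ext (h : St Q K) (xQ : x ∈ nor Q) (xK : x ∈ nor K) {k : ℕ} (hk : x ^ 2 ^ k ∈ K) :
    St Q (K ⊔ zpowers x) := by
  refine ⟨h.two, h.ge.trans le_sup_left, sup_le h.le (zpowers_le.2 xQ), fun g hg ho => ?_⟩
  obtain ⟨J, hJ, j, hj⟩ := two_odd' x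
  have e1 : x ^ J ∈ K := mem_of_pow_mem_of_coprime (n := 2 ^ k) (by
    rw [← zpow_natCast, ← zpow_mul, mul_comm, zpow_mul, zpow_natCast]; exact zpow_mem hk J)
    ((cop2 hJ).pow_right k)
  have e2 : K ⊔ zpowers x ≤ zpowers (x ^ (2 * J + 1)) ⊔ K := sup_le le_sup_right (zpowers_le.2 (by
    have := mul_mem (mem_sup_left (T := K) (mem_zpowers (x ^ (2 * J + 1))))
      (mem_sup_right (zpow_mem e1 (-2)))
    rwa [← zpow_mul, ← zpow_add, show 2 * J + 1 + J * -2 = 1 by ring, zpow_one] at this))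
  exact h.odd g (res_sup_le_right (isPGroup_zpowers hj) (zpowers_le.2 (zpow_mem xK _))
    (mem_res_of_coprime (e2 hg) (cop2 ho))) ho

theorem adj1 (hQ : IsPGroup 2 Q) {Y X : G} {k : ℕ} (hY : Y ∈ nor Q) (hX : X ∈ nor Q)
    (Y2 : Y * Y ∈ Q) (X2 : X * X ∈ Q) (h : (Y * X) ^ 2 ^ k ∈ Q ⊔ cen Q) :
    ∃ c ∈ cen Q, IsPGroup 2 ↥(Q ⊔ cl [Y, c * X * c⁻¹]) := by
  have nM : nor Q ≤ nor (Q ⊔ cen Q) :=
    H98.le_normalizer_sup le_rfl (H98.normalizer_le_normalizer_centralizer Q)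
  have h1 := st_ext (st_base hQ) (mul_mem hY hX) (nM (mul_mem hY hX)) h
  have QK : Q ≤ Q ⊔ cen Q ⊔ zpowers (Y * X) := le_sup_left.trans le_sup_left
  have h2 := st_ext h1 hY (k := 1) (mem_normalizer_of_cj_le (by
    rw [cj_sup, cj_eq_self (nM hY), cj_zpowers]
    refine sup_le le_sup_left (zpowers_le.2 ?_)
    have := mul_mem (mul_mem (QK Y2) (QK X2)) (inv_mem (mem_sup_right (mem_zpowers (Y * X))))
    convert this using 1; group)) (by simpa [pow_two] using QK Y2)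
  have eY := mem_sup_right (S := Q ⊔ cen Q ⊔ zpowers (Y * X)) (mem_zpowers Y)
  obtain ⟨c, hc, e⟩ := st_adj h2 (two_sup_zpowers hQ hY (k := 1) (by simpa [pow_two] using Y2))
    (two_sup_zpowers hQ hX (k := 1) (by simpa [pow_two] using X2))
    (sup_le (QK.trans le_sup_left) le_sup_right) (sup_le (QK.trans le_sup_left) (zpowers_le.2 (by
      simpa using mul_mem (inv_mem eY) (mem_sup_left (mem_sup_right (mem_zpowers (Y * X)))))))
  refine ⟨c, hc, e.to_le (sup_le (le_sup_left.trans le_sup_left) (cl_le.2 ?_))⟩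
  simp only [List.mem_cons, List.not_mem_nil, or_false, forall_eq_or_imp, forall_eq]
  exact ⟨mem_sup_left (mem_sup_right (mem_zpowers Y)),
    mem_sup_right (conj_mem_cj (mem_sup_right (mem_zpowers X)))⟩

theorem adj3 (hQ : IsPGroup 2 Q) (h2 : ∀ R ≤ cen Q, IsPGroup 2 R → R ≤ Q) {Y X : G}
    (YY : Y * Y = 1) (XX : X * X = 1) (h : Y * X * (Y * X * (Y * X)) ∈ Q ⊔ cen Q) :
    ∃ m ∈ Q, ∃ c ∈ cen Q, Y * X * (Y * X * (Y * X)) * m⁻¹ ∈ cen Q ∧
      c * (X * Y) * X * (c * (X * Y))⁻¹ = Y * m := by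
  have i1 : X * Y = (Y * X)⁻¹ := by
    rw [mul_inv_rev, inv_eq_of_mul_eq_one_right XX, inv_eq_of_mul_eq_one_right YY]
  have i2 : X = Y * (Y * X) := by rw [← mul_assoc, YY, one_mul]
  have i3 : Y * (Y * X) * Y⁻¹ = (Y * X)⁻¹ := by
    rw [← i2, inv_eq_of_mul_eq_one_right YY, i1]
  rw [← pow_three] at h ⊢
  rw [i1]
  nth_rw 3 [i2]
  generalize Y * X = c at h i3
  obtain ⟨J, hJ, k, hk⟩ := two_odd' (c ^ 3)
  have o := (st_base hQ).odd _ (zpow_mem h J) hJ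
  refine ⟨(c ^ 3) ^ (2 * J + 1), ?_, _, inv_mem o, ?_, ?_⟩
  · obtain ⟨q, hq, r, hr, e⟩ := (mem_sup_left_norm
      (le_normalizer.trans (H98.normalizer_le_normalizer_centralizer Q))).1 (zpow_mem h (2 * J + 1))
    obtain ⟨j, hj⟩ := isPGroup_iff_forall.1 hQ q hq
    have cm : Commute q r := (mem_cen_iff.1 hr q hq).symm
    have : r ^ 2 ^ (k + j) = 1 := by
      have a1 : q ^ 2 ^ (k + j) = 1 := by rw [pow_add, pow_mul', hj, one_pow]
      have a2 : (q * r) ^ 2 ^ (k + j) = 1 := by rw [pow_add, pow_mul, ← e, hk, one_pow]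
      rwa [cm.mul_pow, a1, one_mul] at a2
    rw [e]
    exact mul_mem hq (h2 _ (zpowers_le.2 hr) (isPGroup_zpowers this) (mem_zpowers r))
  · have := zpow_mem o (-2)
    convert this using 1; group
  · have a : ∀ n : ℤ, c ^ (-n) * Y = Y * c ^ n := fun n => by
      rw [zpow_neg, ← inv_zpow, ← i3, conj_zpow, inv_mul_cancel_right]
    calc _ = c ^ (-(3 * J + 1)) * Y * c ^ (3 * J + 2) := by group
      _ = _ := by rw [a]; group

theorem jobL : JobL.{u} where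
  stab G _ _ L Q h hQ := ⟨stabK ⊥ (L ++ [Q]), ⟨hQ, cen_le_stabK h, stabK_le, fun g hg ho =>
      stabK_odd hQ h hg (mem_cen_iff.2 fun x hx => by rw [mem_bot.1 hx, mul_one, one_mul]) ho⟩,
    fun g => (mem_stabK h).trans (and_iff_right (by rw [nor, normalizer_eq_top]; trivial)),
    fun g hg => nor_stabK (by rw [nor, normalizer_eq_top]; trivial) hg⟩
  lift0 G _ _ Q K P h hP hn := by
    obtain ⟨S, hS, e⟩ := exists_isSyl_le hP (le_sup_right (a := K))
    have := hS.inf_of_le_normalizer le_sup_left (hS.le.trans (sup_le le_normalizer hn))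
    exact ⟨S ⊓ K, this, H98.le_normalizer_inf (e.trans le_normalizer) hn, inf_le_inf_right _ e,
      fun g hg => st_frat h this hg⟩
  lift G _ _ Q K R s σ h hQ hc hR sR sQ ss σK σQ h3 h2 := st_lift h hQ hc hR sR sQ ss σK σQ h3 h2
  adj G _ _ Q K P P' h hP hP' h1 h2 := st_adj h hP hP' h1 h2
  adj1 G _ _ Q Y X k hQ hY hX Y2 X2 h := adj1 hQ hY hX Y2 X2 h
  adj3 G _ _ Q Y X hQ h2 _ _ YY XX h := adj3 hQ h2 YY XX h

end H30.DZ
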