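import Cfsg.Agent.H85.DZKit
import Cfsg.Agent.H9.SecBase

/-! DZ-D: the normal form of `d` and the case that `T*` is Sylow in `G` (`H85.DZ.JobD`). -/

set_option autoImplicit false
set_option linter.unusedSectionVars false

namespace H30.DZ

open Subgroup Cfsg H14 H98 H1.Gold H31.S2 H85.FZ H49.D8 H62.FZ H85.DZ

universe u

theorem sec_of_pow {P : Type u} [Group P] [Finite P] {n : ℕ} (hn : n = 1 ∨ n = 2)
    (hc : Nat.card P = 32 * n) {x : P} (hx : x ^ (2 * n) ≠ 1) : SectionalPRankLE 2 4 P := by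
  refine H9.Sec.sec_of fun H K sq => not_lt.1 fun lt => hx ?_
  have h1 := (K.subgroupOf H).card_mul_index
  have h2 := H.card_mul_index
  rw [← h1, hc] at h2
  have h3 : Nat.card (K.subgroupOf H) * H.index ∣ n := by
    change 16 < (K.subgroupOf H).index at lt
    rw [mul_right_comm] at h2
    generalize Nat.card (K.subgroupOf H) * H.index = m at h2
    generalize (K.subgroupOf H).index = r at h2 lt
    have : r ∣ 64 := (Dvd.intro_left _ h2).trans (by rcases hn with rfl | rfl <;> decide)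
    have := Nat.le_of_dvd (by decide) this
    have : r = 32 ∨ r = 64 := by interval_cases r <;> omega
    rcases this with rfl | rfl
    · rw [show m = n by omega]
    · rw [show m = 1 by omega]; exact one_dvd _
  have h4 : x ^ H.index ∈ H := by
    have : H.index ∣ 2 := ((Dvd.intro_left _ rfl).trans h3).trans (by rcases hn with rfl | rfl <;> decide)
    rcases (Nat.dvd_prime Nat.prime_two).1 this with e | e
    · rw [index_eq_one.1 e]; trivial
    · rw [e]; exact sq_mem_of_index_two e x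
  have h5 := congrArg (fun y : K.subgroupOf H => ((y : H) : P)) (pow_card_eq_one'
    (x := (⟨⟨_, mul_mem h4 h4⟩, sq _ h4⟩ : K.subgroupOf H)))
  obtain ⟨j, rfl⟩ := h3
  simp only [SubmonoidClass.coe_pow, OneMemClass.coe_one] at h5
  rw [← pow_two, ← pow_mul, ← pow_mul] at h5
  rw [show 2 * (Nat.card (K.subgroupOf H) * H.index * j) =
    H.index * (2 * Nat.card (K.subgroupOf H)) * j by ring, pow_mul, h5, one_pow]

variable {G : Type u} [Group G] [Finite G] {t v s u a σ ρ d x n : G} {S : Subgroup G}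

theorem sec_of_syl (hS : IsSyl 2 S ⊤) {n : ℕ} (hn : n = 1 ∨ n = 2) (hc : Nat.card S = 32 * n)
    (hx : x ∈ S) (h : x ^ (2 * n) ≠ 1) : SectionalPRankLE 2 4 G :=
  H9.Sec.sec_of_sylow hS.toSylowTop (sec_of_pow hn hc (x := ⟨x, hx⟩) fun e =>
    h (by simpa using congrArg Subtype.val e))

/-- A Sylow subgroup of `C(t)` that is not Sylow in `G`. -/
theorem exists_move (hS : IsSyl 2 S (cen1 t)) (h : ¬ IsSyl 2 S ⊤) :
    ∃ n ∈ nor S, n * t * n⁻¹ ≠ t := by
  obtain ⟨n, -, n1, n2, n3⟩ := ext_of_not_syl hS.isPGroup le_top h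
  exact ⟨n, n1, fun e => n2 ((hS.eq_of_le (isPGroup_ext hS.isPGroup n1 n3) le_sup_right
    (sup_le (zpowers_le.2 (mem_cen1.2 (mul_inv_eq_iff_eq_mul.1 e))) hS.le)).le
    (mem_sup_left (mem_zpowers n)))⟩

/-- `T` has index `2` in the `2`-subgroup `T ⟨d⟩` of `C(t)`. -/
structure Pre (t : G) (T : Subgroup G) (d : G) : Prop where
  le : T ≤ cen1 t
  c : d ∈ cen1 t
  n : d ∈ nor T
  out : d ∉ T
  sq : d * d ∈ T

theorem Pre.mul_left (h : Pre t S d) (hx : x ∈ S) : Pre t S (x * d) :=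
  ⟨h.le, mul_mem (h.le hx) h.c, mul_mem (le_normalizer hx) h.n,
    fun e => h.out ((mul_mem_cancel_left hx).1 e), by
      have := mul_mem (mul_mem hx (conj_mem_of_mem_normalizer h.n hx)) h.sq
      convert this using 1; group⟩

theorem Pre.mul_right (h : Pre t S d) (hx : x ∈ S) : Pre t S (d * x) := by
  simpa using h.mul_left (conj_mem_of_mem_normalizer h.n hx)

theorem Pre.dt (h : Pre t S d) : d * t * d⁻¹ = t := mul_inv_eq_iff_eq_mul.2 (mem_cen1.1 h.c)

theorem Pre.syl {l : List G} (h : Pre t (cl l) d) (hT : IsPGroup 2 (cl l)) {ψ : cen1 t →* ℤˣ}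
    (hS : IsSyl 2 (cl l) (ψ.ker.map (cen1 t).subtype)) : IsSyl 2 (cl (l ++ [d])) (cen1 t) ∧
      (∀ x : cen1 t, (x : G) ∈ cl l → ψ x = 1) ∧ ∀ e, ψ ⟨d, e⟩ = -1 := by
  have k0 : ∀ x : cen1 t, (x : G) ∈ ψ.ker.map (cen1 t).subtype ↔ ψ x = 1 := fun x =>
    mem_map_iff_mem (cen1 t).subtype_injective
  have k1 : ∀ Q : Subgroup G, IsPGroup 2 Q → cl l ≤ Q → ∀ x : cen1 t, (x : G) ∈ Q → ψ x = 1 →
      (x : G) ∈ cl l := fun Q hQ le x hx e =>
    (hS.eq_of_le (hQ.to_le inf_le_left) (le_inf le hS.le) inf_le_right).le ⟨hx, (k0 x).2 e⟩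
  have two := isPGroup_ext hT h.n h.sq
  have k2 : ∀ e, ψ ⟨d, e⟩ = -1 := fun e => (Int.units_eq_one_or _).resolve_left fun e' =>
    h.out (k1 _ two le_sup_right ⟨d, e⟩ (mem_sup_left (mem_zpowers d)) e')
  have m : d ∈ cl (l ++ [d]) := mem_cl (by simp)
  have le : cl l ≤ cl (l ++ [d]) := cl_mono (by simp)
  have up : ∀ K : Subgroup G, cl l ≤ K → d ∈ K → cl (l ++ [d]) ≤ K := fun K h1 h2 =>
    cl_le.2 fun y hy => (List.mem_append.1 hy).elim (fun e => h1 (mem_cl e))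
      fun e => List.mem_singleton.1 e ▸ h2
  refine ⟨⟨up _ h.le h.c, two.to_le (up _ le_sup_right (mem_sup_left (mem_zpowers d))),
    fun Q hQ a b => le_antisymm (fun y hy => ?_) a⟩, fun x hx => (k0 x).1 (hS.le hx), k2⟩
  rcases Int.units_eq_one_or (ψ ⟨y, b hy⟩) with e | e
  · exact le (k1 Q hQ (le.trans a) _ hy e)
  · exact (mul_mem_cancel_left m).1 (le (k1 Q hQ (le.trans a) (⟨d, h.c⟩ * ⟨y, b hy⟩)
      (mul_mem (a m) hy) (by rw [map_mul, e, k2]; rfl)))

theorem conj_inj {g x y : G} (e : g * x * g⁻¹ = g * y * g⁻¹) : x = y := by simpa using e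

/-- An element of `C(t) ∩ N(T)` that maps `A` to `B`. -/
theorem half (h : Lc t v s u a σ ρ) (dt : d * t * d⁻¹ = t) (dT : d ∈ nor (cl [a, u, v, t, s]))
    (e : cj d (cl [a, u, v, t]) = cl [u, a, s, t]) :
    (d * v * d⁻¹ = s ∨ d * v * d⁻¹ = s * (u * a)) ∧ (d * u * d⁻¹ = a ∨ d * u * d⁻¹ = t * a) := by
  have dz := h.toTr.gz dT
  have ne : ∀ {w w' : List ℕ}, tbT.eqv w w' = false →
      W (val [a, u, v, t, s]) w ≠ W (val [a, u, v, t, s]) w' := fun k => h.pres.ne h.ind k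
  have σz : σ * (u * a) * σ⁻¹ = v := by
    rw [← conj_mul, h.A.σu, h.A.σa, ← mul_assoc, h.uv, mul_assoc, h.uu, mul_one]
  have tr : ∀ {x y : G}, σ * x * σ⁻¹ = y →
      d * σ * d⁻¹ * (d * x * d⁻¹) * (d * σ * d⁻¹)⁻¹ = d * y * d⁻¹ := fun k => by rw [← k]; group
  have g1 := tr h.A.σt
  have g2 := tr h.A.σu
  have g3 := tr σz
  have g4 : d * σ * d⁻¹ ∈ nor (cl [u, a, s, t]) := by
    rw [← e, nor, ← cj_normalizer]; exact conj_mem_cj (hnorA h.A)
  rw [dt] at g1
  rw [dz] at g3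
  generalize d * σ * d⁻¹ = g at g1 g2 g3 g4
  obtain ⟨ga, -, gz⟩ := nA_fix (lc_swap h) (mul_inv_eq_iff_eq_mul.1 g1) g4
  rw [h.au, g3] at gz
  have nz : d * v * d⁻¹ ≠ u * a := fun k =>
    ne (w := [2]) (w' := [1, 0]) rfl (by simpa using conj_inj (k.trans dz.symm))
  refine ⟨gz.imp_right fun k => k.resolve_left nz, ?_⟩
  have nu : g * u * g⁻¹ ≠ u := fun k => nz (by rw [← g3, ← conj_mul, k, ga])
  obtain ⟨w, hw, k⟩ := h.toTr.conj_zw dT (c := [1]) (by decide)
  simp only [W_cons, W_nil, val_zero, val_succ, mul_one] at k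
  rw [k] at g2
  simp only [ZW, List.mem_cons, List.not_mem_nil, or_false] at hw
  rcases hw with rfl | rfl | rfl | rfl | rfl | rfl | rfl | rfl <;>
    simp only [W_cons, W_nil, val_zero, val_succ, mul_one] at k g2
  · exact (ne (w := [1]) (w' := []) rfl (by simpa using conj_eq_one_iff.1 k)).elim
  · exact Or.inl k
  · exact (nu g2).elim
  · exact (nu (by rwa [← conj_mul, ga, mul_left_inj] at g2)).elim
  · exact (ne (w := [1]) (w' := [3]) rfl (by simpa using conj_inj (k.trans dt.symm))).elim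
  · exact Or.inr k
  · exact (nu (by rwa [← conj_mul, g1, mul_right_inj] at g2)).elim
  · exact (nu (by rwa [← conj_mul, ← conj_mul, g1, ga, mul_right_inj, mul_left_inj] at g2)).elim

theorem Pre.half (h : Lc t v s u a σ ρ) (k : Pre t (cl [a, u, v, t, s]) d) :
    (d * v * d⁻¹ = s ∨ d * v * d⁻¹ = s * (u * a)) ∧ (d * s * d⁻¹ = v ∨ d * s * d⁻¹ = v * (u * a)) ∧
      (d * u * d⁻¹ = a ∨ d * u * d⁻¹ = t * a) := by
  have e := (nor_or h.toTr k.n).resolve_left fun e => k.out (two h (isPGroup_ext h.isPGroup k.n k.sq)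
    le_sup_right (mem_sup_left (mem_zpowers d)) (mem_cen1.1 k.c) e.1.2)
  have a1 := DZ.half h k.dt k.n e.1
  have a2 := DZ.half (lc_swap h) k.dt (by rw [cl_swap]; exact k.n) e.2
  exact ⟨a1.1, h.au ▸ a2.1, a1.2⟩

/-- The action of `d` in the case `u ↦ t a`. -/
def fe : List (ℕ × List ℕ) := [(0, [3, 1]), (1, [3, 0]), (2, [4]), (4, [2])]

/-- The possible squares of `d`. -/
def qs : List (List ℕ) := [[], [3], [1, 0], [3, 1, 0]]

theorem exists_nf (h : Lc t v s u a σ ρ) (k : Pre t (cl [a, u, v, t, s]) d) :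
    ∃ d, Pre t (cl [a, u, v, t, s]) d ∧ ∃ f ∈ [fd, fe], ∃ q ∈ qs,
      Act (val [a, u, v, t, s]) d (List.range 5) f ∧ d * d = W (val [a, u, v, t, s]) q := by
  have mv : v ∈ cl [a, u, v, t, s] := mem_cl (by simp)
  have iv := inv_eq_of_mul_eq_one_right h.vv
  have dz := fun {d : G} (k : Pre t (cl [a, u, v, t, s]) d) => h.toTr.gz k.n
  obtain ⟨d, k, dv⟩ : ∃ d, Pre t (cl [a, u, v, t, s]) d ∧ d * v * d⁻¹ = s := by
    rcases (k.half h).1 with e | e
    · exact ⟨d, k, e⟩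
    · refine ⟨v * d, k.mul_left mv, ?_⟩
      calc _ = v * (d * v * d⁻¹) * v⁻¹ := by group
        _ = _ := by
          rw [e, iv]; simpa [mul_assoc] using h.pres.W_eq (w := [2, 4, 1, 0, 2]) (w' := [4]) rfl
  obtain ⟨d, k, dv, ds⟩ : ∃ d, Pre t (cl [a, u, v, t, s]) d ∧ d * v * d⁻¹ = s ∧ d * s * d⁻¹ = v := by
    rcases (k.half h).2.1 with e | e
    · exact ⟨d, k, dv, e⟩
    · refine ⟨d * v, k.mul_right mv, by rw [← dv]; group, ?_⟩
      calc _ = d * (v * s * v⁻¹) * d⁻¹ := by group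
        _ = d * s * d⁻¹ * (d * (u * a) * d⁻¹) := by
          rw [conj_mul, iv, show v * s * v = s * (u * a) by
            simpa [mul_assoc] using h.pres.W_eq (w := [2, 4, 2]) (w' := [4, 1, 0]) rfl]
        _ = _ := by rw [e, dz k, mul_assoc, zz h.toTr, mul_one]
  have da : d * a * d⁻¹ = d * u * d⁻¹ * (u * a) := by
    rw [← dz k, conj_mul, ← mul_assoc u, h.uu, one_mul]
  obtain ⟨f, hf, A⟩ : ∃ f ∈ [fd, fe], Act (val [a, u, v, t, s]) d (List.range 5) f := by
    rcases (k.half h).2.2 with e | e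
    · refine ⟨fd, by simp, fun r hr => ?_⟩
      have hr := List.mem_range.1 hr
      interval_cases r <;> simp only [fd] <;> wsimp
      exacts [by rw [da, e]; simpa [mul_assoc] using h.pres.W_eq (w := [0, 1, 0]) (w' := [1]) rfl,
        e, dv, k.dt, ds]
    · refine ⟨fe, by simp, fun r hr => ?_⟩
      have hr := List.mem_range.1 hr
      interval_cases r <;> simp only [fe] <;> wsimp
      exacts [by rw [da, e]; simpa [mul_assoc] using h.pres.W_eq (w := [3, 0, 1, 0]) (w' := [3, 1]) rfl,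
        e, dv, k.dt, ds]
  obtain ⟨w, hw, e⟩ := h.pres.mem_cl rfl 5 le_rfl k.sq
  obtain ⟨k1, k2⟩ := (by decide +kernel : ∀ f ∈ [fd, fe], ∀ w ∈ subs 5,
    w.all (· ∈ List.range 5) = true ∧ (tbT.eqv (w ++ [2]) (2 :: w) = true →
      tbT.eqv (w ++ [4]) (4 :: w) = true → tbT.eqv (app f w) w = true → w ∈ qs)) f hf w hw
  refine ⟨d, k, f, hf, w, k2 (h.pres.eqv h.ind ?_) (h.pres.eqv h.ind ?_) (h.pres.eqv h.ind ?_), A, e⟩
  · simp only [W_append, W_cons, W_nil, val_zero, val_succ, mul_one, ← e]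
    calc _ = d * (d * v * d⁻¹) * d⁻¹ * (d * d) := by group
      _ = _ := by rw [dv, ds]
  · simp only [W_append, W_cons, W_nil, val_zero, val_succ, mul_one, ← e]
    calc _ = d * (d * s * d⁻¹) * d⁻¹ * (d * d) := by group
      _ = _ := by rw [ds, dv]
  · rw [← A.w k1, ← e]; group

theorem mkDd (h : Tr t v s u a) (k : Pre t (cl [a, u, v, t, s]) d) {ψ : cen1 t →* ℤˣ}
    (hS : IsSyl 2 (cl [a, u, v, t, s]) (ψ.ker.map (cen1 t).subtype))
    (A : Act (val [a, u, v, t, s]) d (List.range 5) fd) (e : d * d = 1 ∨ d * d = t) :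
    Dd t v s u a d :=
  have ⟨k1, k2⟩ := k.syl h.isPGroup hS
  ⟨k.dt, by simpa [app, fd] using A 2 (by decide), by simpa [app, fd] using A 4 (by decide),
    by simpa [app, fd] using A 0 (by decide), by simpa [app, fd] using A 1 (by decide), e, k1, ψ, k2⟩

theorem exists_Dd (h : Tr t v s u a) (k : Pre t (cl [a, u, v, t, s]) d) {ψ : cen1 t →* ℤˣ}
    (hS : IsSyl 2 (cl [a, u, v, t, s]) (ψ.ker.map (cen1 t).subtype))
    (A : Act (val [a, u, v, t, s]) d (List.range 5) fd) {q : List ℕ} (hq : q ∈ qs)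
    (e : d * d = W (val [a, u, v, t, s]) q) : ∃ d, Dd t v s u a d := by
  have A' : Act (val [a, u, v, t, s]) (d * u) (List.range 5) fd := fun r hr => by
    rw [← A r hr]
    have := h.pres.W_eq ((by decide +kernel : ∀ r ∈ List.range 5, tbT.same [1, r] [r, 1] = true) r hr)
    simp only [W_cons, W_nil, val_zero, val_succ, mul_one] at this
    rw [mul_assoc d, this]; group
  have e' : d * u * (d * u) = W (val [a, u, v, t, s]) (0 :: (q ++ [1])) := by
    have : d * u * d⁻¹ = a := by simpa [app, fd] using A 1 (by decide)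
    simp only [W_append, W_cons, W_nil, val_zero, val_succ, mul_one, ← e]
    rw [← this]; group
  have k' := k.mul_right (mem_cl (y := u) (by simp))
  simp only [qs, List.mem_cons, List.not_mem_nil, or_false] at hq
  rcases hq with rfl | rfl | rfl | rfl
  · exact ⟨d, mkDd h k hS A (Or.inl e)⟩
  · exact ⟨d, mkDd h k hS A (Or.inr (by simpa using e))⟩
  · exact ⟨_, mkDd h k' hS A' (Or.inl (e'.trans (h.pres.W_eq (w' := []) rfl)))⟩
  · exact ⟨_, mkDd h k' hS A' (Or.inr (e'.trans ((h.pres.W_eq (w' := [3]) rfl).trans (by simp))))⟩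

theorem nf_pres (h : Tr t v s u a) {f : List (ℕ × List ℕ)} (hf : f ∈ [fd, fe]) {q : List ℕ}
    (hq : q ∈ qs) (A : Act (val [a, u, v, t, s]) d (List.range 5) f)
    (e : d * d = W (val [a, u, v, t, s]) q) : Pres (tbT.ext f q) (val [a, u, v, t, s, d]) := by
  obtain ⟨k1, k2, k3⟩ := (by decide +kernel : ∀ f ∈ [fd, fe], ∀ q ∈ qs,
    ok tbT (List.range 5) (List.range 5) f = true ∧
    agree tbT (List.range 5) (cp tbT (List.range 5) f f) [] = true ∧
    ((List.range tbT.n).all (fun r => (app f [r]).all (· < tbT.n)) && q.all (· < tbT.n)) = true)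
    f hf q hq
  exact h.pres.snoc rfl rfl (act_inv h.pres A k1 k2) e k3

/-- `T ⟨d⟩` has order `64` and an element of order `8`. -/
theorem sec64 {T : Tb} (P : Pres T (val [a, u, v, t, s, d])) (I : Ind (val [a, u, v, t, s, d]) T.n)
    (wf : T.wf = true) (hn : T.n = 6) (k : T.eqv [5, 2, 5, 2, 5, 2, 5, 2] [] = false)
    (hS : IsSyl 2 (cl [a, u, v, t, s, d]) ⊤) : SectionalPRankLE 2 4 G := by
  have c := P.card wf hn.ge (hn ▸ I)
  rw [H_val] at c
  refine sec_of_syl hS (Or.inr rfl) c (x := d * v) (mul_mem (mem_cl (by simp)) (mem_cl (by simp)))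
    fun e => P.ne I k ?_
  simpa [pow_succ, mul_assoc] using e

/-- The case `u ↦ t a`: `t` is fixed by the normalizer of `T ⟨d⟩`. -/
theorem bad_fix {q : List ℕ} (hq : q ∈ qs) (P : Pres (tbT.ext fe q) (val [a, u, v, t, s, d]))
    (I : Ind (val [a, u, v, t, s, d]) 6) (hc : cl [a, u, v, t, s, d] ≤ cen1 t)
    (hn : n ∈ nor (cl [a, u, v, t, s, d])) : n * t * n⁻¹ = t := by
  obtain ⟨wf, k1, k2, k3, k4⟩ := (by decide +kernel : ∀ q ∈ qs, (tbT.ext fe q).wf = true ∧
    (∀ w ∈ subs 6, (∀ r ∈ [2, 4, 5], (tbT.ext fe q).eqv (w ++ [r]) ([r] ++ w) = true) → w ∈ qs) ∧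
    (tbT.ext fe q).same ([5, 2] ++ [5, 2] ++ ([5, 2] ++ [5, 2])) [1, 0] = true ∧
    (∀ w ∈ subs 6, (tbT.ext fe q).eqv (w ++ w ++ (w ++ w)) [3] = false) ∧
    ((∃ w ∈ subs 6, (tbT.ext fe q).same (w ++ w) [3] = true) ∧
      (∀ w ∈ subs 6, (tbT.ext fe q).eqv (w ++ w) [3, 1, 0] = false) ∨
    (∃ w ∈ subs 6, (tbT.ext fe q).same (w ++ w) [3, 1, 0] = true) ∧
      ∀ w ∈ subs 6, (tbT.ext fe q).eqv (w ++ w) [3] = false)) q hq
  have mw : ∀ w ∈ subs 6, W (val [a, u, v, t, s, d]) w ∈ cl [a, u, v, t, s, d] := fun w hw =>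
    W_mem_cl [a, u, v, t, s, d] 6 (List.all_eq_true.2 fun r hr =>
      decide_eq_true (nf_lt (nf_of_mem_subs hw) r hr))
  have ex : ∀ {y : G}, y ∈ cl [a, u, v, t, s, d] → ∃ w ∈ subs 6, y = W (val [a, u, v, t, s, d]) w :=
    fun hy => P.mem_cl wf 6 le_rfl hy
  obtain ⟨w, hw, e⟩ := ex (conj_mem_of_mem_normalizer hn (mem_cl (y := t) (by simp)))
  have t1 : W (val [a, u, v, t, s, d]) [3] = t := by simp
  have := k1 w hw fun r hr => P.eqv I (by
    have := mem_cen1.1 (hc (conj_mem_of_mem_normalizer' hn (mw [r] (by revert r; decide))))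
    rw [W_append, W_append, ← e]
    calc _ = n * (t * (n⁻¹ * W (val [a, u, v, t, s, d]) [r] * n)) * n⁻¹ := by group
      _ = _ := by rw [← this]; group)
  simp only [qs, List.mem_cons, List.not_mem_nil, or_false] at this
  rcases this with rfl | rfl | rfl | rfl
  · exact (P.ne I (k3 [] (by decide)) (by rw [t1, conj_eq_one_iff.1 e]; rfl)).elim
  · rw [e, t1]
  · obtain ⟨y, hy, e'⟩ := ex (conj_mem_of_mem_normalizer' hn (mw [5, 2] (by decide)))
    have k := P.W_eq k2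
    rw [← e, W_append, W_append] at k
    refine (P.ne I (k3 y hy) ?_).elim
    rw [W_append, W_append, ← e', t1, ← mul_right_inj n, ← mul_left_inj n⁻¹, ← k]; group
  · rcases k4 with ⟨⟨x, hx, k⟩, k'⟩ | ⟨⟨x, hx, k⟩, k'⟩ <;> have k := P.W_eq k
    · obtain ⟨y, hy, e'⟩ := ex (conj_mem_of_mem_normalizer hn (mw x hx))
      refine (P.ne I (k' y hy) ?_).elim
      rw [W_append, ← e', conj_mul, ← W_append, k, t1, e]
    · obtain ⟨y, hy, e'⟩ := ex (conj_mem_of_mem_normalizer' hn (mw x hx))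
      refine (P.ne I (k' y hy) ?_).elim
      rw [← e, W_append] at k
      rw [W_append, ← e', t1, ← mul_right_inj n, ← mul_left_inj n⁻¹, ← k]; group

theorem dd_norT (k : Dd t v s u a d) (h : Tr t v s u a) (hn : n ∈ nor (cl [a, u, v, t, s, d])) :
    n ∈ nor (cl [a, u, v, t, s]) := by
  have key : ∀ E ≤ cl [a, u, v, t, s, d], (∀ e ∈ E, e * e = 1) → Nat.card E = 16 →
      E ≤ cj n⁻¹ (cl [a, u, v, t, s]) := fun E h1 h2 h3 =>
    cj_le_iff.1 (k.e16 h (cj_le_of_le h1 hn) (fun y hy => by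
      simpa [mul_assoc] using congrArg (fun r => n * r * n⁻¹) (h2 _ (mem_cj.1 hy)))
      (by rw [card_cj, h3]))
  have a1 := key _ (cl_mono (by simp)) (fun _ => h.A_sq) h.cardA
  have a2 := key _ (cl_mono (by simp)) (fun _ => h.swap.A_sq) h.swap.cardA
  refine mem_normalizer_of_cj_le (cj_le_iff.2 (cl_le.2 ?_))
  simp only [List.mem_cons, List.not_mem_nil, or_false, forall_eq_or_imp, forall_eq]
  exact ⟨a1 (mem_cl (by simp)), a1 (mem_cl (by simp)), a1 (mem_cl (by simp)), a1 (mem_cl (by simp)),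
    a2 (mem_cl (by simp))⟩

theorem jobD : JobD.{u} := by
  intro G _ _ t v s u a σ ρ h hd
  by_cases hT : IsSyl 2 (cl [a, u, v, t, s]) (cen1 t)
  · refine (em (IsSyl 2 (cl [a, u, v, t, s]) ⊤)).imp (fun e => ?_) fun e =>
      ⟨⟨h, Or.inl hT⟩, exists_move hT e⟩
    exact sec_of_syl e (Or.inl rfl) h.card (x := v * s) (mul_mem (mem_cl (by simp)) (mem_cl (by simp)))
      fun k => h.pres.ne h.ind (w := [2, 4, 2, 4]) (w' := []) rfl (by simpa [pow_two, mul_assoc] using k)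
  obtain ⟨ψ, hS⟩ := hd.resolve_left hT
  have le := h.A.syl.le.trans inf_le_left
  obtain ⟨d, d1, d2, d3, d4⟩ := ext_of_not_syl h.isPGroup le hT
  obtain ⟨d, k, f, hf, q, hq, A, e⟩ := exists_nf h ⟨le, d1, d2, d3, d4⟩
  rcases List.mem_cons.1 hf with rfl | hf'
  · obtain ⟨d, D⟩ := exists_Dd h.toTr k hS A hq e
    obtain ⟨b, P, -⟩ := D.pres h.toTr
    refine (em (IsSyl 2 (cl [a, u, v, t, s, d]) ⊤)).imp
      (sec64 P (D.ind h.toTr) (by cases b <;> rfl) rfl (by cases b <;> decide +kernel)) fun e => ?_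
    obtain ⟨n, n1, n2⟩ := exists_move D.syl e
    exact ⟨⟨h, Or.inr ⟨d, D⟩⟩, n, dd_norT D h.toTr n1, n2⟩
  · rw [List.mem_singleton.1 hf'] at A hf
    have P := nf_pres h.toTr hf hq A e
    have I : Ind (val [a, u, v, t, s, d]) 6 := h.ind.snoc (l := [a, u, v, t, s]) k.out
    have S : IsSyl 2 (cl [a, u, v, t, s, d]) (cen1 t) := (k.syl h.isPGroup hS).1
    obtain ⟨k1, k2⟩ := (by decide +kernel : ∀ q ∈ qs, (tbT.ext fe q).wf = true ∧
      (tbT.ext fe q).eqv [5, 2, 5, 2, 5, 2, 5, 2] [] = false) q hq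
    refine Or.inl (sec64 P I k1 rfl k2 (by_contra fun c => ?_))
    obtain ⟨n, n1, n2⟩ := exists_move S c
    exact n2 (bad_fix hq P I S.le n1)

end H30.DZ
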