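import Cfsg.Agent.H30.NZ2
import Cfsg.Agent.H57.DZN

/-! DZ, narrow type Z: `H85.DZ.JobNZ`. -/

set_option autoImplicit false
set_option linter.unusedSectionVars false

namespace H30.NZ

open Subgroup Cfsg H14 H98 H1.Gold H31.S2 H85.FZ H49.D8 H62.FZ H85.DZ H85.En H62.FZ.NZ

universe u

variable {G : Type u} [Group G] [Finite G] {t v s u a σ ρ g y Y X d : G} {N : Subgroup G} {k : Bool}

theorem not_ta (h : H85.DZ.Nar t v s u a σ ρ) (D : Dd t v s u a d) : ¬ IsConj t (t * a) := fun c => by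
  obtain ⟨n, hn, e⟩ := h.toLoc.burn c
    (le_cen1_iff.2 (by simpa using h.toTr.zw_mem (w := [3, 0]) (by decide)))
  by_cases n0 : n ∈ N0 t v s u a
  · exact (h.narA n n0.1.2).2 e
  · refine (h.narA _ (mul_N0 h.toTr hn D.norT n0 fun k => D.not_norA h.toTr k.1.2).1.2).2 ?_
    rw [← e, show n * d * t * (n * d)⁻¹ = n * (d * t * d⁻¹) * n⁻¹ by group, D.dt]

/-- The normal form of `d`. -/
theorem nf_d (h : H85.DZ.N1 t v s u a σ ρ y) (D : Dd t v s u a d) (dP : d ∈ nor (cl [a, u, v, t, s, y]))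
    (aY : Act (val [a, u, v, t, s, y]) Y R6 (gY true k))
    (aX : Act (val [a, u, v, t, s, y]) X R6 (fX true k)) :
    ∃ e, e * e = 1 ∧ Act (val [a, u, v, t, s, y]) e R6 (fD k) := by
  have P := h.pres
  have I := h.ind
  obtain ⟨w, hw, ew⟩ := P.mem_cl rfl 6 le_rfl
    (conj_mem_of_mem_normalizer dP (mem_cl (y := y) (by simp)))
  have ad : Act (val [a, u, v, t, s, y]) d R6 (fw w) := act_mono (act_cons (D.act [y]) (r := 5) ew) rfl
  have ai := fun i => act_cp P ad (act_inn P (fun _ => rfl) (w := ow i [3]) (by cases i <;> rfl) R6)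
    (by cases i <;> rfl)
  obtain ⟨b, -, eb⟩ := D.pres h.toTr
  have dd : d * d = W (val [a, u, v, t, s, y]) (ow b [3]) := by cases b <;> simpa [ow] using eb
  obtain ⟨k0, k1⟩ := key2 k b w hw (cons_of P I rfl ad dd)
  simp only [Bool.and_eq_true] at k0
  have an := act_cp P aY (act_cp P ad (act_cp P aX (ai b) k0.1.1.1) k0.1.1.2) k0.1.2
  have di : d * W (val [a, u, v, t, s, y]) (ow b [3]) = d⁻¹ := by
    refine eq_inv_of_mul_eq_one_right ?_
    rw [← mul_assoc, dd, ← W_append]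
    exact P.W_eq (w' := []) (by cases b <;> rfl)
  rw [di] at an
  have nt : Y * (d * (X * d⁻¹)) * t = t * (Y * (d * (X * d⁻¹))) :=
    mul_inv_eq_iff_eq_mul.1 (by simpa using (an 3 (by decide)).trans (P.W_eq k0.2))
  have nP : Y * (d * (X * d⁻¹)) ∈ nor (cl [a, u, v, t, s, y]) :=
    mul_mem (act_nor P aY (by cases k <;> rfl)) (mul_mem dP (mul_mem (act_nor P aX (by cases k <;> rfl))
      (inv_mem dP)))
  have nA : Y * (d * (X * d⁻¹)) ∈ nor (cl [a, u, v, t]) := by
    refine mul_mem (act_nor P (act_mono aY (S' := [0, 1, 2, 3]) rfl) (by cases k <;> rfl)) ?_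
    rw [← ((nor_or h.toTr D.norT).resolve_left fun k => D.not_norA h.toTr k.1.2).2, nor,
      ← cj_normalizer, ← mul_assoc]
    exact conj_mem_cj (act_nor P (act_mono aX (S' := [1, 0, 4, 3]) rfl) (by cases k <;> rfl))
  have P2 : IsPGroup 2 (cl [a, u, v, t, s, y]) := H_val [a, u, v, t, s, y] 6 ▸ P.isPGroup rfl le_rfl
  have TP : cl [a, u, v, t, s] ≤ cl [a, u, v, t, s, y] := cl_mono (by simp)
  generalize Y * (d * (X * d⁻¹)) = n at an nt nP nA
  obtain ⟨r, hr, c, hc, rfl⟩ := (mem_sup_left_norm (le_normalizer_centralizer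
    (TP.trans le_normalizer))).1 (inner h.toLc P2 TP nP (mem_N0 h.toTr (mem_normalizer_fintype
      fun z hz => two h.toLc P2 TP (conj_mem_of_mem_normalizer nP (TP hz)) (mem_cen1.1 (mul_mem (mul_mem
        (mem_cen1.2 nt) (h.A.syl.le hz).1) (inv_mem (mem_cen1.2 nt))))
        (mul_mem (mul_mem nA (h.le_norA hz)) (inv_mem nA))) nA) nt)
  obtain ⟨r, hr', rfl⟩ := P.mem_cl rfl 5 (by decide) hr
  obtain ⟨rfl, i, e⟩ := k1 r hr' (agv_of P I an (act_mul_cen (act_inn P (fun _ => rfl)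
    (List.all_eq_true.2 fun j hj => decide_eq_true ((nf_lt (nf_of_mem_subs hr') j hj).trans (by decide)))
    R6) hc))
  refine ⟨_, ?_, act_agree P (ai i) e⟩
  cases i
  · simpa [ow] using dd
  · have := mul_inv_eq_iff_eq_mul.1 D.dt
    simp only [ow, cond_true, cond_false, W_cons, W_nil, val_succ, val_zero, mul_one] at dd ⊢
    rw [mul_assoc, ← mul_assoc t, ← this, mul_assoc, h.tt, mul_one, dd]

/-- The case with `d`. -/
theorem dcase (hN : AS N t) (h : H85.DZ.Nar t v s u a σ ρ) (ta : ¬ IsConj t (t * a))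
    (P : Pres tbN (val [a, u, v, t, s, y])) (P7 : Pres (T7 k) (val [a, u, v, t, s, y, Y]))
    (I7 : Ind (val [a, u, v, t, s, y, Y]) 7) (XX : X * X = 1)
    (aX : Act (val [a, u, v, t, s, y]) X R6 (fX true k)) (dd : d * d = 1)
    (ad : Act (val [a, u, v, t, s, y]) d R6 (fD k))
    (aσ : Act (val [a, u, v, t, s, y, Y]) σ SR (gσ k)) : SectionalPRankLE 2 4 N := by
  obtain ⟨k0, k1⟩ := key8 k
  rw [Bool.and_eq_true] at k0
  have s7 : ∀ i, (T7 k).sq i = [] := fun i => ite_self _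
  have w7 : (T7 k).wf = true := by cases k <;> rfl
  obtain ⟨e, ee, ae, h1⟩ := ext1 h.toLc P7 s7 (g := X * d * X)
    (by rw [← conj_sq (g := X) dd, inv_eq_of_mul_eq_one_right XX])
    ((act_agree P (act_cp P (act_cp P aX ad (by cases k <;> rfl)) aX (by cases k <;> rfl)) k0.1).snoc Y
      (by cases k <;> rfl)) k0.2
  obtain ⟨α, hα, e6⟩ := h1 6 (by simp)
  replace ae : Act _ e (List.range 7) (f8 k α) := act_mono (act_cons ae e6) rfl
  obtain ⟨j, rfl⟩ := k1 α hα (cons_of P7 I7 w7 ae ee)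
  have P8 : Pres (T8 k j) (val [a, u, v, t, s, y, Y, e]) :=
    P7.snoc rfl w7 (ae.inv ee) ee (by cases k <;> cases j <;> rfl)
  have I8 : Ind (val [a, u, v, t, s, y, Y, e]) 8 := I7.snoc (l := [a, u, v, t, s, y, Y])
    (P7.notMem w7 I7 rfl s7 (c := [1]) (c' := [0]) (by simpa [app, f8, f1] using ae 1 (by decide))
      ((by decide +kernel : ∀ k, ∀ w ∈ subs 7, (T7 k).eqv (w ++ [1] ++ w.reverse) [0] = false) k))
  obtain ⟨k2, k3⟩ := key8' k j
  rw [Bool.and_eq_true] at k2
  have s8 : ∀ i, (T8 k j).sq i = [] := fun i => by simp [T8, Tb.ext, s7]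
  have w8 : (T8 k j).wf = true := by cases k <;> cases j <;> rfl
  have bσ : Act (val [a, u, v, t, s, y, Y, e]) σ SR (gσ k) := aσ.snoc e (by cases k <;> rfl)
  have be : Act (val [a, u, v, t, s, y, Y, e]) e SR (f8 k (al k j)) :=
    act_mono (ae.snoc e (by cases k <;> cases j <;> rfl)) rfl
  obtain ⟨E, EE, aE, h2⟩ := ext1 h.toLc P8 s8 (conj_sq (g := σ) ee) (act_agree P8 (act_cp P8
    (act_cp P8 bσ be (by cases k <;> cases j <;> rfl)) (act_inv' P8 bσ (f' := gσi k)
      (by cases k <;> cases j <;> rfl) (by cases k <;> cases j <;> rfl))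
    (by cases k <;> cases j <;> rfl)) k2.1) k2.2
  obtain ⟨β, hβ, e7⟩ := h2 7 (by simp)
  obtain ⟨γ, hγ, e4⟩ := h2 4 (by simp)
  replace aE : Act _ E (List.range 8) (f9 k j β γ) := act_mono (act_cons (act_cons aE e4) e7) rfl
  have r := run_spec (key9 k j β hβ γ hγ (cons_of P8 I8 w8 aE EE))
  have P9 : Pres ((T8 k j).ext (f9 k j β γ)) (val [a, u, v, t, s, y, Y, e, E]) :=
    P8.snoc rfl w8 (aE.inv EE) EE ((by decide +kernel : ∀ k j, ∀ β ∈ subs 4, ∀ γ ∈ subs 4,
      ((List.range 8).all (fun r => (app (f9 k j β γ) [r]).all (· < 8)) && true) = true) k j β hβ γ hγ)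
  exact fin (md P9 (I8.snoc (l := [a, u, v, t, s, y, Y, e]) (P8.notMem w8 I8 rfl s8 (c := [1])
    (c' := [2, 1]) (by simpa [app, f9, f2] using aE 1 (by decide)) k3)) r.1) rfl h ta hN r.2

/-- An element of `C(A)` that normalizes a `2`-group over `A` acts as an element of `A`. -/
theorem cen_nor (h : Lc t v s u a σ ρ) (h2 : IsPGroup 2 N) (AN : cl [a, u, v, t] ≤ N) (h1 : g ∈ nor N)
    (hc : g ∈ cen (cl [a, u, v, t])) : g ∈ cl [a, u, v, t] ⊔ cen N :=
  mem_of_parts (fun m hm => mem_sup_left (ca2m h hm (mem_zpowers _) (pow_mem hc m)))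
    fun m hm => mem_sup_right (copr h2 (pow_mem h1 m) hm AN (pow_mem hc m) fun _ => ca2m h h2)

theorem key' : ∀ k : Bool, agree tbN R6 (yx3 k k) (inn R6 (ow k [5, 3])) = true ∧ ∀ m ∈ subs 6,
    ([2, 3, 4, 5].all fun i => tbN.eqv (app (yx3 k k) [i]) (m ++ [i] ++ m.reverse)) = true →
    tbN.same (app (yx k true k) m.reverse) (app (fX true k) m) = true ∧ ∀ i < 3, ∀ r ∈ rl,
      ckB k m i r = true → ok (T7 k) SR SR (b3 k m i r) = true := by decide +kernel

theorem jobNZ : H85.DZ.JobNZ.{u} := by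
  intro G _ _ N t v s u a σ ρ y k Z l hN h hA hB
  have aY := hA.act
  have aX : Act _ _ _ (fX Z l) := hB.act'
  have nA := hA.nxt
  have nB := hB.nxt
  rw [W_swN] at nB
  have YY := conj_sq (g := σ) (q := y) (h.pres.sq 5 (by decide))
  have XX := conj_sq (g := ρ) (q := y) (h.pres.sq 5 (by decide))
  obtain ⟨Y, hY⟩ : ∃ Y, Y = σ * y * σ⁻¹ := ⟨_, rfl⟩
  obtain ⟨X, hX⟩ : ∃ X, X = ρ * y * ρ⁻¹ := ⟨_, rfl⟩
  rw [← hY] at aY YY nA
  rw [← hX] at aX XX nB
  have tr : ∀ i < 6, val [a, u, v, t, s, y, Y, X] i = val [a, u, v, t, s, y] i := fun i hi => by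
    interval_cases i <;> rfl
  have P : Pres tbN (val [a, u, v, t, s, y, Y, X]) := pres_congr tr h.pres rfl
  have I := ind_congr tr h.ind
  have aY0 := aY
  have aX0 := aX
  replace aY := act_congr tr aY (by cases k <;> rfl)
  replace aX := act_congr tr aX (by cases Z <;> cases l <;> rfl)
  rw [← W_congr tr (by cases k <;> rfl)] at nA
  rw [← W_congr tr (by cases Z <;> cases l <;> rfl)] at nB
  have aYX : Act _ _ R6 (yx k Z l) := act_cp P aY aX (by cases Z <;> cases l <;> rfl)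
  cases Z
  · refine absurd (isConj_iff.2 ⟨_, act_cp P aYX aY (by cases k <;> rfl) 3 (by decide)⟩)
      (h.toBase.swap.notD ?_)
    refine W_mem_of fun r hr => mem_cl ?_
    have := (by decide +kernel : ∀ k l, ∀ r ∈ app (cp tbN (List.range 6) (yx k false l) (gY true k)) [3],
      r = 0 ∨ r = 1 ∨ r = 4) k l r hr
    rcases this with rfl | rfl | rfl <;> simp
  have a3 : Act _ _ R6 (yx3 k l) := act_cp P aYX (act_cp P aYX aYX (by cases k <;> cases l <;> rfl))
    (by cases k <;> cases l <;> rfl)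
  by_cases kl : k = l
  swap
  · have n3 := (act_mono a3 (S' := List.range 4) rfl).nor (by cases k <;> cases l <;> rfl)
    rw [H_val] at n3
    have e := a3 3 (by decide)
    rcases (by decide +kernel : ∀ k l, k ≠ l → app (yx3 k l) [3] = [3, 1] ∨
      app (yx3 k l) [3] = [3, 0]) k l kl with e' | e' <;> rw [e'] at e
    · exact ((h.narA _ n3).1 (by simpa using e)).elim
    · exact ((h.narA _ n3).2 (by simpa using e)).elim
  subst kl
  have P7 : Pres (T7 k) (val [a, u, v, t, s, y, Y, X]) := pres_top P (aY.inv YY) YY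
  have c : Cy t v s u a y := by
    have e := act_inn P (fun _ => rfl) (w := [5]) rfl R6
    have e' := act_agree P e (f' := fy) rfl
    exact ⟨by simpa [app, fy] using e' 0 (by decide), by simpa [app, fy] using e' 1 (by decide),
      by simpa [app, fy] using e' 2 (by decide), by simpa [app, fy] using e' 4 (by decide),
      by simpa [app, fy] using e' 3 (by decide)⟩
  have I7 : Ind (val [a, u, v, t, s, y, Y, X]) 7 := ind_top I (by
    rw [H_val]
    exact H57.DZ.not_norB c h.toTr (by cases k <;> simpa [app, gY] using aY 3 (by decide)) le_rfl)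
  have s7 : ∀ i, (T7 k).sq i = [] := fun i => ite_self _
  have w7 : (T7 k).wf = true := by cases k <;> rfl
  have aσ : Act (val [a, u, v, t, s, y, Y, X]) σ SR (gσ k) :=
    act_mono (act_cons (act_cons (hact h.A _) (r := 5) (w := [6]) (by simpa using hY.symm))
      (r := 6) (w := 6 :: dY true k) nA) rfl
  rcases h.nd with hS | ⟨d, dP, D⟩
  swap
  · obtain ⟨e, ee, ae⟩ := nf_d h D dP aY0 aX0
    have tr7 : ∀ i < 7, val [a, u, v, t, s, y, Y] i = val [a, u, v, t, s, y, Y, X] i := fun i hi => by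
      interval_cases i <;> rfl
    exact Or.inl (dcase hN h.toNar (not_ta h.toNar D) h.pres (pres_congr tr7 P7 w7) (ind_congr tr7 I7)
      XX aX0 ee ae (act_congr tr7 aσ (by cases k <;> rfl)))
  exfalso
  have P2 : IsPGroup 2 (cl [a, u, v, t, s, y]) := H_val [a, u, v, t, s, y] 6 ▸ h.pres.isPGroup rfl le_rfl
  have AP : cl [a, u, v, t] ≤ cl [a, u, v, t, s, y] := cl_mono (by simp)
  have lm : ∀ {w}, w.all (· < 6) = true → W (val [a, u, v, t, s, y, Y, X]) w ∈ cl [a, u, v, t, s, y] :=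
    W_mem_cl [a, u, v, t, s, y, Y, X] 6
  obtain ⟨m0, hm0, c0, hc0, e1, e2⟩ := H30.DZ.adj3 P2
    (fun R h1 h2 => (ca2 h.toLc h2 (h1.trans (centralizer_le AP))).trans AP) YY XX (by
      have := act_cen P a3 (act_inn P (fun _ => rfl) (w := ow k [5, 3]) (by cases k <;> rfl) R6) (key' k).1
      exact (mul_mem_cancel_left (mem_sup_left (inv_mem (lm (by cases k <;> rfl))))).1 (mem_sup_right this))
  obtain ⟨m, hm, rfl⟩ := P.mem_cl rfl 6 le_rfl hm0
  have hk : ([2, 3, 4, 5].all fun i => tbN.eqv (app (yx3 k k) [i]) (m ++ [i] ++ m.reverse)) = true :=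
    List.all_eq_true.2 fun i hi => P.eqv I (by
      have hi : i ∈ R6 := by simp at hi; rcases hi with rfl | rfl | rfl | rfl <;> decide
      have := mem_cen_iff.1 e1 _ (conj_mem_of_mem_normalizer (le_normalizer (lm (subs_lt hm)))
        (mem_cl (l := R6.map (val [a, u, v, t, s, y, Y, X])) (List.mem_map_of_mem hi)))
      rw [← a3 i hi, ← P.conj (fun _ => rfl) (subs_lt hm), W_cons, W_nil, mul_one,
        ← mul_left_inj (Y * X * (Y * X * (Y * X)) * (W (val [a, u, v, t, s, y, Y, X]) m)⁻¹), ← this]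
      group)
  obtain ⟨k0, i, hi, r, hr, kk⟩ := key k m hm hk
  obtain ⟨k1, k2⟩ := (key' k).2 m hm hk
  simp only [Bool.and_eq_true] at k0
  have aσi : Act (val [a, u, v, t, s, y, Y, X]) (σ ^ i) SR (sp k i) := by
    have e1 := act_cp P7 aσ (act_one _ SR) (by cases k <;> rfl)
    have e2 := act_cp P7 aσ e1 (by cases k <;> rfl)
    interval_cases i
    · exact pow_zero σ ▸ act_one _ SR
    · rwa [pow_one, ← mul_one σ]
    · rwa [pow_two, ← mul_one σ, mul_assoc, one_mul]
  have aρ : Act (val [a, u, v, t, s, y, Y, X]) ρ [7, 5, 0, 1, 3, 4] (gρ k) := by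
    refine act_cons (act_cons ?_ (r := 5) (w := [7]) (by simpa using hX.symm)) (r := 7) nB
    simp only [Act, List.mem_cons, List.not_mem_nil, or_false, forall_eq_or_imp, forall_eq]
    wsimp
    exact ⟨h.B.σu, h.B.σa, h.B.σt, h.B.σv⟩
  have iY := inv_eq_of_mul_eq_one_right YY
  have iX := inv_eq_of_mul_eq_one_right XX
  have ni : (c0 * (X * Y))⁻¹ = Y * X * c0⁻¹ := by rw [mul_inv_rev, mul_inv_rev, iX, iY]
  have a0 : Act (val [a, u, v, t, s, y, Y, X]) (c0 * (X * Y))⁻¹ R6 (yx k true k) :=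
    ni ▸ act_mul_cen aYX (inv_mem hc0)
  have an : Act (val [a, u, v, t, s, y, Y, X]) (c0 * (X * Y)) (7 :: R6) (gn k m) := by
    refine act_cons (r := 7) ?_ (by rw [W_cons]; exact e2)
    have nP : (X * Y)⁻¹ ∈ nor (cl [a, u, v, t, s, y]) := inv_mem (mul_mem
      (act_nor P aX (by cases k <;> rfl)) (act_nor P aY (by cases k <;> rfl)))
    have := act_mul_cen (act_cp P aX aY (by cases k <;> rfl))
      (conj_mem_of_mem_normalizer (normalizer_le_normalizer_centralizer _ nP) hc0)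
    rwa [← mul_assoc, ← mul_assoc, mul_inv_cancel, one_mul, inv_inv] at this
  have ani : Act (val [a, u, v, t, s, y, Y, X]) (c0 * (X * Y))⁻¹ (6 :: R6) (gni k m) :=
    act_cons a0 (by
      rw [W_cons, ← P.W_eq k1, ← a0.w (List.all_eq_true.2 fun r hr => decide_eq_true (List.mem_range.2
        (nf_lt (nf_of_mem_subs hm) r (List.mem_reverse.1 hr)))), P.W_rev (fun _ => rfl) (subs_lt hm)]
      change _ * Y * _ = X * _
      generalize c0 * (X * Y) = n at e2 ⊢
      rw [← mul_left_inj (n⁻¹ * W (val [a, u, v, t, s, y, Y, X]) m), ← mul_right_inj n]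
      calc _ = Y * W (val [a, u, v, t, s, y, Y, X]) m := by group
        _ = _ := by rw [← e2]; group)
  generalize c0 * (X * Y) = n at an ani
  have ar : Act _ _ SR (gr k m) :=
    act_cp P7 an (act_cp P7 aρ (act_mono ani (S' := SR) rfl) k0.1.1) k0.1.2
  have lr := (by decide : ∀ r ∈ rl, r.all (· < 7) = true) r hr
  have ai := act_inn P7 s7 lr SR
  rcases kk with kk | kk
  · simp only [ckA, Bool.and_eq_true] at kk
    have n1 := (act_mono ar (S' := List.range 3) rfl).nor k0.2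
    rw [H_val] at n1
    have e : Act _ _ SB (a2 k m i r) :=
      act_cp P7 ai (act_cp P7 aσi (act_mono an (S' := SB) rfl) kk.1.1.1) kk.1.1.2
    refine pab h.toLc hS n1 (cj_le_iff.2 (cl_le.2 fun z hz => mem_cj.2 ?_))
      ((ar 3 (by decide)).trans ((P7.W_eq kk.2).trans (e 3 (by decide)).symm))
    have k1 : ∀ j ∈ [0, 1, 4], _ * val [a, u, v, t, s, y, Y, X] j * _ ∈ cl [a, u, v] := fun j hj => by
      rw [e j (by simp at hj; rcases hj with rfl | rfl | rfl <;> decide)]
      exact W_mem_cl [a, u, v, t, s, y, Y, X] 3 (List.all_eq_true.1 kk.1.2 j hj)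
    rw [inv_inv]
    simp only [List.mem_cons, List.not_mem_nil, or_false] at hz
    rcases hz with rfl | rfl | rfl
    exacts [k1 1 (by simp), k1 0 (by simp), k1 4 (by simp)]
  · have k3 := k2 i hi r hr kk
    simp only [ckB, Bool.and_eq_true] at kk
    have e1 : Act _ _ SR (b1 k m i) := act_cp P7 aσi ar kk.1.1.1.1
    have e : Act _ _ SR (b3 k m i r) := act_cp P7 ai (act_cp P7 e1 e1 kk.1.1.1.2) kk.1.1.2
    have AR : cl [a, u, v, t] ≤ cl [a, u, v, t, y, Y] := cl_mono (by simp)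
    obtain ⟨w, hw, c1, hc1, ew⟩ := (mem_sup_left_norm (le_normalizer_centralizer
      (AR.trans le_normalizer))).1 (cen_nor h.toLc ((P7.isPGroup w7 le_rfl).to_le (by
        rw [H_val]; exact cl_mono (by simp [T7, Tb.ext, tbN, Tb.of]))) AR (act_nor P7 e k3)
        (cen_of_act (act_agree P7 (act_mono e rfl) kk.1.2)))
    obtain ⟨w, hw', rfl⟩ := P7.mem_cl w7 4 (show 4 ≤ 7 by decide) hw
    have lw : w.all (· < (T7 k).n) = true := List.all_eq_true.2 fun j hj =>
      decide_eq_true ((nf_lt (nf_of_mem_subs hw') j hj).trans (show 4 < 7 by decide))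
    have k1 := List.all_eq_true.1 kk.2 w hw'
    have k4 := List.all_eq_true.1 (agv_of P7 I7 (ew ▸ e) (act_mul_cen (act_inn P7 s7 lw SR) hc1))
    rw [show (T7 k).eqv _ (w ++ [5] ++ w.reverse) = true by simpa [app, inn, SR] using k4 5 (by decide),
      show (T7 k).eqv _ (w ++ [6] ++ w.reverse) = true by simpa [app, inn, SR] using k4 6 (by decide)] at k1
    exact absurd k1 (by decide)

end H30.NZ
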