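import Cfsg.Agent.H86.FZWB
import Cfsg.Agent.H85.DZKit
import Cfsg.Agent.H30.DZL

/-! DZ, branch WB: `k = l`, and there is a `d`. -/

set_option autoImplicit false
set_option linter.unusedSectionVars false

namespace H30.WB

open Subgroup Cfsg H14 H98 H1.Gold H31.S2 H85.FZ H49.D8 H86.FZ H86.FZ.WB

universe u

variable {G : Type u} [Group G] [Finite G] {t v s u a σ ρ p q : G} {T : Tb} {g : ℕ → G}
  {ms : List Mv} {k l : Bool} {L : List G}

theorem run_lt (P : Pres T (val L)) (M : Mvs (val L) g ms) {c : List ℕ} {i j : ℕ}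
    (e : (run T ms c [i]).any (fun w => w.all (· < j)) = true) :
    pr g c * val L i * (pr g c)⁻¹ ∈ cl (L.take j) := by
  obtain ⟨w, h1, h2⟩ := run_any P M e
  rw [W_cons, W_nil, mul_one] at h2
  exact h2 ▸ W_mem_cl L j h1

theorem pab_chk (h : Lc t v s u a σ ρ) (hS : IsSyl 2 (cl [a, u, v, t, s]) (cen1 t))
    (P : Pres T (val (a :: u :: v :: t :: s :: L))) (M : Mvs (val (a :: u :: v :: t :: s :: L)) g ms)
    {c₁ c₂ : List ℕ} (e : chk T ms c₁ c₂ = true) : False := by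
  simp only [chk, Bool.and_eq_true, List.all_eq_true] at e
  obtain ⟨⟨⟨e1, e2⟩, e3⟩, e4⟩ := e
  obtain ⟨w, hw⟩ := Option.isSome_iff_exists.1 e1
  refine H85.DZ.pab h hS (g₁ := pr g c₁) (g₂ := pr g c₂)
    (mem_normalizer_of_cj_le (cj_le_iff.2 (cl_le.2 ?_))) (cj_le_iff.2 (cl_le.2 ?_)) (by
      simpa using (run_eq P M hw).trans (run_eq P M ((eq_of_beq e2).symm.trans hw)).symm)
  all_goals
    simp only [List.mem_cons, List.not_mem_nil, or_false, forall_eq_or_imp, forall_eq, mem_cj, inv_inv]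
  exacts [⟨run_lt P M (e3 0 (by simp)), run_lt P M (e3 1 (by simp)), run_lt P M (e3 2 (by simp))⟩,
    ⟨run_lt P M (e4 1 (by simp)), run_lt P M (e4 0 (by simp)), run_lt P M (e4 4 (by simp))⟩]

/-- The chain `c` fixes `t`, normalizes `A` and moves `v` out of `V`. -/
def fx (T : Tb) (ms : List Mv) (c : List ℕ) : Bool :=
  run T ms c [3] == some [3] && ([0, 1, 2, 3].all fun i => (run T ms c [i]).any fun w => w.all (· < 4)) &&
  (run T ms c [2]).any fun w => w.all (· < 5) && [[2], [1, 0], [2, 1, 0]].all fun d => !tbT.eqv w d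

theorem fx_chk (h : Lc t v s u a σ ρ) (P : Pres T (val (a :: u :: v :: t :: s :: L)))
    (M : Mvs (val (a :: u :: v :: t :: s :: L)) g ms) {c : List ℕ} (e : fx T ms c = true) : False := by
  simp only [fx, Bool.and_eq_true, List.all_eq_true] at e
  obtain ⟨⟨e1, e2⟩, e3⟩ := e
  obtain ⟨w, h1, h2⟩ := run_any P M e3
  simp only [Bool.and_eq_true, List.all_cons, List.all_nil, Bool.not_eq_true', and_true] at h1
  have := (H85.DZ.nA_fix h (g := pr g c) (mul_inv_eq_iff_eq_mul.1 (by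
    simpa using run_eq P M (eq_of_beq e1))) (mem_normalizer_of_cj_le (cj_le_iff.2 (cl_le.2 (by
      simp only [List.mem_cons, List.not_mem_nil, or_false, forall_eq_or_imp, forall_eq, mem_cj, inv_inv]
      exact ⟨run_lt P M (e2 0 (by simp)), run_lt P M (e2 1 (by simp)), run_lt P M (e2 2 (by simp)),
        run_lt P M (e2 3 (by simp))⟩))))).2.1
  rw [show pr g c * v * (pr g c)⁻¹ = W (val [a, u, v, t, s]) w by
    rw [← W_val [a, u, v, t, s] L h1.1]; simpa using h2] at this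
  rcases this with e | e | e
  exacts [h.pres.ne h.ind h1.2.1 (by simpa using e), h.pres.ne h.ind h1.2.2.1 (by simpa using e),
    h.pres.ne h.ind h1.2.2.2 (by simpa using e)]

theorem key2 : ∀ k l : Bool, k ≠ l → ∀ m ∈ subs 7,
    (∀ i ∈ [2, 3, 4, 5, 6], T1.eqv (yx k l (yx k l (yx k l [i]))) (m ++ [i] ++ m.reverse) = true) →
    ∃ c ∈ [[3, 1, 2, 0, 3, 1, 2, 7], [3, 1, 2, 0, 3, 1, 2, 5, 7], [0, 3, 1, 2, 0, 0, 4, 3, 1, 2],
      [0, 3, 1, 2, 0, 0, 3, 1, 2, 6, 7]], fx (T2 k) (mv k l m) c = true := by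
  decide +kernel

/-- The moves of `H86.FZ.WB.mv`. -/
theorem moves (h : H85.DZ.WD t v s u a σ ρ p q false false true true 1 1 k l) : ∃ n, ∃ m ∈ subs 7,
    (∀ i ∈ [2, 3, 4, 5, 6], T1.eqv (yx k l (yx k l (yx k l [i]))) (m ++ [i] ++ m.reverse) = true) ∧
    Pres (T2 k) (val [a, u, v, t, s, p, q, σ * q * σ⁻¹, ρ * p * ρ⁻¹]) ∧
    Mvs (val [a, u, v, t, s, p, q, σ * q * σ⁻¹, ρ * p * ρ⁻¹])
      (val [σ, ρ, n, n⁻¹, t, p, q, σ * q * σ⁻¹]) (mv k l m) := by
  have P1 : Pres T1 _ := h.pres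
  have I1 := h.ind
  have aY := h.sA.act
  have aX : Act _ _ _ (fX l) := h.sB.act' (by decide)
  have YY := conj_sq (g := σ) (q := q) (P1.sq 6 (by decide))
  have XX := conj_sq (g := ρ) (q := p) (P1.sq 5 (by decide))
  have aσ : Act (val [a, u, v, t, s, p, q, σ * q * σ⁻¹, ρ * p * ρ⁻¹]) σ (mσ false 1 k).1
      (mσ false 1 k).2 := by
    have e := h.sA.nxt
    have e' := h.σp
    cases k <;>
    · simp only [Act, mσ, sg, eY, ow, cond, List.mem_cons, List.not_mem_nil, or_false,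
        forall_eq_or_imp, forall_eq, List.cons_append, List.nil_append] at e e' ⊢
      wsimp at e e' ⊢
      exact ⟨h.A.σa, h.A.σu, h.A.σv, h.A.σt, e', trivial, e⟩
  have aρ : Act (val [a, u, v, t, s, p, q, σ * q * σ⁻¹, ρ * p * ρ⁻¹]) ρ (mρ l).1 (mρ l).2 := by
    have e := h.sB.nxt
    have e' := h.ρq
    cases l <;>
    · simp only [Act, mρ, sg, swp, swW, eY, ow, cond, List.map, List.getD, List.mem_cons,
        List.not_mem_nil, or_false, forall_eq_or_imp, forall_eq, List.getElem?_cons_succ,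
        List.getElem?_cons_zero, List.cons_append, List.nil_append] at e e' ⊢
      wsimp at e e' ⊢
      exact ⟨h.B.σu, h.B.σa, h.B.σv, h.B.σt, trivial, e', e⟩
  generalize σ * q * σ⁻¹ = Y at aY YY aσ aρ ⊢
  generalize ρ * p * ρ⁻¹ = X at aX XX aσ aρ ⊢
  have lt : ∀ w : List ℕ, w.all (· < 7) = true → w.all (· ∈ List.range 7) = true := fun w hw => by
    simpa using hw
  have c1 : ∀ k l : Bool, ∀ w ∈ subs 7, (app (fX l) w).all (· ∈ List.range 7) = true ∧
      (app (fY 1 k) w).all (· ∈ List.range 7) = true ∧ yx k l w ∈ subs 7 ∧ xy k l w ∈ subs 7 := by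
    decide +kernel
  have i7 : ∀ i < 7, [i] ∈ subs 7 := by decide
  have ev : ∀ w ∈ subs 7, W (val [a, u, v, t, s, p, q, Y, X]) w = W (val [a, u, v, t, s, p, q]) w :=
    fun w hw => W_val [a, u, v, t, s, p, q] [Y, X] (subs_lt hw)
  have b1 : ∀ i < 7, val [a, u, v, t, s, p, q, Y, X] i = W (val [a, u, v, t, s, p, q]) [i] :=
    fun i hi => by rw [← ev _ (i7 i hi), W_cons, W_nil, mul_one]
  have P2 : Pres (T2 k) (val [a, u, v, t, s, p, q, Y]) :=
    P1.snoc rfl rfl (aY.inv YY) (q := []) YY (by cases k <;> decide)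
  have P3 : Pres (T2 k) (val [a, u, v, t, s, p, q, Y, X]) := P2.derive' _ []
    (fun i hi => by change i < 8 at hi; interval_cases i <;> wsimp) (by cases k <;> decide)
    (by cases k <;> decide +kernel)
  have AQ : cl [a, u, v, t] ≤ H (val [a, u, v, t, s, p, q]) 7 := by
    rw [H_val]; exact cl_mono (by simp)
  generalize val [a, u, v, t, s, p, q] = x at P1 I1 aY aX ev b1 AQ
  have a1 : ∀ w ∈ subs 7, Y * X * W x w * (Y * X)⁻¹ = W x (yx k l w) := fun w hw => by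
    rw [yx, P1.W_col, aY.mul aX (lt w (subs_lt hw)) (c1 k l w hw).1]
  have a2 : ∀ w ∈ subs 7, X * Y * W x w * (X * Y)⁻¹ = W x (xy k l w) := fun w hw => by
    rw [xy, P1.W_col, aX.mul aY (lt w (subs_lt hw)) (c1 k l w hw).2.1]
  have an : ∀ i < 7, Y * X * (Y * X * (Y * X)) * W x [i] * (Y * X * (Y * X * (Y * X)))⁻¹ =
      W x (yx k l (yx k l (yx k l [i]))) := fun i hi => by
    have h1 := (c1 k l _ (i7 i hi)).2.2.1
    rw [← a1 _ (c1 k l _ h1).2.2.1, ← a1 _ h1, ← a1 _ (i7 i hi)]; group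
  obtain ⟨m, hm, c, hc, e1, e2⟩ := H30.DZ.jobL.adj3 G (H x 7) Y X (P1.isPGroup rfl le_rfl)
    (fun R h1 h2 => (H85.DZ.ca2 h.toLc h2 (h1.trans (centralizer_le AQ))).trans AQ)
    (aY.nor (by cases k <;> decide)) (aX.nor (by cases l <;> decide)) YY XX (by
      obtain ⟨r, hr, e⟩ := (by decide +kernel : ∀ k l : Bool, ∃ r ∈ subs 7, ∀ i < 7,
        T1.same (yx k l (yx k l (yx k l [i]))) (r ++ [i] ++ r.reverse) = true) k l
      rw [← mul_inv_cancel_left (W x r) (Y * X * (Y * X * (Y * X)))]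
      refine mul_mem_sup (W_mem (subs_lt hr)) (le_cen1_iff.1 (H_le fun i hi => mem_cen1.2 ?_))
      have := (an i hi).trans ((P1.W_eq (e i hi)).trans (P1.conj (fun _ => rfl) (subs_lt hr) [i]).symm)
      rw [W_cons, W_nil, mul_one, mul_inv_eq_iff_eq_mul] at this
      rw [mul_assoc (W x r)⁻¹, this]; group)
  obtain ⟨m, hw, rfl⟩ := P1.mem rfl le_rfl hm
  have cc : ∀ {c}, c ∈ cen (H x 7) → ∀ w ∈ subs 7, c * W x w * c⁻¹ = W x w := fun hc w hw =>
    mul_inv_eq_iff_eq_mul.2 (mem_cen_iff.1 hc _ (W_mem (subs_lt hw)))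
  have a3 : ∀ w ∈ subs 7, (c * (X * Y))⁻¹ * W x w * (c * (X * Y))⁻¹⁻¹ = W x (yx k l w) := fun w hw => by
    rw [show ∀ y, (c * (X * Y))⁻¹ * y * (c * (X * Y))⁻¹⁻¹ = (X * Y)⁻¹ * (c⁻¹ * y * c⁻¹⁻¹) * (X * Y) from
      fun y => by group, cc (inv_mem hc) w hw, ← a1 w hw, mul_inv_rev, mul_inv_rev,
      inv_eq_of_mul_eq_one_right YY, inv_eq_of_mul_eq_one_right XX]
  have s2 : ∀ i, (T2 k).sq i = [] := fun i => ite_self _
  refine ⟨c * (X * Y), m, hw, fun i hi => P1.eqv I1 ?_, P3, .cons aσ (.cons aρ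
    (.cons (fun r hr => ?_) (.cons (fun r hr => ?_) (.cons (act_inn P3 (r := 3) (show 3 < 8 by decide) (s2 _))
    (.cons (act_inn P3 (r := 5) (show 5 < 8 by decide) (s2 _))
    (.cons (act_inn P3 (r := 6) (show 6 < 8 by decide) (s2 _))
    (.cons (act_inn P3 (r := 7) (show 7 < 8 by decide) (s2 _)) .nil)))))))⟩
  · have hi : i < 7 := by simp at hi; omega
    have := mem_cen_iff.1 e1 _ (conj_mem_of_mem_normalizer (le_normalizer hm) (W_mem (subs_lt (i7 i hi))))
    rw [← an i hi, ← P1.conj (fun _ => rfl) (subs_lt hw), ← mul_inv_eq_iff_eq_mul.2 this]; group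
  · rcases List.mem_cons.1 hr with rfl | hr
    · change c * (X * Y) * X * (c * (X * Y))⁻¹ = W _ ((7 :: m) ++ [])
      rw [List.append_nil, W_cons, ev m hw, e2]; rfl
    · have hr := List.mem_range.1 hr
      have h1 := (c1 k l _ (i7 r hr)).2.2.2
      rw [b1 r hr, show ∀ y, c * (X * Y) * y * (c * (X * Y))⁻¹ = c * (X * Y * y * (X * Y)⁻¹) * c⁻¹ from
        fun y => by group, a2 _ (i7 r hr), cc hc _ h1, ← ev _ h1]
      exact congrArg _ (app_tab _ (fun i => xy k l [i]) hr).2.symm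
  · rcases Nat.lt_succ_iff_lt_or_eq.1 (List.mem_range.1 hr) with hr | rfl
    · rw [b1 r hr, a3 _ (i7 r hr), ← ev _ (c1 k l _ (i7 r hr)).2.2.1]
      exact congrArg _ (app_tab _ (fun i => yx k l [i]) hr).1.symm
    · have h1 := (c1 k l m hw).2.2.1
      change (c * (X * Y))⁻¹ * Y * (c * (X * Y))⁻¹⁻¹ = W _ ((8 :: (yx k l m).reverse) ++ [])
      rw [List.append_nil, W_cons, P3.W_rev s2 (List.all_eq_true.2 fun r hr => decide_eq_true
        ((nf_lt (nf_of_mem_subs h1) r hr).trans (show 7 < 8 by decide))), ev _ h1, ← a3 m hw]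
      change _ = X * _
      generalize c * (X * Y) = n at e2 ⊢
      rw [eq_mul_inv_of_mul_eq e2.symm]; group

theorem wb0 (h : H85.DZ.WD t v s u a σ ρ p q false false true true 1 1 k l) :
    k = l ∧ ∃ d ∈ nor (cl [a, u, v, t, s, p, q]), H85.DZ.Dd t v s u a d := by
  obtain ⟨n, m, hm, e, P, M⟩ := moves h
  refine ⟨by_contra fun ne => ?_, h.nd.resolve_left fun hS => ?_⟩
  · obtain ⟨c, -, hc⟩ := key2 k l ne m hm e
    exact fx_chk h.toLc P M hc
  · obtain ⟨c₁, -, i, -, r, -, hc⟩ := key k l m hm e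
    exact pab_chk h.toLc hS P M hc

end H30.WB
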