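import Cfsg.Agent.H30.NZ2
import Cfsg.Agent.H57.DZC
import Cfsg.Agent.H49.NWSpec
import Cfsg.Agent.Rz.H85_FZ_fY_eq_4

/-! DZ, branches NE and WA: the group `P₂` (`H49.NW.JobN1`, `H49.NW.JobW1`). -/

set_option autoImplicit false
set_option linter.unusedSectionVars false

namespace H30.NW

open Subgroup Cfsg H14 H98 H1.Gold H31.S2 H85.FZ H49.D8 H62.FZ H85.DZ H30.NZ H49.NW

universe u

variable {G : Type u} [Group G] [Finite G] {t v s u a σ ρ g c : G}
  {T : Tb} {x : ℕ → G} {S J q : List ℕ} {f f' : List (ℕ × List ℕ)}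

/-- `H30.NZ.ext1` with the conjugating element. -/
theorem ext2 (h : Lc t v s u a σ ρ) {l : List G} (P : Pres T (val (a :: u :: v :: t :: l)))
    (hs : ∀ s, T.sq s = []) (gg : g * g = 1) (A : Act (val (a :: u :: v :: t :: l)) g S f)
    (k : chkE T S J f f' = true) : ∃ c ∈ cen (cl (S.map (val (a :: u :: v :: t :: l)))),
      Act (val (a :: u :: v :: t :: l)) (c * g * c⁻¹) S f ∧
      ∀ j ∈ J, ∃ w ∈ subs 4, c * g * c⁻¹ * val (a :: u :: v :: t :: l) j * (c * g * c⁻¹)⁻¹ =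
        W (val (a :: u :: v :: t :: l)) (app f' [j] ++ w) := by
  simp only [chkE, Bool.and_eq_true, List.all_eq_true, decide_eq_true_eq, Bool.or_eq_true,
    List.mem_range] at k
  obtain ⟨⟨⟨⟨⟨wf, k0⟩, k1⟩, k2⟩, k3⟩, k4⟩ := k
  have AQ : cl [a, u, v, t] ≤ cl (S.map (val (a :: u :: v :: t :: l))) :=
    cl_mono (l := [0, 1, 2, 3].map (val (a :: u :: v :: t :: l))) (List.map_subset _ k0)
  have mA := fun g => P.mem_cl (g := g) wf 4 (k1 3 (k0 3 (by simp)))
  generalize val (a :: u :: v :: t :: l) = x at P A AQ mA ⊢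
  have ai : ∀ j < T.n, Act x (x j) S (inn S [j]) := fun j hj => by
    simpa using act_inn P hs (w := [j]) (by simpa using hj) S
  have key : ∀ g, g * g = 1 → Act x g S f → ∀ j ∈ J,
      (W x (app f' [j]))⁻¹ * (g * x j * g⁻¹) ∈ cen (cl (S.map x)) := fun g gg A j hj => by
    rw [inv_eq_of_mul_eq_one_right gg]
    exact act_cen P (act_cp P (act_cp P A (ai j (k4 j hj).1.1) (k3 j (k4 j hj).1.1).2) A k2)
      (act_inn P hs (List.all_eq_true.2 fun r hr => decide_eq_true ((k4 j hj).1.2 r hr)) S) (k4 j hj).2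
  have wH : ∀ j ∈ J, W x (app f' [j]) ∈ H x T.n := fun j hj => W_mem_of fun r hr =>
    x_mem ((k4 j hj).1.2 r hr)
  have QH : cl (S.map x) ≤ H x T.n := cl_le.2 fun y hy => by
    obtain ⟨r, hr, rfl⟩ := List.mem_map.1 hy
    exact x_mem (k1 r hr)
  have HQ : H x T.n ≤ nor (cl (S.map x)) := H_le fun j hj => act_nor P (ai j hj) (k3 j hj).2
  have H2 := P.isPGroup wf le_rfl
  have gQ := act_nor P A k2
  have st : St (cl (S.map x)) (H x T.n ⊔ cen (cl (S.map x))) := ⟨H2.to_le QH, le_sup_right,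
    sup_le HQ (centralizer_le_normalizer _), fun g hg ho => res_sup_le_right H2
      (le_normalizer_centralizer HQ) (mem_res_of_coprime hg (H30.DZ.cop2 ho))⟩
  obtain ⟨c, hc, e⟩ := H30.DZ.st_adj (H30.DZ.st_ext st gQ (k := 1) (mem_normalizer_of_cj_le (by
      rw [cj_sup, cj_centralizer, cj_eq_self gQ]
      refine sup_le (cj_le_iff.2 (H_le fun j hj => mem_cj.2 ?_)) le_sup_right
      rw [inv_inv]
      rcases (k3 j hj).1 with e | e
      · exact mem_sup_left (QH (conj_mem_of_mem_normalizer gQ (mem_cl (List.mem_map_of_mem e))))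
      · simpa using mul_mem (mem_sup_left (wH j e)) (mem_sup_right (key g gg A j e))))
    (by simp [pow_two, gg])) H2 (isPGroup_zpowers (k := 1) (by simp [pow_two, gg]))
    (le_sup_left.trans le_sup_left) le_sup_right
  have A' : Act x (c * g * c⁻¹) S f := fun r hr => by
    have m := mem_cl (l := S.map x) (List.mem_map_of_mem hr)
    rw [← act_mul_cen A (inv_mem hc) r hr, ← mul_right_inj c⁻¹, mem_cen_iff.1 (inv_mem hc) _
      (conj_mem_of_mem_normalizer (mul_mem gQ (centralizer_le_normalizer _ (inv_mem hc))) m)]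
    group
  refine ⟨c, hc, A', fun j hj => ?_⟩
  have m : c * g * c⁻¹ ∈ H x T.n ⊔ cj c (zpowers g) := mem_sup_right (conj_mem_cj (mem_zpowers g))
  obtain ⟨w, hw, e'⟩ := mA _ (ca2m h e (mul_mem (mem_sup_left (inv_mem (wH j hj))) (mul_mem (mul_mem m
    (mem_sup_left (x_mem (k4 j hj).1.1))) (inv_mem m)))
    (centralizer_le AQ (key _ (conj_sq gg) A' j hj)))
  exact ⟨w, hw, by rw [W_append, ← e', mul_inv_cancel_left]⟩

theorem half_cj (h : Half' t v s u a σ) (hc : c ∈ cen (cl [a, u, v, t])) :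
    Half' t v s u a (c * σ * c⁻¹) := by
  have := H57.DZ.half_mul h (mul_mem hc (nor_cen (hnorA h) (inv_mem hc)))
  rwa [mul_assoc c, inv_mul_cancel_right, ← mul_assoc] at this

theorem base_cj (h : H85.DZ.Base t v s u a σ ρ) (hc : c ∈ cen (cl [u, a, s, t])) :
    H85.DZ.Base t v s u a σ (c * ρ * c⁻¹) := ⟨⟨⟨h.toTr, h.A, half_cj h.B hc⟩, h.top⟩, h.nu, h.na⟩

theorem actB (h : Half' t s v a u ρ) (l : List G) :
    Act (val (a :: u :: v :: t :: s :: l)) ρ [0, 1, 3, 4] [(1, [4, 0]), (4, [4, 0, 1])] := by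
  simp only [Act, List.mem_cons, List.not_mem_nil, or_false, forall_eq_or_imp, forall_eq]
  wsimp
  exact ⟨h.σu, h.σa, h.σt, h.σv⟩

theorem cj_cj' {b : G} (e : c * b = b * c) :
    c * ρ * c⁻¹ * b * (c * ρ * c⁻¹)⁻¹ = c * (ρ * b * ρ⁻¹) * c⁻¹ := by
  calc _ = c * ρ * (c⁻¹ * (b * c)) * ρ⁻¹ * c⁻¹ := by group
    _ = _ := by rw [← e]; group

theorem cj_nxt {b X : G} (e : c * b = b * c) (e' : ρ * X * ρ⁻¹ = X * b) :
    c * ρ * c⁻¹ * (c * X * c⁻¹) * (c * ρ * c⁻¹)⁻¹ = c * X * c⁻¹ * b := by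
  calc _ = c * (ρ * X * ρ⁻¹) * c⁻¹ := by group
    _ = c * X * c⁻¹ * (c * b) * c⁻¹ := by rw [e']; group
    _ = _ := by rw [e]; group

def dv (T T' : Tb) (ws : List (ℕ × List ℕ)) : Bool :=
  (List.range T'.n).all fun s => T.same (app ws [s, s]) (app ws (T'.sq s)) &&
    (List.range s).all fun r => T.same (app ws [r, s]) (app ws (s :: T'.cj s r))

abbrev Ad (T : Tb) (n : ℕ) (L L' : List ℕ) (f f' ws : List (ℕ × List ℕ)) : Prop :=
  ∀ r ∈ L', r < n ∧ (app ws [r]).all (· ∈ L) = true ∧ (app f' [r]).all (· < n) = true ∧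
    T.same (app f (app ws [r])) (app ws (app f' [r])) = true

/-! ### The narrow case -/

section
open H93.FZ H93.FZ.NEE

def fN (k : Bool) (w : List ℕ) := (6, 6 :: ow (!k) [5] ++ w) :: fX k
def wN (k : Bool) : List (ℕ × List ℕ) := [(2, 5 :: ow k [1]), (3, [2]), (4, 6 :: ow k [1]), (5, [4]),
  (6, 7 :: ow k [4, 0]), (7, [3])]
def sN (k : Bool) := (6, 6 :: dY false k) :: (5, [6]) :: sg
def rN (k : Bool) := (7, 7 :: (dY false k).map swN) :: (5, [7]) :: [(1, [4, 0]), (4, [4, 0, 1])]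

theorem keyN : ∀ k : Bool, chkE (T2 k) (List.range 6) [6] (fX k) [(6, 6 :: ow (!k) [5])] = true ∧
    (∀ w ∈ subs 7, (T2 k).eqv (w ++ [3] ++ w.reverse) [3, 4] = false) ∧
    ∀ w ∈ subs 4, cons (T2 k) (fN k w) [] = true → w ∈ subs 2 ∧
      ((List.range 7).all (fun r => (app (fN k w) [r]).all (· < 7)) && true) = true ∧
      dv ((T2 k).ext (fN k w)) (tbQ w) (wN k) = true ∧
      (∀ j < 8, ∀ w' ∈ subs j, ((T2 k).ext (fN k w)).eqv (app (wN k) [j]) (app (wN k) w') = false) ∧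
      Ad ((T2 k).ext (fN k w)) 8 [6, 5, 0, 1, 2, 3] [0, 1, 2, 3, 4, 7] (sN k) sQ (wN k) ∧
      Ad ((T2 k).ext (fN k w)) 8 [7, 5, 0, 1, 3, 4] [0, 1, 2, 5, 6, 7] (rN k) rQ (wN k) := by
  decide +kernel

theorem jobN1 : JobN1.{u} := by
  intro G _ _ t v s u a σ ρ y k l h hA hB
  have P1 := h.pres
  have I1 := h.ind
  have aY := hA.act
  have aX : Act _ _ _ (fX l) := hB.act'
  have nA := hA.nxt
  have nB := hB.nxt
  rw [W_swN] at nB
  have YY := conj_sq (g := σ) (q := y) (P1.sq 5 (by decide))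
  have XX := conj_sq (g := ρ) (q := y) (P1.sq 5 (by decide))
  obtain ⟨Y, hY⟩ : ∃ Y, Y = σ * y * σ⁻¹ := ⟨_, rfl⟩
  rw [← hY] at aY YY nA
  obtain rfl : k = l := by
    by_contra hn
    have wY := AW.of aY (by cases k <;> decide)
    have wX := AW.of aX (by cases l <;> decide)
    have an : AW _ _ 6 (nn k l) := ((wY.mul wX).mul wY).mul wX
    have h1 := an.nor P1 (k := 4) (by decide) (by cases k <;> cases l <;> decide +kernel)
    rw [H_val] at h1
    have h2 := (an [3] rfl).1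
    cases k <;> cases l
    · exact hn rfl
    · exact (h.narA _ h1).1 (by simpa using h2.trans (P1.W_eq (w' := [3, 1]) (by decide +kernel)))
    · exact (h.narA _ h1).2 (by simpa using h2.trans (P1.W_eq (w' := [3, 0]) (by decide +kernel)))
    · exact hn rfl
  obtain ⟨k0, k1, k2⟩ := keyN k
  have P2 : Pres (T2 k) (val [a, u, v, t, s, y, Y]) :=
    P1.snoc rfl rfl (aY.inv YY) (q := []) YY (by cases k <;> decide)
  have w2 : (T2 k).wf = true := by cases k <;> decide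
  have I2 : Ind (val [a, u, v, t, s, y, Y]) 7 := I1.snoc (l := [a, u, v, t, s, y])
    (P1.notMem rfl I1 rfl (fun _ => rfl) (aY.w (w := [3]) rfl) (by cases k <;> decide +kernel))
  have s2 : ∀ i, (T2 k).sq i = [] := fun i => ite_self _
  obtain ⟨c, hc, aX, e⟩ := ext2 h.toLc P2 s2 XX (aX.snoc Y (by cases k <;> rfl)) k0
  replace hc : c ∈ cen (cl [a, u, v, t, s, y]) := hc
  have XX := conj_sq (g := c) XX
  have hb := base_cj h.toBase (centralizer_le (cl_mono (by simp)) hc)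
  have eX := cj_cj' (ρ := ρ) (mem_cen_iff.1 hc y (mem_cl (by simp)))
  replace nB := cj_nxt (mem_cen_iff.1 hc _ (W_mem_cl [a, u, v, t, s, y] 6 (by cases k <;> rfl))) nB
  generalize c * (ρ * y * ρ⁻¹) * c⁻¹ = X at aX e XX eX nB
  generalize c * ρ * c⁻¹ = ρ' at hb eX nB
  obtain ⟨w, hw, e⟩ := e 6 (by simp)
  replace aX : Act _ X (List.range 7) (fN k w) := act_mono (act_cons aX (r := 6) (by simpa [app] using e)) rfl
  obtain ⟨k3, k4, k5, k6, k7, k8⟩ := k2 w hw (cons_of P2 I2 w2 aX XX)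
  have P3 : Pres ((T2 k).ext (fN k w)) (val [a, u, v, t, s, y, Y, X]) :=
    P2.snoc rfl w2 (aX.inv XX) XX k4
  have I3 : Ind (val [a, u, v, t, s, y, Y, X]) 8 := I2.snoc (l := [a, u, v, t, s, y, Y])
    (P2.notMem w2 I2 rfl s2 (c := [3]) (c' := [3, 4])
      (by cases k <;> simpa [app, fN, fX, swp, gY, swN] using aX 3 (by decide)) k1)
  have tr : ∀ i < 6, val [a, u, v, t, s, y, Y, X] i = val [a, u, v, t, s, y] i := fun i hi => by
    interval_cases i <;> rfl
  rw [← W_congr tr (by cases k <;> rfl)] at nA nB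
  have ev : ∀ i < 8, val [a, u, y * W (val [a, u]) (ow k [1]), v, Y * W (val [a, u]) (ow k [1]), s,
      X * W (val [a, s]) (ow k [1, 0]), t] i = W (val [a, u, v, t, s, y, Y, X]) (app (wN k) [i]) :=
    fun i hi => by cases k <;> interval_cases i <;> simp [wN, app, ow]
  have P4 := P3.derive' (tbQ w) _ ev (keyQ w k3).1 k5
  exact ⟨ρ', _, _, _, w, ⟨hb, h.narA, h.narB⟩, k3, P4, P3.ind_derive I3 P4 (keyQ w k3).1 ev k6,
    act_derive P3 (act_cons (act_cons (hact h.A _) (r := 5) (w := [6]) (by simpa using hY.symm))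
      (r := 6) (w := 6 :: dY false k) nA) ev k7,
    act_derive P3 (act_cons (act_cons (actB hb.B _) (r := 5) (w := [7]) (by simpa using eX))
      (r := 7) (w := 7 :: (dY false k).map swN) nB) ev k8⟩

end

/-! ### The wide case -/

section
open H85.FZ.WA

def mW (k l : Bool) : List ℕ := 7 :: (ow (!l) [6] ++ ow (!k) [5])
def fW (k l : Bool) (w : List ℕ) := (7, mW k l ++ w) :: fX l
def wW (k : Bool) : List (ℕ × List ℕ) := [(2, 5 :: ow k [1]), (3, [6]), (4, [2]), (5, [7]), (6, [4]),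
  (7, 8 :: ow k [4, 0]), (8, [3])]
def sW (k : Bool) := (7, 7 :: eY 0 k) :: (6, [7]) :: (5, [5]) :: sg
def rW (l : Bool) := (8, 8 :: (eY 0 l).map swW) :: (5, [8]) :: (6, [6]) :: [(1, [4, 0]), (4, [4, 0, 1])]

theorem keyW (k l : Bool) : chkE (T2 k) (List.range 7) [7] (fX l) [(7, mW k l)] = true ∧
    (∀ w ∈ subs 8, (T2 k).eqv (w ++ [3] ++ w.reverse) [3, 4, 0] = false) ∧
    ∀ w ∈ subs 4, cons (T2 k) (fW k l w) [] = true → w ∈ subs 2 ∧
      ((List.range 8).all (fun r => (app (fW k l w) [r]).all (· < 8)) && true) = true ∧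
      dv ((T2 k).ext (fW k l w)) (tbV (k ^^ l) w) (wW k) = true ∧
      (∀ j < 9, ∀ w' ∈ subs j, ((T2 k).ext (fW k l w)).eqv (app (wW k) [j]) (app (wW k) w') = false) ∧
      Ad ((T2 k).ext (fW k l w)) 9 [7, 6, 5, 0, 1, 2, 3] [0, 1, 2, 3, 4, 5, 8] (sW k) sV (wW k) ∧
      Ad ((T2 k).ext (fW k l w)) 9 [8, 5, 6, 0, 1, 3, 4] [0, 1, 2, 3, 6, 7, 8] (rW l) (rV (k ^^ l))
        (wW k) := by
  cases k <;> cases l <;> decide +kernel

theorem jobW1 : JobW1.{u} := by
  intro G _ _ t v s u a σ ρ p q k l h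
  have P1 : Pres T1 _ := h.pres
  have I1 := h.ind
  have aY := h.sA.act
  have aX : Act _ _ _ (fX l) := h.sB.act' (by decide)
  have nA := h.sA.nxt
  have nB := h.sB.nxt
  rw [W_swW] at nB
  have YY := conj_sq (g := σ) (q := q) (P1.sq 6 (by decide))
  have XX := conj_sq (g := ρ) (q := p) (P1.sq 5 (by decide))
  obtain ⟨Y, hY⟩ : ∃ Y, Y = σ * q * σ⁻¹ := ⟨_, rfl⟩
  rw [← hY] at aY YY nA
  obtain ⟨k0, k1, k2⟩ := keyW k l
  have P2 : Pres (T2 k) (val [a, u, v, t, s, p, q, Y]) :=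
    P1.snoc rfl rfl (aY.inv YY) (q := []) YY (by cases k <;> decide)
  have w2 : (T2 k).wf = true := by cases k <;> decide
  have I2 : Ind (val [a, u, v, t, s, p, q, Y]) 8 := I1.snoc (l := [a, u, v, t, s, p, q])
    (P1.notMem rfl I1 rfl (fun _ => rfl) (aY.w (w := [3]) rfl) (by cases k <;> decide +kernel))
  have s2 : ∀ i, (T2 k).sq i = [] := fun i => ite_self _
  obtain ⟨c, hc, aX, e⟩ := ext2 h.toLc P2 s2 XX (aX.snoc Y (by cases l <;> rfl)) k0
  replace hc : c ∈ cen (cl [a, u, v, t, s, p, q]) := hc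
  have XX := conj_sq (g := c) XX
  have hb := base_cj h.toBase (centralizer_le (cl_mono (by simp)) hc)
  have eX := cj_cj' (ρ := ρ) (mem_cen_iff.1 hc p (mem_cl (by simp)))
  have eq := cj_cj' (ρ := ρ) (mem_cen_iff.1 hc q (mem_cl (by simp)))
  rw [h.ρq, show W (val [a, u]) (ow false [1, 0]) = 1 from rfl, mul_one,
    mem_cen_iff.1 hc q (mem_cl (by simp)), mul_inv_cancel_right] at eq
  replace nB := cj_nxt (mem_cen_iff.1 hc _ (W_mem_cl [a, u, v, t, s, p, q] 7 (by cases l <;> rfl))) nB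
  generalize c * (ρ * p * ρ⁻¹) * c⁻¹ = X at aX e XX eX nB
  generalize c * ρ * c⁻¹ = ρ' at hb eX eq nB
  obtain ⟨w, hw, e⟩ := e 7 (by simp)
  replace aX : Act _ X (List.range 8) (fW k l w) :=
    act_mono (act_cons aX (r := 7) (by simpa [app] using e)) rfl
  obtain ⟨k3, k4, k5, k6, k7, k8⟩ := k2 w hw (cons_of P2 I2 w2 aX XX)
  have P3 : Pres ((T2 k).ext (fW k l w)) (val [a, u, v, t, s, p, q, Y, X]) :=
    P2.snoc rfl w2 (aX.inv XX) XX k4
  have I3 : Ind (val [a, u, v, t, s, p, q, Y, X]) 9 := I2.snoc (l := [a, u, v, t, s, p, q, Y])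
    (P2.notMem w2 I2 rfl s2 (c := [3]) (c' := [3, 4, 0])
      (by cases l <;> simpa [app, fW, fX, swp, fY, swW] using aX 3 (by decide)) k1)
  have tr : ∀ i < 7, val [a, u, v, t, s, p, q, Y, X] i = val [a, u, v, t, s, p, q] i := fun i hi => by
    interval_cases i <;> rfl
  rw [← W_congr tr (by cases k <;> rfl)] at nA
  rw [← W_congr tr (by cases l <;> rfl)] at nB
  have ev : ∀ i < 9, val [a, u, p * W (val [a, u]) (ow k [1]), q, v, Y, s,
      X * W (val [a, s]) (ow k [1, 0]), t] i = W (val [a, u, v, t, s, p, q, Y, X]) (app (wW k) [i]) :=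
    fun i hi => by cases k <;> interval_cases i <;> simp [wW, app, ow]
  have P4 := P3.derive' (tbV (k ^^ l) w) _ ev (keyV _ w k3).1 k5
  exact ⟨ρ', _, _, _, _, w, hb, k3, P4, P3.ind_derive I3 P4 (keyV _ w k3).1 ev k6,
    act_derive P3 (act_cons (act_cons (act_cons (hact h.A _) (r := 5) (w := [5])
      (by simpa [ow] using h.σp)) (r := 6) (w := [7]) (by simpa using hY.symm))
      (r := 7) (w := 7 :: eY 0 k) nA) ev k7,
    act_derive P3 (act_cons (act_cons (act_cons (actB hb.B _) (r := 6) (w := [6]) (by simpa using eq))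
      (r := 5) (w := [8]) (by simpa using eX)) (r := 8) (w := 8 :: (eY 0 l).map swW) nB) ev k8⟩

end

end H30.NW
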