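import Cfsg.Agent.H30.NZ2
import Cfsg.Agent.H49.NWSpec

/-! DZ, branches NE and WA: the bad tables (`H49.NW.JobN2`, `H49.NW.JobW2`). -/

set_option autoImplicit false
set_option linter.unusedSectionVars false

namespace H30.NW

open Subgroup Cfsg H14 H98 H1.Gold H31.S2 H85.FZ H49.D8 H62.FZ H85.DZ H30.NZ H49.NW

universe u

variable {G : Type u} [Group G] [Finite G] {g g' : G} {T : Tb} {x : ℕ → G}
  {S S' Z p q : List ℕ} {f f' : List (ℕ × List ℕ)}

theorem W_mem_map {w : List ℕ} (h : w.all (· ∈ S) = true) : W x w ∈ cl (S.map x) :=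
  W_mem_of fun i hi => mem_cl (List.mem_map_of_mem (of_decide_eq_true (List.all_eq_true.1 h i hi)))

theorem act_of_cen (h : g ∈ cen (cl (S.map x))) : Act x g S [] :=
  one_mul g ▸ act_mul_cen (act_one x S) h

theorem cen_of (P : Pres T x) (A : Act x g S f) (h : agree T S f [] = true) :
    g ∈ cen (cl (S.map x)) := by simpa using act_cen P A (act_one x S) h

def cps (T : Tb) (S : List ℕ) : List (List (ℕ × List ℕ)) → List (ℕ × List ℕ)
  | [] => []
  | f :: fs => cp T S f (cps T S fs)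

def oks (T : Tb) (S : List ℕ) : List (List (ℕ × List ℕ)) → Bool
  | [] => true
  | _ :: fs => ok T S S (cps T S fs) && oks T S fs

theorem act_cps (P : Pres T x) {fs : List (List (ℕ × List ℕ))} (h : ∀ f ∈ fs, ∃ g, Act x g S f)
    (k : oks T S fs = true) : ∃ g, Act x g S (cps T S fs) := by
  induction fs with
  | nil => exact ⟨1, act_one x S⟩
  | cons f fs ih =>
    rw [oks, Bool.and_eq_true] at k
    obtain ⟨g, A⟩ := h f List.mem_cons_self
    obtain ⟨g', A'⟩ := ih (fun f hf => h f (List.mem_cons_of_mem _ hf)) k.2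
    exact ⟨_, act_cp P A A' k.1⟩

abbrev Chk8 (T : Tb) (S : List ℕ) (f : List (ℕ × List ℕ)) : Prop :=
  ok T S S f = true ∧ ok T S S (cp T S f f) = true ∧
  ok T S S (cp T S (cp T S f f) (cp T S f f)) = true ∧
  agree T S (cp T S (cp T S (cp T S f f) (cp T S f f)) (cp T S (cp T S f f) (cp T S f f))) [] = true ∧
  agv T S (cp T S (cp T S f f) (cp T S f f)) [] = false ∧
  ∀ w ∈ subs T.n, (T.col (w ++ w ++ (w ++ w))).all (· ∈ S) = true

/-- An element of order `8` on `E`. -/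
theorem kill8 (P : Pres T x) (I : Ind x T.n) (wf : T.wf = true)
    (hS : IsSyl 2 (H x T.n) (nor (cl (S.map x)))) (el : ∀ e ∈ cl (S.map x), e * e = 1)
    (A : ∃ g, Act x g S f) (k : Chk8 T S f) : False := by
  obtain ⟨k1, k2, k3, k5, k6, k7⟩ := k
  obtain ⟨g, A⟩ := A
  have e : ∀ y : G, y * y * (y * y) = y ^ 4 := fun y => by rw [show (4 : ℕ) = 2 + 2 from rfl, pow_add, pow_two]
  have A4 := act_cp P (act_cp P A A k1) (act_cp P A A k1) k2
  rw [e] at A4
  have := no8 hS (fun y hy => by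
    obtain ⟨w, hw, rfl⟩ := P.mem wf le_rfl hy
    have := W_mem_map (x := x) (k7 w hw)
    rw [P.W_col, W_append, W_append, e] at this
    exact ab_of_sq el this) (act_nor P A k1) (by simpa [← pow_add] using cen_of P (act_cp P A4 A4 k3) k5)
  rw [agv_of P I A4 (act_of_cen this)] at k6
  exact absurd k6 (by decide)

def cms (T : Tb) (w c : List ℕ) : Bool := T.eqv (w ++ c) (c ++ w)

abbrev ChkZ (T : Tb) (S S' Z p q : List ℕ) (f f' : List (ℕ × List ℕ)) : Prop :=
  ok T S S f = true ∧ ok T S' S' f' = true ∧ Z.all (· ∈ S) = true ∧ Z.all (· ∈ S') = true ∧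
  ok T Z Z f' = true ∧ ok T Z Z (cp T Z f f') = true ∧ (∀ r ∈ S, r < T.n) ∧
  (∃ r ∈ S, ∃ r' ∈ S', cms T [r] [r'] = false) ∧
  (∀ c ∈ [p, q], c.all (· ∈ Z) = true ∧ T.same (app (cp T Z f f') c) c = true) ∧
  agree T Z (cp T Z (cp T Z f f') (cp T Z f f')) [] = true ∧ agv T Z (cp T Z f f') [] = false ∧
  (∀ j < T.n, ok T Z Z (inn Z [j]) = true ∧ ∀ c ∈ [p, q],
    ∃ d ∈ [[], p, q, p ++ q], T.same ([j] ++ c ++ [j].reverse) d = true) ∧
  ∀ w ∈ subs T.n, (cms T w p = true → cms T w q = true → agree T Z (inn Z w) [] = true) ∧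
    ((∀ r ∈ Z, cms T w [r] = true) → T.eqv (w ++ w) [] = true →
      w.all (· ∈ S) = true ∨ w.all (· ∈ S') = true)

/-- An element that centralizes `Φ` but not `Z`. -/
theorem killZ (P : Pres T x) (I : Ind x T.n) (wf : T.wf = true) (hs : ∀ s, T.sq s = [])
    (hS : IsSyl 2 (H x T.n) (nor (cl (S.map x)))) (hS' : IsSyl 2 (H x T.n) (nor (cl (S'.map x))))
    (el : ∀ e ∈ cl (S.map x), e * e = 1) (el' : ∀ e ∈ cl (S'.map x), e * e = 1)
    (cd : Nat.card (cl (S.map x)) = Nat.card (cl (S'.map x))) (A : ∃ g, Act x g S f)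
    (A' : ∃ g, Act x g S' f') (k : ChkZ T S S' Z p q f f') : False := by
  obtain ⟨k1, k2, k3, k3', k4, k5, k6, ⟨r, hr, r', hr', k7⟩, k8, k9, k10, k11, k12⟩ := k
  obtain ⟨g, A⟩ := A
  obtain ⟨g', A'⟩ := A'
  have cm : ∀ {w c}, W x w * W x c = W x c * W x w → cms T w c = true := fun e =>
    P.eqv I (by simpa using e)
  have mm : ∀ {S : List ℕ} {r}, r ∈ S → x r ∈ cl (S.map x) := fun h => mem_cl (List.mem_map_of_mem h)
  have ZA : cl (Z.map x) ≤ cl (S.map x) := cl_mono (List.map_subset _ fun r hr =>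
    of_decide_eq_true (List.all_eq_true.1 k3 r hr))
  have PZ : H x T.n ≤ nor (cl (Z.map x)) := H_le fun j hj => act_nor P (by
    simpa using act_inn P hs (w := [j]) (by simpa using hj) Z) (k11 j hj).1
  have B := act_mono A' k3'
  have nK : nor (cl (S'.map x)) ⊓ nor (cl (Z.map x)) ≤ nor (nor (cl (S'.map x)) ⊓ cen (cl (Z.map x))) :=
    H98.le_normalizer_inf (inf_le_left.trans le_normalizer) (le_normalizer_centralizer inf_le_right)
  obtain ⟨b, hb, n, hn, e⟩ := ((hS'.of_le (le_inf hS'.le PZ) inf_le_left).inf_of_le_normalizer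
    (inf_le_inf_left _ (centralizer_le_normalizer _)) ((le_inf hS'.le PZ).trans nK)).frattini_mem
    (nK ⟨act_nor P A' k2, act_nor P B k4⟩)
  have b1 : b ∈ nor (cl (S'.map x)) := (mul_mem_cancel_right (mem_inf.1 hn).1).1 (e ▸ act_nor P A' k2)
  replace B : Act x b Z f' := by simpa [e] using act_mul_cen B (inv_mem (mem_inf.1 hn).2)
  have AP : cl (S.map x) ≤ H x T.n := cl_le.2 fun y hy => by
    obtain ⟨r, hr, rfl⟩ := List.mem_map.1 hy
    exact x_mem (k6 r hr)
  have or : ∀ y ∈ cj b (cl (S.map x)), y ∈ cl (S.map x) ∨ y ∈ cl (S'.map x) := fun y hy => by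
    have m := cj_le_of_le (le_inf AP (le_inf (AP.trans hS'.le)
      ((ab_of_sq el).trans (centralizer_le ZA)))) hb hy
    obtain ⟨w, hw, rfl⟩ := P.mem wf le_rfl m.1
    exact ((k12 w hw).2 (fun r hr => cm (by simpa using mem_cen_iff.1 m.2.2 _ (mm hr)))
      (P.eqv I (by simpa [mul_assoc] using congrArg (fun r => b * r * b⁻¹) (el _ (mem_cj.1 hy))))).imp
      W_mem_map W_mem_map
  have b2 : b ∈ nor (cl (S.map x)) := by
    refine mem_normalizer_of_cj_le fun y hy => by_contra fun y1 => ?_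
    have le : cj b (cl (S.map x)) ≤ cl (S'.map x) := fun z hz => by_contra fun z1 =>
      (or _ (mul_mem hy hz)).elim (fun e => y1 ((mul_mem_cancel_right ((or z hz).resolve_right z1)).1 e))
        fun e => z1 ((mul_mem_cancel_left ((or y hy).resolve_left y1)).1 e)
    rw [cj_le_iff, cj_eq_self (inv_mem b1)] at le
    rw [cm (by simpa using mem_cen_iff.1 (ab_of_sq el' (le (mm hr))) _ (mm hr'))] at k7
    exact absurd k7 (by decide)
  have K := act_cp P (act_mono A k3) B k4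
  have kc : g * b ∈ cen (cl ([p, q].map (W x))) := cen_cl.2 fun y hy => by
    obtain ⟨c, hc, rfl⟩ := List.mem_map.1 hy
    exact (mul_inv_eq_iff_eq_mul.1 ((K.w (k8 c hc).1).trans (P.W_eq (k8 c hc).2))).symm
  have PΦ : H x T.n ≤ nor (cl ([p, q].map (W x))) := H_le fun j hj => nor_cl fun y hy => by
    obtain ⟨c, hc, rfl⟩ := List.mem_map.1 hy
    obtain ⟨d, hd, e⟩ := (k11 j hj).2 c hc
    have := (P.conj hs (w := [j]) (by simpa using hj) c).trans (P.W_eq e)
    rw [W_cons, W_nil, mul_one] at this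
    have m1 : W x p ∈ cl ([p, q].map (W x)) := mem_cl (by simp)
    have m2 : W x q ∈ cl ([p, q].map (W x)) := mem_cl (by simp)
    simp only [List.mem_cons, List.not_mem_nil, or_false] at hd
    rw [this]
    rcases hd with rfl | rfl | rfl | rfl
    exacts [one_mem _, m1, m2, W_append x _ _ ▸ mul_mem m1 m2]
  have := noZ (M := nor (cl (S.map x)) ⊓ (nor (cl (Z.map x)) ⊓ nor (cl ([p, q].map (W x)))))
    (hS.of_le (le_inf hS.le (le_inf PZ PΦ)) inf_le_left) (inf_le_right.trans inf_le_left)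
    (inf_le_right.trans inf_le_right) (fun y hy c => by
      obtain ⟨w, hw, rfl⟩ := P.mem wf le_rfl hy
      exact cen_of P (act_inn P hs (subs_lt hw) Z) ((k12 w hw).1
        (cm (mem_cen_iff.1 c _ (mem_cl (by simp)))) (cm (mem_cen_iff.1 c _ (mem_cl (by simp))))))
    ⟨mul_mem (act_nor P A k1) b2, act_nor P K k5, centralizer_le_normalizer _ kc⟩ kc
    (cen_of P (act_cp P K K k5) k9)
  rw [agv_of P I K (act_of_cen this)] at k10
  exact absurd k10 (by decide)

/-- The programs. -/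
def g8 (S w : List ℕ) (f : List (ℕ × List ℕ)) := [f, inn S w]
def tA (S w : List ℕ) (f : List (ℕ × List ℕ)) := [f, inn S w, f, inn S w, f, f]
def tB (S w w' : List ℕ) (f : List (ℕ × List ℕ)) := [f, inn S w', f, inn S w, f]

theorem prog (P : Pres T x) (hs : ∀ s, T.sq s = []) (A : Act x g S' f) (hS : S.all (· ∈ S') = true)
    {fs : List (List (ℕ × List ℕ))} (ws : List (List ℕ)) (h : ∀ f' ∈ fs, f' ∈ f :: ws.map (inn S))
    (k : oks T S fs = true ∧ ∀ w ∈ ws, w.all (· < T.n) = true) : ∃ g, Act x g S (cps T S fs) :=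
  act_cps P (fun f' hf => (List.mem_cons.1 (h f' hf)).elim (fun e => ⟨g, e ▸ act_mono A hS⟩) fun e => by
    obtain ⟨w, hw, rfl⟩ := List.mem_map.1 e
    exact ⟨_, act_inn P hs (k.2 w hw) S⟩) k.1

theorem jobN2 : JobN2.{u} := by
  intro G _ _ t v s u a σ ρ y Y X m h
  have hm := h.hm
  simp only [subs, List.map_cons, List.map_nil, List.cons_append, List.nil_append, List.mem_cons,
    List.not_mem_nil, or_false] at hm
  have pA := fun fs => prog (S := [0, 1, 2, 3, 4]) (fs := fs) h.pres (fun _ => rfl) h.aσ rfl [[6], [6, 7]]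
  have pB := fun fs => prog (S := [0, 1, 2, 5, 6]) (fs := fs) h.pres (fun _ => rfl) h.aρ rfl
    [[4], [4, 3], [4, 7]]
  rcases hm with rfl | rfl | rfl | rfl
  · rfl
  · exact (kill8 (S := [0, 1, 2, 5, 6]) h.pres h.ind h.wf h.naB h.elB.1
      (pB (g8 [0, 1, 2, 5, 6] [4, 7] rQ) (by simp [g8]) (by decide +kernel))
      (by decide +kernel)).elim
  · exact (kill8 (S := [0, 1, 2, 3, 4]) h.pres h.ind h.wf h.naA h.elA.1
      (pA (g8 [0, 1, 2, 3, 4] [6, 7] sQ) (by simp [g8]) (by decide +kernel))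
      (by decide +kernel)).elim
  · exact (killZ (S := [0, 1, 2, 3, 4]) (S' := [0, 1, 2, 5, 6]) (Z := [0, 1, 2]) (p := [2]) (q := [1, 0])
      h.pres h.ind h.wf (fun _ => rfl) h.naA h.naB
      h.elA.1 h.elB.1 (h.elA.2.1.trans h.elB.2.1.symm)
      (pA (tA [0, 1, 2, 3, 4] [6] sQ) (by simp [tA]) (by decide +kernel))
      (pB (tB [0, 1, 2, 5, 6] [4] [4, 3] rQ) (by simp [tB]) (by decide +kernel))
      (by decide +kernel)).elim

theorem jobW2 : JobW2.{u} := by
  intro G _ _ t v s u a σ ρ p q Y X l m h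
  have hm := h.hm
  simp only [subs, List.map_cons, List.map_nil, List.cons_append, List.nil_append, List.mem_cons,
    List.not_mem_nil, or_false] at hm
  have pA := fun fs => prog (S := [0, 1, 2, 3, 4, 5]) (fs := fs) h.pres (fun _ => rfl) h.aσ rfl
    [[7], [7, 8]]
  have pB := fun fs => prog (S := [0, 1, 2, 3, 6, 7]) (fs := fs) h.pres (fun _ => rfl) h.aρ rfl
    [[5], [5, 4], [5, 8]]
  have kA := fun k => kill8 (S := [0, 1, 2, 3, 4, 5]) h.pres h.ind h.wf h.naA h.elA.1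
    (pA (g8 [0, 1, 2, 3, 4, 5] [7, 8] sV) (by simp [g8]) k)
  have kB := fun k => kill8 (S := [0, 1, 2, 3, 6, 7]) h.pres h.ind h.wf h.naB h.elB.1
    (pB (g8 [0, 1, 2, 3, 6, 7] [5, 8] (rV l)) (by simp [g8]) k)
  cases l <;> rcases hm with rfl | rfl | rfl | rfl
  · exact Or.inl ⟨rfl, rfl⟩
  · exact (kB (by decide +kernel) (by decide +kernel)).elim
  · exact (kA (by decide +kernel) (by decide +kernel)).elim
  · exact (killZ (S := [0, 1, 2, 3, 4, 5]) (S' := [0, 1, 2, 3, 6, 7]) (Z := [0, 1, 2, 3]) (p := [3, 2])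
      (q := [1, 0]) h.pres h.ind h.wf (fun _ => rfl) h.naA
      h.naB h.elA.1 h.elB.1 (h.elA.2.1.trans h.elB.2.1.symm)
      (pA (tA [0, 1, 2, 3, 4, 5] [7] sV) (by simp [tA]) (by decide +kernel))
      (pB (tB [0, 1, 2, 3, 6, 7] [5] [5, 4] (rV false)) (by simp [tB]) (by decide +kernel))
      (by decide +kernel)).elim
  · exact (kA (by decide +kernel) (by decide +kernel)).elim
  · exact (kB (by decide +kernel) (by decide +kernel)).elim
  · exact (kA (by decide +kernel) (by decide +kernel)).elim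
  · exact Or.inr ⟨rfl, rfl⟩

end H30.NW
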