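import Cfsg.Agent.H9.PBasic
import Cfsg.Agent.H87.Simple

/-! Overgroups of Sylow 2-subgroups of symmetric and alternating groups. -/

set_option autoImplicit false

namespace H30.SM

open Equiv MulAction
open scoped Pointwise

variable {n : ℕ}

/-- the 3-cycle sending `a` to `c` -/
abbrev c3 (a b c : Fin n) : Perm (Fin n) := swap a b * swap a c

theorem c3_a {a b c : Fin n} (h2 : a ≠ c) (h3 : b ≠ c) : c3 a b c a = c := by
  simp [swap_apply_of_ne_of_ne h2.symm h3.symm]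

theorem c3_fix {a b c x : Fin n} (h1 : x ≠ a) (h2 : x ≠ b) (h3 : x ≠ c) : c3 a b c x = x := by
  simp [swap_apply_of_ne_of_ne, h1, h2, h3]

theorem ss_mem {a b c d : Fin n} (h1 : a ≠ b) (h2 : c ≠ d) :
    swap a b * swap c d ∈ alternatingGroup (Fin n) := by
  simp [Perm.mem_alternatingGroup, h1, h2]

theorem exists_not_mem (s : Finset (Fin n)) (h : s.card < n) : ∃ x, x ∉ s := by
  by_contra k
  push Not at k
  rw [Finset.eq_univ_iff_forall.2 k] at h
  simp at h

theorem exists_not_mem_list (l : List (Fin n)) (h : l.length < n) : ∃ x, x ∉ l := by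
  obtain ⟨x, hx⟩ := exists_not_mem l.toFinset (lt_of_le_of_lt l.toFinset_card_le h)
  exact ⟨x, by simpa using hx⟩

/-- two-transitive groups are primitive -/
theorem prim_of_two {K : Subgroup (Perm (Fin n))} {x : Fin n}
    (h1 : ∀ i j, i ≠ x → j ≠ x → ∃ k ∈ K, k x = x ∧ k i = j) (h2 : ∃ k ∈ K, k x ≠ x) :
    IsPreprimitive K (Fin n) := by
  obtain ⟨m, hm, e⟩ := h2
  have t : ∀ j, ∃ k ∈ K, k x = j := fun j => by
    by_cases hj : j = x
    · exact ⟨1, one_mem _, hj.symm⟩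
    · obtain ⟨k, hk, -, a⟩ := h1 _ j e hj
      exact ⟨k * m, mul_mem hk hm, a⟩
  have : IsPretransitive K (Fin n) := ⟨fun i j => by
    obtain ⟨a, ha, rfl⟩ := t i
    obtain ⟨b, hb, rfl⟩ := t j
    exact ⟨⟨b * a⁻¹, mul_mem hb (inv_mem ha)⟩, by simp [Subgroup.smul_def]⟩⟩
  refine IsPreprimitive.of_isTrivialBlock_base x fun {B} hx hB => ?_
  by_cases s : B.Subsingleton
  · exact .inl s
  obtain ⟨y, hy, ne⟩ := (Set.not_subsingleton_iff.1 s).exists_ne x
  refine .inr (Set.eq_univ_of_forall fun j => ?_)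
  by_cases hj : j = x
  · rwa [hj]
  obtain ⟨k, hk, a, b⟩ := h1 y j ne hj
  rw [← hB.smul_eq_of_mem (g := ⟨k, hk⟩) hx (by rwa [Subgroup.smul_def, Perm.smul_def, a])]
  exact ⟨y, hy, b⟩

/-- the base group attached to an involution -/
def Fb (τ : Perm (Fin n)) (h : ∀ i, τ (τ i) = i) : Subgroup (Perm (Fin n)) where
  carrier := {g | ∀ i, g i = i ∨ g i = τ i}
  one_mem' := fun _ => .inl rfl
  mul_mem' := by
    intro a b ha hb i
    rcases hb i with e | e <;> rw [Perm.mul_apply, e]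
    · exact ha i
    · simpa [h] using (ha (τ i)).symm
  inv_mem' := by
    intro a ha i
    rcases ha (a⁻¹ i) with e | e
    · exact .inl (by simpa using e.symm)
    · exact .inr (by rw [← h (a⁻¹ i), ← e]; simp)

theorem exists_tau (P : Sylow 2 (Perm (Fin n))) : ∃ τ : Perm (Fin n), (∀ i, τ (τ i) = i) ∧
    (∀ i j, τ i = i → τ j = j → i = j) ∧ (Even n → ∀ i, τ i ≠ i) ∧
    ∀ g : Perm (Fin n), (∀ i, g i = i ∨ g i = τ i) → g ∈ (P : Subgroup (Perm (Fin n))) := by
  have h : ∀ i : Fin n, Fin.revPerm (Fin.revPerm i) = i := fun i => by simp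
  have hp : IsPGroup 2 (Fb Fin.revPerm h) := fun g => ⟨1, Subtype.ext (Equiv.ext fun i => by
    show g.1 (g.1 i) = i
    rcases g.2 i with e | e
    · rw [e, e]
    · rcases g.2 (g.1 i) with e' | e'
      · exact g.1.injective (by rw [e', e'])
      · rw [e', e, h])⟩
  obtain ⟨Q, hQ⟩ := hp.exists_le_sylow
  obtain ⟨c, hc⟩ := exists_smul_eq (Perm (Fin n)) Q P
  have hr : ∀ i : Fin n, Fin.revPerm i = i → 2 * (i : ℕ) + 1 = n := fun i e => by
    have := congrArg Fin.val e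
    simp only [Fin.revPerm_apply, Fin.val_rev] at this
    omega
  refine ⟨c * Fin.revPerm * c⁻¹, fun i => by simp, fun i j a b => ?_, fun hn i a => ?_, fun g hg => ?_⟩
  · have a' := hr (c⁻¹ i) (by rw [← c.apply_eq_iff_eq]; simpa using a)
    have b' := hr (c⁻¹ j) (by rw [← c.apply_eq_iff_eq]; simpa using b)
    exact c⁻¹.injective (Fin.ext (by omega))
  · have a' := hr (c⁻¹ i) (by rw [← c.apply_eq_iff_eq]; simpa using a)
    obtain ⟨k, hk⟩ := hn
    omega
  · rw [← hc, Sylow.smul_def, Sylow.pointwise_smul_def, Subgroup.mem_pointwise_smul_iff_inv_smul_mem]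
    refine hQ fun i => ?_
    rcases hg (c i) with e | e
    · exact .inl (by simp [e])
    · exact .inr (by simp [e])

theorem swap_mem {τ : Perm (Fin n)} (h : ∀ i, τ (τ i) = i) (a i : Fin n) :
    swap a (τ a) i = i ∨ swap a (τ a) i = τ i := by
  rw [swap_apply_def]
  split_ifs with h1 h2
  · exact .inr (by rw [h1])
  · exact .inr (by rw [h2, h])
  · exact .inl rfl

theorem ss_comm {τ : Perm (Fin n)} (h : ∀ i, τ (τ i) = i) (hf : ∀ i, τ i ≠ i) {i j : Fin n}
    (hj : i ≠ j) (e : j ≠ τ i) : swap i j * swap (τ i) (τ j) * τ = τ * (swap i j * swap (τ i) (τ j)) := by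
  have e2 : i ≠ τ j := fun k => e (by rw [k, h])
  rw [← mul_assoc, mul_swap_eq_swap_mul τ, mul_assoc _ τ, mul_swap_eq_swap_mul τ, h, h, ← mul_assoc,
    (Perm.disjoint_swap_swap (by simp [hj, e, e2, (hf i).symm, (hf j).symm])).commute.eq]

/-- the criterion for the even degrees -/
theorem alt_le_even {K : Subgroup (Perm (Fin n))} {τ : Perm (Fin n)} (h : ∀ i, τ (τ i) = i)
    (hf : ∀ i, τ i ≠ i) {X : Finset (Fin n)} (h4 : 4 ≤ X.card) (h2 : n ≤ 2 * X.card)
    (hC : ∀ g ∈ alternatingGroup (Fin n), g * τ = τ * g → g ∈ K)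
    (hX : ∀ a ∈ X, ∀ b ∈ X, ∀ c ∈ X, a ≠ b → a ≠ c → c3 a b c ∈ K)
    {g : Perm (Fin n)} (hg : g ∈ K) {a c : Fin n} (ha : a ∈ X) (ga : g a ∉ X) (hc : c ∈ X)
    (gc : g c = c) : alternatingGroup (Fin n) ≤ K := by
  have ex : ∀ l : List (Fin n), l.length < 4 → ∃ x ∈ X, x ∉ l := fun l hl => by
    obtain ⟨x, hx, e⟩ := Finset.exists_mem_notMem_of_card_lt_card (s := l.toFinset) (t := X)
      (by have := l.toFinset_card_le; omega)
    exact ⟨x, hx, by simpa using e⟩
  have t0 : ∀ i j, j ≠ τ i → ∃ k ∈ K, k i = j := fun i j e => by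
    by_cases hj : i = j
    · exact ⟨1, one_mem _, hj⟩
    have e1 : τ i ≠ τ j := τ.injective.ne hj
    have e2 : i ≠ τ j := fun k => e (by rw [k, h])
    exact ⟨swap i j * swap (τ i) (τ j), hC _ (ss_mem hj e1) (ss_comm h hf hj e), by
      rw [Perm.mul_apply, swap_apply_of_ne_of_ne (hf i).symm e2, swap_apply_left]⟩
  have : IsPretransitive K (Fin n) := ⟨fun i j => by
    obtain ⟨y, -, hy⟩ := ex [τ i, τ j] (by simp)
    simp only [List.mem_cons, List.not_mem_nil, or_false, not_or] at hy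
    obtain ⟨k, hk, e⟩ := t0 i y hy.1
    obtain ⟨k', hk', e'⟩ := t0 j y hy.2
    exact ⟨⟨k'⁻¹ * k, mul_mem (inv_mem hk') hk⟩, by simp [Subgroup.smul_def, e, ← e']⟩⟩
  obtain ⟨u, hu, u1⟩ := ex [c] (by simp)
  obtain ⟨v, hv, v1⟩ := ex [c, u] (by simp)
  simp only [List.mem_cons, List.not_mem_nil, or_false, not_or] at u1 v1
  refine Perm.alternatingGroup_le_of_isPreprimitive_of_isThreeCycle_mem
    (IsPreprimitive.of_isTrivialBlock_base c fun {B} hx hB => ?_)
    (Perm.isThreeCycle_swap_mul_swap_same (Ne.symm v1.1) (Ne.symm u1) v1.2)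
    (hX c hc v hv u hu (Ne.symm v1.1) (Ne.symm u1))
  by_cases s : B.Subsingleton
  · exact .inl s
  obtain ⟨y, hy, ne⟩ := (Set.not_subsingleton_iff.1 s).exists_ne c
  have st : ∀ k ∈ K, ∀ p ∈ B, k p = p → ∀ q ∈ B, k q ∈ B := fun k hk p hp e q hq => by
    rw [← hB.smul_eq_of_mem (g := ⟨k, hk⟩) hp (by rwa [Subgroup.smul_def, Perm.smul_def, e])]
    exact ⟨q, hq, rfl⟩
  obtain ⟨w, hw, wB, wc⟩ : ∃ w ∈ X, w ∈ B ∧ w ≠ c := by
    by_cases e : y ∈ X
    · exact ⟨y, e, hy, ne⟩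
    · refine ⟨u, hu, ?_, u1⟩
      rw [← c3_a (Ne.symm u1) v1.2]
      exact st _ (hX c hc v hv u hu (Ne.symm v1.1) (Ne.symm u1)) y hy
        (c3_fix ne (fun k => e (k ▸ hv)) fun k => e (k ▸ hu)) c hx
  have XB : ∀ p ∈ X, p ∈ B := fun p hp => by
    by_cases e1 : p = c
    · rwa [e1]
    by_cases e2 : w = p
    · rwa [← e2]
    obtain ⟨d, hd, d1⟩ := ex [c, w, p] (by simp)
    simp only [List.mem_cons, List.not_mem_nil, or_false, not_or] at d1
    rw [← c3_a e2 d1.2.2]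
    exact st _ (hX w hw d hd p hp (Ne.symm d1.2.1) e2) c hx
      (c3_fix wc.symm (Ne.symm d1.1) (Ne.symm e1)) w wB
  refine .inr (Set.eq_univ_of_forall fun j => ?_)
  by_contra hj
  obtain ⟨k, hk⟩ := exists_smul_eq K c j
  have dj : Disjoint (k • B) B := (hB.smul_eq_or_disjoint k).resolve_left fun e => hj (e ▸ ⟨c, hx, hk⟩)
  have c1 := Set.ncard_union_eq dj
  have c2 : (k • B ∪ B).ncard ≤ n := by simpa using Set.ncard_le_card (k • B ∪ B)
  rw [Set.ncard_smul_set] at c1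
  have c3 : (X : Set (Fin n)) = B := Set.eq_of_subset_of_ncard_le XB (by rw [Set.ncard_coe_finset]; omega)
  exact ga (by rw [← Finset.mem_coe, c3]; exact st g hg c hx gc a (XB a ha))

/-- the stabiliser of a set -/
def St (X : Set (Fin n)) : Subgroup (Perm (Fin n)) where
  carrier := {g | ∀ i, g i ∈ X ↔ i ∈ X}
  one_mem' := fun _ => Iff.rfl
  mul_mem' := fun {a b} ha hb i => (ha (b i)).trans (hb i)
  inv_mem' := fun {a} ha i => by simpa using (ha (a⁻¹ i)).symm

/-- the stabiliser of a set and its complement -/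
def St2 (X : Set (Fin n)) : Subgroup (Perm (Fin n)) where
  carrier := {g | (∀ i, g i ∈ X ↔ i ∈ X) ∨ ∀ i, g i ∈ X ↔ i ∉ X}
  one_mem' := .inl fun _ => Iff.rfl
  mul_mem' := by
    rintro a b (ha | ha) (hb | hb)
    exacts [.inl fun i => (ha (b i)).trans (hb i), .inr fun i => (ha (b i)).trans (hb i),
      .inr fun i => (ha (b i)).trans (not_congr (hb i)),
      .inl fun i => (ha (b i)).trans ((not_congr (hb i)).trans not_not)]
  inv_mem' := by
    rintro a (ha | ha)
    · exact .inl fun i => by simpa using (ha (a⁻¹ i)).symm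
    · exact .inr fun i => by simpa [iff_not_comm] using ha (a⁻¹ i)

theorem c3_mem_St {X : Set (Fin n)} {a b c : Fin n} (ha : a ∈ X) (hb : b ∈ X) (hc : c ∈ X) :
    c3 a b c ∈ St X := by
  have : ∀ a ∈ X, ∀ b ∈ X, swap a b ∈ St X := fun a ha b hb i => by
    rw [swap_apply_def]; split_ifs <;> simp_all
  exact mul_mem (this a ha b hb) (this a ha c hc)

theorem exists_half {P : Subgroup (Perm (Fin n))} (hP : IsPGroup 2 P) (hn : 2 ≤ n) :
    ∃ X : Finset (Fin n), n ≤ 2 * X.card ∧ (∃ b, b ∉ X) ∧ P ≤ St2 X := by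
  classical
  have key : ∀ Y : Set (Fin n), (∃ a, a ∈ Y) → (∃ b, b ∉ Y) → P ≤ St2 Y →
      ∃ X : Finset (Fin n), n ≤ 2 * X.card ∧ (∃ b, b ∉ X) ∧ P ≤ St2 X := fun Y ⟨a, ha⟩ ⟨b, hb⟩ h => by
    have := Finset.card_add_card_compl Y.toFinset
    rw [Fintype.card_fin] at this
    by_cases e : n ≤ 2 * Y.toFinset.card
    · exact ⟨Y.toFinset, e, ⟨b, by simpa using hb⟩, by simpa using h⟩
    · refine ⟨Y.toFinsetᶜ, by omega, ⟨a, by simpa using ha⟩, fun g hg => ?_⟩
      rcases h hg with k | k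
      · exact .inl fun i => by simpa using not_congr (k i)
      · exact .inr fun i => by simpa using not_congr (k i)
  let x : Fin n := ⟨0, by omega⟩
  by_cases t : ∃ b, b ∉ orbit P x
  · exact key _ ⟨x, mem_orbit_self x⟩ t fun g hg => .inl fun i => by
      have := Set.smul_mem_smul_set_iff (a := (⟨g, hg⟩ : P)) (s := orbit P x) (x := i)
      rwa [smul_orbit] at this
  push Not at t
  obtain ⟨M, h1, h2⟩ := (eq_top_or_exists_le_coatom (stabilizer P x)).resolve_left fun e => by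
    obtain ⟨g, hg⟩ := t ⟨1, by omega⟩
    have := (e.ge (Subgroup.mem_top g) : g • x = x)
    exact absurd (congrArg Fin.val (hg.symm.trans this)) (by simp [x])
  have i2 := H9.index_of_isCoatom hP h1
  have k : ∀ g : P, g • x ∈ orbit M x ↔ g ∈ M := fun g =>
    ⟨fun ⟨m, hm⟩ => by
      have : (m : P)⁻¹ * g ∈ M := h2 (by
        rw [mem_stabilizer_iff, mul_smul, ← hm]; exact inv_smul_smul (m : P) x)
      simpa using mul_mem m.2 this, fun h => ⟨⟨g, h⟩, rfl⟩⟩
  obtain ⟨g0, hg0⟩ : ∃ g, g ∉ M := by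
    by_contra! e
    exact h1.1 (eq_top_iff.2 fun g _ => e g)
  refine key (orbit M x) ⟨x, mem_orbit_self x⟩ ⟨_, mt (k g0).1 hg0⟩ fun g hg => ?_
  have k2 : ∀ i, ∃ p : P, p • x = i := t
  by_cases e : (⟨g, hg⟩ : P) ∈ M
  · refine .inl fun i => ?_
    obtain ⟨p, rfl⟩ := k2 i
    rw [k, show g (p • x) = (⟨g, hg⟩ * p : P) • x from rfl, k, mul_mem_cancel_left e]
  · refine .inr fun i => ?_
    obtain ⟨p, rfl⟩ := k2 i
    rw [k, show g (p • x) = (⟨g, hg⟩ * p : P) • x from rfl, k, Subgroup.mul_mem_iff_of_index_two i2]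
    tauto

/-- two proper overgroups which generate -/
def Two (P : Subgroup (Perm (Fin n))) : Prop := ∃ K1 K2 : Subgroup (Perm (Fin n)), P ≤ K1 ∧ P ≤ K2 ∧
  ¬ alternatingGroup (Fin n) ≤ K1 ∧ ¬ alternatingGroup (Fin n) ≤ K2 ∧
  ∀ K, K1 ⊓ alternatingGroup (Fin n) ≤ K → K2 ⊓ alternatingGroup (Fin n) ≤ K → alternatingGroup (Fin n) ≤ K

theorem two_even (P : Sylow 2 (Perm (Fin n))) (h8 : 8 ≤ n) (he : Even n) : Two (P : Subgroup (Perm (Fin n))) := by
  obtain ⟨τ, h, -, hf, hF⟩ := exists_tau P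
  have hf := hf he
  obtain ⟨X, h2, ⟨b, hb⟩, hX⟩ := exists_half P.2 (by omega)
  have ex : ∀ l : List (Fin n), l.length < 4 → ∃ x ∈ X, x ∉ l := fun l hl => by
    obtain ⟨x, hx, e⟩ := Finset.exists_mem_notMem_of_card_lt_card (s := l.toFinset) (t := X)
      (by have := l.toFinset_card_le; omega)
    exact ⟨x, hx, by simpa using e⟩
  obtain ⟨a, ha, a1⟩ := ex [τ b] (by simp)
  obtain ⟨c, hc, c1⟩ := ex [a, τ a, τ b] (by simp)
  simp only [List.mem_cons, List.not_mem_nil, or_false, not_or] at a1 c1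
  have ab : a ≠ b := fun e => hb (e ▸ ha)
  have ba : b ≠ τ a := fun e => a1 (by rw [e, h])
  have g1 : (swap a b * swap (τ a) (τ b)) a = b := by
    rw [Perm.mul_apply, swap_apply_of_ne_of_ne (hf a).symm a1, swap_apply_left]
  have g2 : (swap a b * swap (τ a) (τ b)) c = c := by
    rw [Perm.mul_apply, swap_apply_of_ne_of_ne c1.2.1 c1.2.2, swap_apply_of_ne_of_ne c1.1 fun e : c = b => hb (e ▸ hc)]
  have g3 := ss_mem ab (τ.injective.ne ab)
  refine ⟨St2 X, Subgroup.centralizer {τ}, hX, fun p hp => ?_, fun e => ?_, fun e => ?_, fun K k1 k2 => ?_⟩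
  · rw [Subgroup.mem_centralizer_singleton_iff]
    ext1 i
    by_contra ne
    have m1 : swap (p i) (p (τ i)) ∈ (P : Subgroup (Perm (Fin n))) := by
      rw [swap_apply_apply]; exact mul_mem (mul_mem hp (hF _ (swap_mem h i))) (inv_mem hp)
    obtain ⟨k, hk⟩ := IsPGroup.iff_orderOf.1 P.2 ⟨_, mul_mem m1 (hF _ (swap_mem h (p i)))⟩
    rw [Subgroup.orderOf_mk, (Perm.isThreeCycle_swap_mul_swap_same (p.injective.ne (hf i).symm)
      (hf _).symm ne).orderOf] at hk
    exact absurd (Nat.Prime.dvd_of_dvd_pow Nat.prime_three hk.dvd) (by decide)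
  · rcases e g3 with k | k
    · exact hb (by simpa [g1] using (k a).2 ha)
    · exact (k c).1 (by rwa [g2]) hc
  · obtain ⟨u, u1⟩ := exists_not_mem_list [a, τ a] (by simp; omega)
    obtain ⟨v, v1⟩ := exists_not_mem_list [a, τ a, u] (by simp; omega)
    simp only [List.mem_cons, List.not_mem_nil, or_false, not_or] at u1 v1
    have := congrArg (· a) (Subgroup.mem_centralizer_singleton_iff.1 (e (ss_mem (Ne.symm v1.1) (Ne.symm u1.1))))
    simp only [Perm.mul_apply (_ * _), Perm.mul_apply τ] at this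
    rw [c3_a (Ne.symm u1.1) v1.2.2, c3_fix (hf a) (Ne.symm v1.2.1) (Ne.symm u1.2)] at this
    exact u1.1 (τ.injective this).symm
  · have hC : ∀ g ∈ alternatingGroup (Fin n), g * τ = τ * g → g ∈ K := fun g hg e =>
      k2 ⟨Subgroup.mem_centralizer_singleton_iff.2 e, hg⟩
    exact alt_le_even h hf (X := X) (by omega) h2 hC
      (fun a ha b hb c hc e1 e2 => k1 ⟨.inl (c3_mem_St ha hb hc), ss_mem e1 e2⟩)
      (hC _ g3 (ss_comm h hf ab ba)) ha (by rwa [g1]) hc g2

theorem alt_trans (h4 : 4 ≤ n) {x i j : Fin n} (hi : i ≠ x) (hj : j ≠ x) :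
    ∃ k ∈ alternatingGroup (Fin n), k x = x ∧ k i = j := by
  by_cases e : i = j
  · exact ⟨1, one_mem _, rfl, e⟩
  obtain ⟨v, v1⟩ := exists_not_mem_list [x, i, j] (by simp; omega)
  simp only [List.mem_cons, List.not_mem_nil, or_false, not_or] at v1
  exact ⟨c3 i v j, ss_mem (Ne.symm v1.2.1) e, c3_fix hi.symm (Ne.symm v1.1) hj.symm, c3_a e v1.2.2⟩

theorem exists_fix {P : Subgroup (Perm (Fin n))} (hP : IsPGroup 2 P) (ho : Odd n) :
    ∃ x, ∀ g ∈ P, g x = x := by
  obtain ⟨x, hx⟩ := hP.nonempty_fixed_point_of_prime_not_dvd_card (Fin n) (by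
    rw [Nat.card_eq_fintype_card, Fintype.card_fin]; exact ho.not_two_dvd_nat)
  exact ⟨x, fun g hg => hx ⟨g, hg⟩⟩

theorem two_odd (P : Sylow 2 (Perm (Fin n))) (h5 : 5 ≤ n) (ho : Odd n) (hk : ∀ k, n ≠ 2 ^ k + 1) :
    Two (P : Subgroup (Perm (Fin n))) := by
  obtain ⟨τ, h, h1, -, hF⟩ := exists_tau P
  obtain ⟨x, hx⟩ := exists_fix P.2 ho
  have tx : τ x = x := by simpa using hx _ (hF _ (swap_mem h x))
  obtain ⟨y, y1⟩ := exists_not_mem_list [x] (by simp; omega)
  simp only [List.mem_cons, List.not_mem_nil, or_false] at y1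
  have ty : τ y ≠ y := fun e => y1 (h1 _ _ e tx)
  have xO : x ∉ orbit (P : Subgroup (Perm (Fin n))) y := fun ⟨g, hg⟩ =>
    y1 (g.1.injective (hg.trans (hx g.1 g.2).symm))
  have tO : τ y ∈ orbit (P : Subgroup (Perm (Fin n))) y := ⟨⟨_, hF _ (swap_mem h y)⟩, swap_apply_left _ _⟩
  obtain ⟨w, wO, wx⟩ : ∃ w, w ∉ orbit (P : Subgroup (Perm (Fin n))) y ∧ w ≠ x := by
    by_contra! e
    obtain ⟨k, ek⟩ := P.2.card_orbit y
    have : orbit (P : Subgroup (Perm (Fin n))) y = {x}ᶜ :=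
      Set.ext fun w => ⟨fun a b => xO (b ▸ a), fun a => by_contra fun b => a (e w b)⟩
    rw [this, Nat.card_coe_set_eq, Set.ncard_compl, Set.ncard_singleton, Nat.card_eq_fintype_card,
      Fintype.card_fin] at ek
    exact hk k (by omega)
  have yw : y ≠ w := fun e => wO (e ▸ mem_orbit_self y)
  refine ⟨stabilizer _ x, St (orbit (P : Subgroup (Perm (Fin n))) y), hx, fun g hg i => ?_, fun e => ?_,
    fun e => ?_, fun K k1 k2 => ?_⟩
  · have := Set.smul_mem_smul_set_iff (a := (⟨g, hg⟩ : (P : Subgroup (Perm (Fin n)))))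
      (s := orbit (P : Subgroup (Perm (Fin n))) y) (x := i)
    rwa [smul_orbit] at this
  · exact wx ((c3_a wx.symm yw).symm.trans (e (ss_mem (Ne.symm y1) wx.symm)))
  · exact xO (c3_a y1 wx ▸ (e (ss_mem yw y1) y).2 (mem_orbit_self y))
  · obtain ⟨v, v1⟩ := exists_not_mem_list [x, y, w] (by simp; omega)
    simp only [List.mem_cons, List.not_mem_nil, or_false, not_or] at v1
    refine Perm.alternatingGroup_le_of_isPreprimitive_of_isThreeCycle_mem
      (prim_of_two (x := x) (fun i j hi hj => ?_) ⟨swap x w * swap y (τ y), k2 ⟨fun i => ?_, ss_mem wx.symm ty.symm⟩, ?_⟩)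
      (Perm.isThreeCycle_swap_mul_swap_same (Ne.symm v1.2.1) yw v1.2.2)
      (k1 ⟨c3_fix (Ne.symm y1) (Ne.symm v1.1) wx.symm, ss_mem (Ne.symm v1.2.1) yw⟩)
    · obtain ⟨k, hk, a, b⟩ := alt_trans (by omega) hi hj
      exact ⟨k, k1 ⟨a, hk⟩, a, b⟩
    · have := mem_orbit_self (M := (P : Subgroup (Perm (Fin n)))) y
      simp only [Perm.mul_apply, swap_apply_def]
      split_ifs <;> simp_all
    · rw [Perm.mul_apply, swap_apply_of_ne_of_ne (Ne.symm y1) fun e => xO (e ▸ tO), swap_apply_left]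
      exact wx

theorem orbit_dvd {S K : Subgroup (Perm (Fin n))} (h : S ≤ K) (y : Fin n) :
    (orbit K y).ncard ∣ S.relIndex K * (orbit S y).ncard := by
  have e : ∀ T : Subgroup (Perm (Fin n)), (orbit T y).ncard = (stabilizer _ y).relIndex T := fun T => by
    rw [← index_stabilizer]; rfl
  rw [e, e, ← Subgroup.inf_relIndex_right _ S, mul_comm, Subgroup.relIndex_mul_relIndex _ _ _ inf_le_right h,
    ← Subgroup.inf_relIndex_right _ K,
    ← Subgroup.relIndex_mul_relIndex (stabilizer _ y ⊓ S) (stabilizer _ y ⊓ K) K (inf_le_inf_left _ h) inf_le_right]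
  exact Dvd.intro_left _ rfl

theorem odd_relIndex (P : Sylow 2 (Perm (Fin n))) (hn : 2 ≤ n) :
    Odd (((P : Subgroup (Perm (Fin n))) ⊓ alternatingGroup (Fin n)).relIndex (alternatingGroup (Fin n))) := by
  have : Nontrivial (Fin n) := Fin.nontrivial_iff_two_le.2 hn
  have h1 := Subgroup.relIndex_mul_index (inf_le_right (a := (P : Subgroup (Perm (Fin n))))
    (b := alternatingGroup (Fin n)))
  have h2 := Subgroup.relIndex_mul_index (inf_le_left (a := (P : Subgroup (Perm (Fin n))))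
    (b := alternatingGroup (Fin n)))
  have h3 := Subgroup.relIndex_dvd_index_of_normal (alternatingGroup (Fin n)) (P : Subgroup (Perm (Fin n)))
  have h4 := P.not_dvd_index
  rw [Subgroup.inf_relIndex_left, ← h1] at h2
  rw [alternatingGroup.index_eq_two] at h2 h3
  rw [← Nat.not_even_iff_odd, even_iff_two_dvd]
  rcases (Nat.dvd_prime Nat.prime_two).1 h3 with e | e <;> rw [e] at h2 <;> omega

theorem alt_le_pow (P : Sylow 2 (Perm (Fin n))) {k : ℕ} (hk : 2 ≤ k) (hn : n = 2 ^ k + 1) {x : Fin n}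
    (hx : ∀ g ∈ (P : Subgroup (Perm (Fin n))), g x = x) {K : Subgroup (Perm (Fin n))}
    (hK : (P : Subgroup (Perm (Fin n))) ⊓ alternatingGroup (Fin n) ≤ K) (hm : ∃ m ∈ K, m x ≠ x) :
    alternatingGroup (Fin n) ≤ K := by
  have h4 : 2 ^ 2 ≤ 2 ^ k := Nat.pow_le_pow_right (by decide) hk
  set S := (P : Subgroup (Perm (Fin n))) ⊓ alternatingGroup (Fin n) with hS
  have tr : ∀ i j, i ≠ x → j ≠ x → ∃ g ∈ S, g x = x ∧ g i = j := fun i j hi hj => by
    set T := stabilizer (Perm (Fin n)) x ⊓ alternatingGroup (Fin n)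
    have ST : S ≤ T := fun g hg => ⟨hx g hg.1, hg.2⟩
    have o1 : orbit T i = {x}ᶜ := Set.ext fun w => ⟨fun ⟨g, hg⟩ e => hi (g.1.injective
      ((hg.trans e).trans (g.2.1 : g.1 x = x).symm)), fun a =>
        let ⟨g, hg, b, c⟩ := alt_trans (by omega) hi a; ⟨⟨g, b, hg⟩, c⟩⟩
    have o2 : (orbit T i).ncard = 2 ^ k := by
      rw [o1, Set.ncard_compl, Set.ncard_singleton, Nat.card_eq_fintype_card, Fintype.card_fin]; omega
    have o3 : Odd (S.relIndex T) := (odd_relIndex P (by omega)).of_dvd_nat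
      ⟨_, (Subgroup.relIndex_mul_relIndex S T _ ST inf_le_right).symm⟩
    have o4 := orbit_dvd ST i
    rw [o2] at o4
    have o5 := (Nat.Coprime.pow_left k (Nat.coprime_two_left.2 o3)).dvd_of_dvd_mul_left o4
    have o6 : orbit S i = orbit T i := Set.eq_of_subset_of_ncard_le (fun _ ⟨g, hg⟩ => ⟨⟨g, ST g.2⟩, hg⟩)
      (o2 ▸ Nat.le_of_dvd ((Set.ncard_pos (Set.toFinite _)).2 ⟨i, mem_orbit_self i⟩) o5)
    obtain ⟨g, hg⟩ : j ∈ orbit S i := by rw [o6, o1]; exact hj
    exact ⟨g, g.2, hx g g.2.1, hg⟩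
  have pr := prim_of_two (x := x) (fun i j hi hj => let ⟨g, hg, e⟩ := tr i j hi hj; ⟨g, hK hg, e⟩) hm
  obtain ⟨m, hm, mx⟩ := hm
  obtain ⟨τ, h, h1, -, hF⟩ := exists_tau P
  have tx : τ x = x := by simpa using hx _ (hF _ (swap_mem h x))
  have tf : ∀ i, i ≠ x → τ i ≠ i := fun i e a => e (h1 _ _ a tx)
  have tn : ∀ i, i ≠ x → τ i ≠ x := fun i e a => e (τ.injective (a.trans tx.symm))
  have E : ∀ i j, i ≠ x → j ≠ x → swap i (τ i) * swap j (τ j) ∈ S := fun i j hi hj =>
    ⟨mul_mem (hF _ (swap_mem h i)) (hF _ (swap_mem h j)), ss_mem (tf i hi).symm (tf j hj).symm⟩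
  rcases hk.eq_or_lt with rfl | hk
  · -- degree five
    subst hn
    have := alternatingGroup.isSimpleGroup (α := Fin (2 ^ 2 + 1)) (by simp)
    set A := alternatingGroup (Fin (2 ^ 2 + 1))
    have cA : Nat.card A = 60 := by rw [nat_card_alternatingGroup]; simp [Nat.factorial]
    by_contra ne
    have d := H87.two_mul_card_dvd_factorial (G := A) (fun e => by
      have := e.is_comm.comm ⟨_, ss_mem (show (0 : Fin (2 ^ 2 + 1)) ≠ 1 by decide) (show (0 : Fin (2 ^ 2 + 1)) ≠ 2 by decide)⟩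
        ⟨_, ss_mem (show (0 : Fin (2 ^ 2 + 1)) ≠ 1 by decide) (show (0 : Fin (2 ^ 2 + 1)) ≠ 3 by decide)⟩
      exact absurd (congrArg (fun g : A => g.1 0) this) (by decide))
      (K.subgroupOf A) (mt Subgroup.subgroupOf_eq_top.1 ne)
    have c1 := (K.subgroupOf A).index_mul_card
    have c2 : Nat.card (K.subgroupOf A) = Nat.card (A.subgroupOf K) := by
      rw [← Subgroup.inf_subgroupOf_right, ← Subgroup.inf_subgroupOf_left A K,
        Nat.card_congr (Subgroup.subgroupOfEquivOfLe inf_le_right).toEquiv,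
        Nat.card_congr (Subgroup.subgroupOfEquivOfLe inf_le_left).toEquiv]
    have c3 := (A.subgroupOf K).index_mul_card
    have c4 : (A.subgroupOf K).index ∣ 2 :=
      (Subgroup.relIndex_dvd_index_of_normal A K).trans alternatingGroup.index_eq_two.dvd
    have c5 : 5 ∣ Nat.card K := by
      have := (stabilizer K x).index_dvd_card
      rwa [index_stabilizer, orbit_eq_univ, Set.ncard_univ, Nat.card_eq_fintype_card, Fintype.card_fin] at this
    have c6 : 4 ∣ Nat.card (K.subgroupOf A) := by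
      have := (stabilizer S (m x)).index_dvd_card
      rw [index_stabilizer, show orbit S (m x) = {x}ᶜ from Set.ext fun w => ⟨fun ⟨g, hg⟩ e => mx (g.1.injective
        ((hg.trans e).trans (hx g.1 g.2.1).symm)), fun a => let ⟨g, hg, _, c⟩ := tr _ w mx a; ⟨⟨g, hg⟩, c⟩⟩,
        Set.ncard_compl, Set.ncard_singleton, Nat.card_eq_fintype_card, Fintype.card_fin] at this
      refine this.trans ?_
      rw [← Subgroup.inf_subgroupOf_right, Nat.card_congr (Subgroup.subgroupOfEquivOfLe inf_le_right).toEquiv]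
      exact Subgroup.card_dvd_of_le (le_inf hK inf_le_right)
    rw [cA] at d c1
    rw [← c2] at c3
    generalize (K.subgroupOf A).index = r at d c1
    have : r ≤ 3 := by
      obtain ⟨u, hu⟩ : 20 ∣ Nat.card (K.subgroupOf A) := by
        rcases (Nat.dvd_prime Nat.prime_two).1 c4 with e | e <;> rw [e] at c3 <;> omega
      rw [hu] at c1
      rcases u with _ | u
      · omega
      · nlinarith
    interval_cases r <;> simp [Nat.factorial] at d
  have h8 : 2 ^ 3 ≤ 2 ^ k := Nat.pow_le_pow_right (by decide) hk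
  set σ := m * τ * m⁻¹ with hσ
  have hs : ∀ i, σ (σ i) = i := fun i => by simp [hσ, h]
  have E' : ∀ i j, i ≠ m x → j ≠ m x → swap i (σ i) * swap j (σ j) ∈ K := fun i j hi hj => by
    have := mul_mem (mul_mem hm (hK (E (m⁻¹ i) (m⁻¹ j) (fun e => hi (by simp [← e])) fun e => hj (by simp [← e]))))
      (inv_mem hm)
    rw [← conj_mul, ← swap_apply_apply, ← swap_apply_apply] at this
    simpa [hσ] using this
  have bx : σ x ≠ x := fun e => tf (m⁻¹ x) (fun e => mx (Perm.inv_eq_iff_eq.1 e).symm) (m.injective (by simpa [hσ] using e))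
  obtain ⟨p, p1⟩ := exists_not_mem_list [m x, x, σ x, τ (σ x), σ (τ (σ x))] (by simp; omega)
  obtain ⟨q, q1⟩ := exists_not_mem_list [x, σ x, τ (σ x), p, σ p, τ p, τ (σ p)] (by simp; omega)
  simp only [List.mem_cons, List.not_mem_nil, or_false, not_or] at p1 q1
  have e1 := hK (E _ _ bx q1.1)
  have e2 := E' x p mx.symm p1.1
  have e3 := mul_mem (mul_mem (mul_mem e1 e2) (inv_mem e1)) (inv_mem e2)
  have i1 : ∀ {a b}, τ a = b → a = τ b := fun e => by rw [← e, h]
  have i2 : ∀ {a b}, σ a = b → a = σ b := fun e => by rw [← e, hs]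
  rw [← conj_mul, ← swap_apply_apply, ← swap_apply_apply] at e3
  simp only [Perm.mul_apply _ (swap _ _)] at e3
  rw [swap_apply_of_ne_of_ne (Ne.symm q1.1) (tn q q1.1).symm, swap_apply_of_ne_of_ne bx.symm (tn _ bx).symm,
    swap_apply_of_ne_of_ne (Ne.symm q1.2.1) (fun e => q1.2.2.1 (i1 e.symm)), swap_apply_left,
    swap_apply_of_ne_of_ne (Ne.symm q1.2.2.2.1) (fun e => q1.2.2.2.2.2.1 (i1 e.symm)),
    swap_apply_of_ne_of_ne p1.2.2.1 p1.2.2.2.1,
    swap_apply_of_ne_of_ne (Ne.symm q1.2.2.2.2.1) (fun e => q1.2.2.2.2.2.2 (i1 e.symm)),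
    swap_apply_of_ne_of_ne (σ.injective.ne p1.2.1) (fun e => p1.2.2.2.2 (i2 e)),
    mul_inv_rev, mul_assoc, mul_inv_cancel_left, swap_inv] at e3
  exact Perm.alternatingGroup_le_of_isPreprimitive_of_isThreeCycle_mem pr
    (Perm.isThreeCycle_swap_mul_swap_same (tn _ bx).symm bx.symm (tf _ bx)) e3

theorem main (hn : 5 ≤ n) (h6 : n ≠ 6) {H : Type*} [Group H] [Finite H] (φ : H →* Perm (Fin n))
    (hφ : Function.Injective φ) (hA : alternatingGroup (Fin n) ≤ φ.range) (R : Sylow 2 H) :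
    (∃! M : Subgroup H, IsCoatom M ∧ (R : Subgroup H) ≤ M) ↔ ∃ k : ℕ, 2 ≤ k ∧ n = 2 ^ k + 1 := by
  have : Nontrivial (Fin n) := Fin.nontrivial_iff_two_le.2 (by omega)
  obtain ⟨P, hP⟩ := R.exists_comap_eq_of_injective hφ
  have top : ∀ M : Subgroup H, (R : Subgroup H) ≤ M → alternatingGroup (Fin n) ≤ M.map φ → M = ⊤ := fun M h1 h2 => by
    have a := Subgroup.index_dvd_of_le h1
    have b := Subgroup.index_dvd_of_le (show (alternatingGroup (Fin n)).comap φ ≤ M from fun g hg =>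
      (Subgroup.mem_map_iff_mem hφ).1 (h2 hg))
    have c := Subgroup.relIndex_dvd_index_of_normal (alternatingGroup (Fin n)) φ.range
    rw [← Subgroup.index_comap, alternatingGroup.index_eq_two] at c
    rcases (Nat.dvd_prime Nat.prime_two).1 (b.trans c) with e | e
    · exact Subgroup.index_eq_one.1 e
    · exact absurd (e.symm.dvd.trans a) R.not_dvd_index
  have sub : ∀ (K : Subgroup (Perm (Fin n))) (M : Subgroup H), K.comap φ ≤ M →
      K ⊓ alternatingGroup (Fin n) ≤ M.map φ := fun K M h g hg => by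
    obtain ⟨a, rfl⟩ := hA hg.2
    exact ⟨a, h hg.1, rfl⟩
  have prop : ∀ K : Subgroup (Perm (Fin n)), ¬ alternatingGroup (Fin n) ≤ K → K.comap φ ≠ ⊤ := fun K h e =>
    h fun g hg => by
      obtain ⟨a, rfl⟩ := hA hg
      exact e.ge (Subgroup.mem_top a)
  constructor
  · rintro ⟨M, ⟨h1, h2⟩, h3⟩
    by_contra ne
    obtain ⟨K1, K2, a1, a2, b1, b2, c⟩ : Two (P : Subgroup (Perm (Fin n))) := by
      rcases n.even_or_odd with e | e
      · exact two_even P (by obtain ⟨k, rfl⟩ := e; omega) e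
      · refine two_odd P hn e fun k hk => ne ⟨k, ?_, hk⟩
        by_contra! l
        interval_cases k <;> omega
    have le : ∀ K, (P : Subgroup (Perm (Fin n))) ≤ K → ¬ alternatingGroup (Fin n) ≤ K → K.comap φ ≤ M :=
      fun K a b => by
        obtain ⟨N, n1, n2⟩ := (eq_top_or_exists_le_coatom _).resolve_left (prop K b)
        rwa [← h3 N ⟨n1, (hP ▸ Subgroup.comap_mono a).trans n2⟩]
    exact h1.1 (top M h2 (c _ (sub _ _ (le _ a1 b1)) (sub _ _ (le _ a2 b2))))
  · rintro ⟨k, hk, e⟩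
    obtain ⟨x, hx⟩ := exists_fix P.2 (e ▸ (Nat.even_pow.2 ⟨even_two, by omega⟩).add_one)
    have le : ∀ M : Subgroup H, (R : Subgroup H) ≤ M → M ≠ ⊤ → M ≤ (stabilizer _ x).comap φ := fun M h1 h2 g hg => by
      by_contra ne
      exact h2 (top M h1 (alt_le_pow P hk e hx (sub _ _ (hP.le.trans h1)) ⟨φ g, ⟨g, hg, rfl⟩, ne⟩))
    have R0 : (R : Subgroup H) ≤ (stabilizer _ x).comap φ := hP ▸ Subgroup.comap_mono hx
    have ne : (stabilizer (Perm (Fin n)) x).comap φ ≠ ⊤ := prop _ fun a => by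
      obtain ⟨u, u1⟩ := exists_not_mem_list [x] (by simp; omega)
      obtain ⟨v, v1⟩ := exists_not_mem_list [x, u] (by simp; omega)
      simp only [List.mem_cons, List.not_mem_nil, or_false, not_or] at u1 v1
      exact u1 ((c3_a (Ne.symm u1) v1.2).symm.trans (a (ss_mem (Ne.symm v1.1) (Ne.symm u1))))
    exact ⟨_, ⟨⟨ne, fun M h => by_contra fun a => h.not_ge (le M (R0.trans h.le) a)⟩, R0⟩,
      fun M h => (h.1.le_iff.1 (le M h.2 h.1.1)).resolve_left ne |>.symm⟩

end H30.SM
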