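import Cfsg.Agent.H30.SfB
import Cfsg.Agent.H9.UfK4

/-! STD-G, field case: `JobF3` and `JobF4`. -/

set_option autoImplicit false
set_option linter.unusedSectionVars false
set_option maxHeartbeats 400000

namespace H30.Sf

open H98 Subgroup Cfsg Cfsg.Lie H63 H65 H64 H64.SG
open scoped commutatorElement

universe u

theorem conj_four {G : Type*} [Group G] {d m : G} (h4 : d ^ 4 = 1) (h2 : d * d ≠ 1)
    (hm : m ∈ Ns (zpowers d)) : m * d * m⁻¹ = d ∨ m * d * m⁻¹ = d⁻¹ := by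
  obtain ⟨k, hk⟩ := mem_zpowers_iff.1 (conj_mem_of_mem_normalizer hm (mem_zpowers d))
  have h5 : d ^ (4 : ℤ) = 1 := by exact_mod_cast h4
  obtain ⟨j, rfl | rfl⟩ := Int.even_or_odd' k
  · refine absurd (conj_eq_one_iff.1 (?_ : m * (d * d) * m⁻¹ = 1)) h2
    rw [← conj_mul, ← hk, ← zpow_add, show 2 * j + 2 * j = 4 * j by ring, zpow_mul, h5, one_zpow]
  · obtain ⟨i, rfl | rfl⟩ := Int.even_or_odd' j
    · left
      rw [← hk, show 2 * (2 * i) + 1 = 4 * i + 1 by ring, zpow_add, zpow_mul, h5, one_zpow, one_mul,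
        zpow_one]
    · right
      rw [← hk, show 2 * (2 * i + 1) + 1 = 4 * (i + 1) + -1 by ring, zpow_add, zpow_mul, h5,
        one_zpow, one_mul, zpow_neg_one]

variable {D : ChevalleyDatum} [RS D] [Tab D] [Comm D] {F : Type} [Field F] [Finite F] [CharP F 2]
  {K : Type} [Field K] [Finite K] [CharP K 2] {G : Type u} [Group G] [Finite G] {x : ℕ → F → G}
  {t : G} {ι : F →+* K} {σ : RingAut K} {y : ℕ → K → G} {F₀ : Subgroup G}

theorem fl_cases (T : Ty D K) (c : Comp D y) (B : BF D x t ι σ y) (t2 : t * t = 1)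
    (hS : IsSyl 2 (UU D y ⊔ zpowers t) (Ns (GG D y))) {m : G} (hm : m ∈ Ns (GG D y)) :
    ∃ τ, Odd (orderOf τ) ∧ (T.fl (c.ac m) = τ ∨ T.fl (c.ac m) = σ * τ) := by
  obtain ⟨i, j, e, h1, h2⟩ := exists_two_odd m
  obtain ⟨n, n1, n2⟩ := hS.exists_cj_le h1.zpowers (zpowers_le.2 (pow_mem hm i))
  have h3 : T.fl (c.ac (n * m ^ i * n⁻¹)) = T.fl (c.ac (m ^ i)) := by
    rw [c.ac_conj n1 (pow_mem hm i), map_mul, map_mul, map_inv, aut_comm (T.fl (c.ac n)),
      mul_inv_cancel_right]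
  refine ⟨T.fl (c.ac (m ^ j)), odd_orderOf_of_pow h2 (by
    rw [← map_pow, ← c.ac_pow (pow_mem hm j), pow_orderOf_eq_one, c.ac_one, map_one]), ?_⟩
  rw [congrArg c.ac e, c.ac_mul _ (pow_mem hm i) _ (pow_mem hm j), map_mul, ← h3]
  have h4 := n2 (conj_mem_cj (mem_zpowers _))
  refine ((mem_sup_inv t2 (BF.t_mem B _)).1 h4).imp (fun h => ?_) fun h => ?_
  · rw [c.ac_of_mem (gen_le_GG _ h), (lam_conj T _).1, one_mul]
  · have := (lam_conj T (c.pi (n * m ^ i * n⁻¹ * t))).1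
    rw [← c.ac_of_mem (gen_le_GG _ h), c.ac_mul _ (hS.le h4) _ (BF.t_mem B _), map_mul, BF.ac_t B c,
      (lam_field T σ).1] at this
    rw [eq_inv_of_mul_eq_one_left this, inv_eq_of_mul_eq_one_right (RingEquiv.ext B.ss : σ * σ = 1)]

theorem sq_d (B : BF D x t ι σ y) (t2 : t * t = 1) (r : Rt D) (a : K) :
    y r a * t * (y r a * t) = y r (a + σ a) := by
  rw [← B.st.add r r.2, ← B.ty, inv_eq_of_mul_eq_one_right t2]
  group

theorem nor_d (hD : ET D) (T : Ty D K) (R : FR D K) (R' : FR D F) (C : Comp D x) (c : Comp D y)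
    (h : Cfg F₀ (GG D x) t) (B : BF D x t ι σ y) (hU : UF (Ns (GG D y)) t) (H : F2 D F₀ x t y)
    {a : K} (ha : σ a ≠ a) : Ns (zpowers (y (hi D) a * t)) ≤ Ns (GG D y) := by
  obtain ⟨β, b1, b2⟩ := exists_beta B.ss (BF.ne B)
  have t2 := h.inv.1
  have hL : GG D x ≤ GG D y := BF.gen_le B _
  have d2 := sq_d B t2 (hi D) a
  have s1 := add_ne ha
  have s2 := fix_add B.ss a
  have y1 : ∀ b, y (hi D) b ∈ Ns (GG D y) := fun b => le_normalizer (x_mem_GG _ b)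
  have hc := B.st.x_comm (hi D)
  have d4 : (y (hi D) a * t) ^ 4 = 1 := by
    rw [show 4 = 2 * 2 from rfl, pow_mul, pow_two, pow_two, d2, x_sq B.st]
  have b3 : σ β = β + 1 := by rw [← b1, ← add_assoc, CharTwo.add_self_eq_zero, zero_add]
  have e : y (hi D) ((a + σ a) * β + a) * t = y (hi D) ((a + σ a) * β) * (y (hi D) a * t) := by
    rw [← mul_assoc, B.st.add _ (hi D).2]
  have b4 : σ ((a + σ a) * β + a) = (a + σ a) * β + a := by
    rw [map_add, map_mul, s2, b3, mul_add, mul_one, add_assoc, add_assoc, CharTwo.add_self_eq_zero,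
      add_zero]
  have hv : ∀ r : Rt D, 1 ≤ D.pairing (hi D) r → ∀ b v, x r v * (y (hi D) b * t) =
      y (hi D) b * t * x r v := fun r hr b v => by
    rw [mul_assoc, ← h.tL _ (x_mem_GG r v), ← mul_assoc, ← mul_assoc, ← B.yx,
      hD.comm_of_nonneg B.st (by omega : 0 ≤ D.pairing (hi D) r)]
  refine jobK8 hU (BF.conj_t B _ b4) (mul_mem (y1 _) hU.mem) ?_ d4 (fun m m1 m2 => ?_)
    {v | ∃ r : Rt D, 1 ≤ D.pairing (hi D) r ∧ ∃ b, v = x r b} ?_ ?_ ?_
  · rw [e, mul_inv_rev, mul_assoc, mul_inv_cancel_left, BF.yt B, map_mul, s2, ← mul_add, b1, mul_one]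
    refine eq_inv_of_mul_eq_one_right ?_
    rw [← add_assoc, CharTwo.add_self_eq_zero, zero_add, mul_assoc, ← mul_assoc t,
      ← inv_eq_of_mul_eq_one_right t2, ← mul_assoc, mul_assoc _ _ t⁻¹,
      inv_eq_of_mul_eq_one_right t2]
    nth_rewrite 2 [← inv_eq_of_mul_eq_one_right t2]
    rw [B.ty, B.ss, x_sq B.st]
  · have m3 := conj_four d4 (d2 ▸ c.x_ne_one _ s1) m1
    have m4 : m * y (hi D) (a + σ a) * m⁻¹ = y (hi D) (a + σ a) := by
      rw [← d2, ← conj_mul]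
      rcases m3 with e | e <;> rw [e]
      rw [← mul_inv_rev, d2, x_inv B.st]
    have m5 := (c.ac_x m2).1 (act_hi hD T R s1 ((c.ac_x m2).2 m4) β)
    obtain ⟨z, z1, z2⟩ : ∃ z ∈ zpowers (y (hi D) (a + σ a)),
        y (hi D) ((a + σ a) * T.fl (c.ac m) β) = y (hi D) ((a + σ a) * β) * z := by
      obtain ⟨τ, e1, e2 | e2⟩ := fl_cases T c B t2 (syl_iff.1 H.syl) m2
      · exact ⟨1, one_mem _, by rw [e2, b2 τ e1, mul_one]⟩
      · exact ⟨_, mem_zpowers _, by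
          rw [e2, RingAut.mul_apply, b2 τ e1, b3, B.st.add _ (hi D).2, mul_add, mul_one]⟩
    have z3 : z * (m * (y (hi D) a * t) * m⁻¹ * (y (hi D) a * t)⁻¹) ∈ zpowers (y (hi D) (a + σ a)) := by
      refine mul_mem z1 ?_
      rcases m3 with e | e <;> rw [e]
      · simp
      · rw [← mul_inv_rev, d2]; exact inv_mem (mem_zpowers _)
    rw [e, ← conj_mul, m5, z2, show ∀ w z p d : G, w * z * p * (w * d)⁻¹ = w * (z * (p * d⁻¹)) * w⁻¹
      from fun _ _ _ _ => by group, 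
      mem_Cz.1 (zpowers_le.2 (mem_Cz.2 (hc ((a + σ a) * β) _)) z3),
      mul_inv_cancel_right]
    exact zpowers_le.2 (d2 ▸ mul_mem (mem_zpowers _) (mem_zpowers _)) z3
  · rintro _ ⟨r, hr, v, rfl⟩
    refine ⟨x_sq C.st r v, le_normalizer (hL (x_mem_GG r v)), hv r hr a v, (hv r hr _ v).symm, ?_⟩
    have e1 : y (hi D) ((a + σ a) * β + a) * t * x r v = y (hi D) ((a + σ a) * β + a) * x r v * t := by
      rw [mul_assoc, ← h.tL _ (x_mem_GG r v), mul_assoc]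
    obtain ⟨w, -, e2⟩ := H.cob _ (mul_mem (x_mem_gen hD.pos_hi ((a + σ a) * β + a))
      (BF.gen_le B _ (x_mem_gen (hD.pos_of_pairing hr) v))) (by
        rw [← e1, mul_assoc, ← mul_assoc (x r v), ← mul_assoc (x r v), mul_assoc (x r v), hv r hr,
          mul_assoc _ (x r v), x_sq C.st, mul_one, sq_d B t2, b4, CharTwo.add_self_eq_zero,
          B.st.x_zero])
    exact isConj_iff.2 ⟨w, (e1.trans e2).symm⟩
  · have q1 : IsPGroup 2 (Q0 D x (hi D)) := C.isPGroup_UU.to_le (Q0_le_UU hD)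
    refine le_trans (centralizer_anti fun u hu => ?_) (H.cu _ hD.J0_ne)
    exact (gen_le_iff.2 fun r hr v => Subgroup.subset_closure (by exact ⟨r, hr, v, rfl⟩) :
      Q0 D x (hi D) ≤ _) (C.mem_gen q1 (gen_le_GG _ hu)
      (isPGroup_iff_is2.1 C.isPGroup_UU u (UJ_le_UU _ hu)) (R'.q0J.ge (C.pi_mem_gen hu)))
  · rintro O o1 o2 o3 o4 _ ⟨r, hr, v, rfl⟩ o ho
    have q1 : IsPGroup 2 (Q0 D y (hi D)) := c.isPGroup_UU.to_le (Q0_le_UU hD)
    have q2 : o ∈ Ns (Q0 D y (hi D)) := c.mem_Ns_gen q1 (o1 ho) (R.map_Q0 s1 s1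
      ((c.ac_x (o1 ho)).2 (by
        rw [← d2, ← conj_mul, ← mem_Cz.1 (o4 ho), mul_inv_cancel_right]))).2.le
    have u1 : x r v ∈ Q0 D y (hi D) := BF.gen_le B _ (x_mem_gen hr v)
    have h4 : x r v * o * (x r v)⁻¹ * o⁻¹ = 1 := (isPGroup_iff_is2.1 q1 _ (by
      simpa only [mul_assoc] using mul_mem u1 (conj_mem_of_mem_normalizer q2 (inv_mem u1)))).eq_one
      (odd_orderOf_of_mem o2 (mul_mem (conj_mem_of_mem_normalizer (o3 ⟨Cs_le_Ns _
        (mem_Cs_zpowers.2 (hv r hr a v).symm), le_normalizer (hL (x_mem_GG r v))⟩) ho) (inv_mem ho)))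
    rwa [mul_inv_eq_one, mul_inv_eq_iff_eq_mul, ← mem_Cz] at h4

theorem jobF3 (hTy : JobTy) (hFR : JobFR) : JobF3.{u} := by
  intro D _ _ _ hD F _ _ _ G _ _ K _ _ _ F₀ x t ι σ y C c P B ho hU H r a ha g hg
  obtain ⟨T⟩ := hTy D hD K
  have h := P.toCfg
  have t2 := h.inv.1
  have hL : GG D x ≤ GG D y := BF.gen_le B _
  obtain ⟨w, rfl⟩ := hD.exists_W (hi D) r
  obtain ⟨n, n1, n2⟩ := BF.exists_mv B c w
  refine (mul_mem_cancel_right (le_normalizer (hL n1))).1 ?_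
  rw [show g * (y (w.1 (hi D)) a * t) * g⁻¹ = g * n * (y (hi D) a * t) * (g * n)⁻¹ by
    rw [← n2, mul_assoc _ n⁻¹, h.tL _ (inv_mem n1)]; group] at hg
  generalize g * n = g at hg
  have d2 := sq_d B t2 (hi D) a
  have y1 := x_mem_GG (x := y) (hi D)
  have hS := syl_iff.1 H.syl
  obtain ⟨m, m1, m2⟩ := H.fus _ (y1 (a + σ a)) (x_sq B.st _ _) g (by
    rw [← d2, ← conj_mul]; exact mul_mem hg hg)
  have z1 : ∀ b, y (hi D) b ∈ Cs (UU D y) := fun b =>
    centralizer_anti (UU_le_P0 hD) (XR_le_Cs_P0 hD B.st _ (x_mem_XR D y _ b))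
  have e1 : m⁻¹ * g * (y (hi D) a * t) * (m⁻¹ * g)⁻¹ * (m⁻¹ * g * (y (hi D) a * t) * (m⁻¹ * g)⁻¹) =
      y (hi D) (a + σ a) := by
    rw [conj_mul, d2, mul_assoc m⁻¹, mul_inv_rev, ← mul_assoc, mul_assoc m⁻¹, m2]; group
  obtain ⟨k, k1, k2⟩ := (hS.of_le (K := Ns (GG D y) ⊓ Cz (y (hi D) (a + σ a))) (le_inf hS.le (sup_le
    (fun u hu => mem_Cz.2 (z1 _ u hu).symm) (zpowers_le.2 (mem_Cz.2 (by
      rw [eq_comm, ← mul_inv_eq_iff_eq_mul, B.ty, fix_add B.ss]))))) inf_le_left).exists_cj_le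
    (Is2.zpowers (Is2.of_pow (k := 1) (by rw [pow_one, pow_two, e1]; exact is2_x B.st _ _)))
    (zpowers_le.2 ⟨by
      simpa [mul_assoc] using mul_mem (mul_mem (inv_mem m1) hg) m1, mem_Cz.2 (by rw [← e1]; group)⟩)
  have k3 := k2 (conj_mem_cj (mem_zpowers _))
  refine (mul_mem_cancel_left (mul_mem (mem_inf.1 k1).1 (inv_mem m1))).1 ?_
  have e2 := congrArg (fun v => k * v * k⁻¹) e1
  simp only [← mem_Cz.1 k1.2, mul_inv_cancel_right] at e2
  rw [← conj_mul] at e2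
  rw [show k * (m⁻¹ * g * (y (hi D) a * t) * (m⁻¹ * g)⁻¹) * k⁻¹ =
    k * m⁻¹ * g * (y (hi D) a * t) * (k * m⁻¹ * g)⁻¹ by group] at e2 k3
  generalize k * m⁻¹ * g = g at e2 k3
  obtain ⟨u, u1, u2⟩ : ∃ u ∈ UU D y, g * (y (hi D) a * t) * g⁻¹ = u * t :=
    ⟨_, ((mem_sup_inv t2 (BF.t_mem B _)).1 k3).resolve_left fun e => H.nt
      ((mul_mem_cancel_left (H.le (y1 a))).1 (h.normal.mem_comm_iff.1 (H.le (gen_le_GG _ e)) |>
        (by simpa using ·))), by rw [mul_assoc _ t, t2, mul_one]⟩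
  have e3 : y (hi D) a * u * t * (y (hi D) a * u * t) = 1 := by
    calc _ = y (hi D) a * (u * (t * y (hi D) a * t⁻¹) * u⁻¹) * (u * t * (u * t)) := by group
      _ = _ := by
        rw [B.ty, z1 _ u u1, ← u2, e2, mul_inv_cancel_right, B.st.add _ (hi D).2, x_sq B.st]
  obtain ⟨v, -, v2⟩ := H.cob _ (mul_mem (x_mem_gen hD.pos_hi a) u1) e3
  obtain ⟨m, m1, n, n1, rfl⟩ := (H9.UF.jobK2 hU (.refl _) hU.mem).2 (zpowers (y (hi D) a * t)) g _
    (H9.UF.mem_nor_zp (by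
      rw [mul_inv_rev, x_inv B.st, inv_eq_of_mul_eq_one_right t2, mul_assoc, mul_assoc, t2, mul_one]))
    (isConj_iff.2 ⟨v, v2.symm⟩) (mul_mem (le_normalizer (mul_mem (y1 a) (gen_le_GG _ u1))) hU.mem) (by
      rw [cjs, MonoidHom.map_zpowers]
      refine H9.UF.mem_nor_zp ?_
      change _ * (g * (y (hi D) a * t) * g⁻¹) * _ = (g * (y (hi D) a * t) * g⁻¹)⁻¹
      rw [u2]
      refine eq_inv_of_mul_eq_one_left ?_
      calc _ = y (hi D) a * u * t * ((y (hi D) a)⁻¹ * u * t) := by group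
        _ = _ := by rw [x_inv B.st, e3])
  exact mul_mem m1 (nor_d hD T (hFR D hD K) (hFR D hD F) C c h B hU H ha n1)

theorem jobF4 (hNU : JobNU.{u}) : JobF4.{u} := by
  intro D _ _ _ hD F _ _ _ G _ _ K _ _ _ F₀ x t ι σ y C c P B ho hU H h3
  have h := P.toCfg
  have t2 := h.inv.1
  by_cases hM : Ns (GG D y) = ⊤
  · have hN : (GG D y).Normal := normal_of_top_le_normalizer hM.ge
    obtain rfl : GG D y = F₀ := by
      rcases h.simple.eq_bot_or_eq_top_of_normal ((GG D y).subgroupOf F₀) inferInstance with e | e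
      · exact absurd (congrArg Subtype.val (mem_bot.1 (e ▸ x_mem_GG (hi D) 1 :
          (⟨_, H.le (x_mem_GG (hi D) 1)⟩ : F₀) ∈ ⊥))) (c.x_ne_one _ one_ne_zero)
      · exact le_antisymm H.le (subgroupOf_eq_top.1 e)
    exact ⟨MulEquiv.ofBijective c.piH ⟨(injective_iff_map_eq_one _).2 fun l hl =>
      Subtype.ext (mem_bot.1 (h.cent ▸ c.ker_cen l l.2 hl)), c.piH_surjective⟩⟩
  exfalso
  obtain ⟨W, a, b, w1, -, a2, -, -, b2, b3, -, w2, -, w3, -⟩ := H9.UF.jobK4 hU hM _ H.syl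
  have hS := fun g => mem_sup_inv (U := UU D y) (g := g) t2 (BF.t_mem B _)
  have hF : ∀ n g : G, IsConj t g → n * g * n⁻¹ ∉ UU D y := fun n g hg e => by
    obtain ⟨k, rfl⟩ := isConj_iff.1 hg
    exact H.nt (by simpa using h.normal.mem_comm (by
      simpa using h.normal.mem_comm (H.le (gen_le_GG _ e)) : k * t * k⁻¹ ∈ F₀))
  by_cases w4 : W ≤ UU D y
  · rcases w4.eq_or_lt with rfl | w5
    · have e : ∀ f : Unit → Subgroup G, ⨆ i, f i = f () := fun f => iSup_unique f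
      have := hNU D hD K G Unit (fun _ => y) ⟨fun _ => c, fun _ _ h => absurd rfl h, by rwa [e],
        fun m hm _ => ⟨(), cj_eq_self (by rwa [e] at hm)⟩⟩ t (by simp) (by rwa [e])
        (by rw [e]; exact BF.t_mem B _) (fun _ _ h => absurd rfl h) fun k => by
          rw [e, e]
          exact (centralizer_anti (BF.gen_le B _)).trans (H.cu _ (single_ne k))
      rw [e, e] at this
      exact b3 (this b2)
    · obtain ⟨i, i1, i2⟩ := SetLike.exists_of_lt (lt_inf_normalizer c.isPGroup_UU w5)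
      obtain ⟨k, k1, k2⟩ := exists_sq_mem (isPGroup_iff_is2.1 c.isPGroup_UU i i1.1) i2
      obtain ⟨w, w6, n, -, e⟩ := w3 _ (pow_mem i1.2 k) k1 k2
      exact hF n a a2 (e ▸ mul_mem (pow_mem i1.1 k) (w4 w6))
  obtain ⟨k, k1, k2⟩ : ∃ k, ¬ Uge D y k ≤ W ∧ Uge D y (k + 1) ≤ W := by
    by_contra! k1
    have k2 : ∀ k, ¬ Uge D y k ≤ W := fun k => by
      induction k with
      | zero =>
        intro e
        obtain ⟨w, w5, w6⟩ := SetLike.not_le_iff_exists.1 w4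
        exact w2 t ((mul_mem_cancel_left w5).1 (e (Uge_zero.ge (((hS w).1 (w1 w5)).resolve_left w6))))
          (.refl _)
      | succ k ih => exact k1 k ih
    exact k2 D.nroots (Uge_top.le.trans bot_le)
  obtain ⟨r, hr, rfl⟩ : ∃ r : Rt D, Pos r ∧ (r : ℕ) = k := by
    by_contra! e
    exact k1 ((Uge_succ_of_not e).le.trans k2)
  obtain ⟨v, v1, v2⟩ : ∃ v, y r v ∉ W ∧ y r (v + σ v) ∈ W := by
    obtain ⟨u, u1, u2⟩ := SetLike.not_le_iff_exists.1 k1
    obtain ⟨v, u, u3, rfl⟩ := exists_split B.st hr u1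
    have u4 : y r v ∉ W := fun e => u2 (mul_mem e (k2 u3))
    by_cases e : y r (v + σ v) ∈ W
    · exact ⟨v, u4, e⟩
    · exact ⟨_, e, by rw [fix_add B.ss, CharTwo.add_self_eq_zero, B.st.x_zero]; exact one_mem _⟩
  have y1 := fun v => x_mem_gen (x := y) (S := {r | Pos r}) hr v
  have hW : ∀ u ∈ UU D y, ∀ v, (y r v)⁻¹ * (u * y r v * u⁻¹) ∈ W := fun u hu v =>
    k2 (comm_mem B.st hr hu v)
  obtain ⟨w, w5, n, -, e⟩ := w3 (y r v) (mem_normalizer_of_cj_le (by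
    rintro _ ⟨w, hw, rfl⟩
    refine (mul_mem_cancel_right (inv_mem hw)).1 ?_
    change y r v * w * (y r v)⁻¹ * w⁻¹ ∈ W
    rcases (hS w).1 (w1 hw) with e | e
    · simpa [x_inv B.st, mul_assoc] using hW w e v
    · have := mul_mem v2 (hW _ e (σ v))
      rw [← B.st.add r r.2, mul_assoc, mul_inv_cancel_left, ← B.ty] at this
      convert this using 1
      rw [x_inv B.st]
      calc _ = y r v * (w * (t * t) * y r v * (t * t)⁻¹ * w⁻¹) := by rw [t2]; group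
        _ = _ := by group)) v1 (by rw [x_sq B.st]; exact one_mem _)
  have e1 := ((hS _).1 (mul_mem (mem_sup_left (y1 v)) (w1 w5))).resolve_left (e ▸ hF n a a2)
  obtain ⟨u, u1, u2⟩ := H.cob _ e1 (by
    rw [mul_assoc _ t t, t2, mul_one, e, conj_mul, (H9.UF.inv2_conj hU.inv a2).1]; simp)
  rw [mul_assoc _ t t, t2, mul_one] at u2
  have e2 : u * (y r v * t) * u⁻¹ ∈ W := by
    have := mul_mem (k2 (conj_mem_Uge B.st (y1 v) (comm_mem B.st hr u1 v))) w5
    convert this using 1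
    rw [eq_inv_mul_of_mul_eq u2, x_inv B.st]
    calc _ = y r v * y r v * u * y r v * u⁻¹ * (y r v * y r v) * u * t * u⁻¹ := by
          rw [x_sq B.st]; group
      _ = _ := by group
  by_cases e3 : σ v = v
  · exact w2 _ e2 ((BF.conj_t B r e3).trans (isConj_iff.2 ⟨u, rfl⟩))
  · refine b3 ((mul_mem_cancel_right (le_normalizer (gen_le_GG _ u1))).1 (h3 r v e3 (b * u) ?_))
    simpa [mul_assoc] using H.syl.1 (w1 (conj_mem_of_mem_normalizer b2 e2))

end H30.Sf
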