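import Cfsg.Agent.H26.DP0ASpec
import Cfsg.Agent.H14.Rel

/-! S3275, chapter U0, section A: the normaliser of one of three components. -/

set_option autoImplicit false

namespace H30.DA

open Subgroup Cfsg H98 H48.DP H57.DPC H48.DP2

universe u

theorem jobW3 : H26.DA.JobW3.{u} := by
  intro G _ _ P K y z a h
  have y3 : y ^ 3 = 1 := h.y3 ▸ pow_orderOf_eq_one y
  have cos : ∀ g : G, g ∈ No K ∨ y⁻¹ * g ∈ No K ∨ (y * y)⁻¹ * g ∈ No K := fun g => by
    have h1 : IsComponentOf (cj g K) ⊤ := H14.cp_iff.1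
      ((H14.cp_iff.2 h.comp).cj_of_mem_normalizer (le_normalizer (mem_top g)))
    rcases h.all _ h1 with e | e | e
    · exact .inl (cj_eq_self_iff.1 e)
    · exact .inr (.inl (cj_eq_self_iff.1 (by rw [← cj_cj, e, cj_inv_cj])))
    · exact .inr (.inr (cj_eq_self_iff.1 (by rw [← cj_cj, e, cj_inv_cj])))
  have dv : ∀ {c s t : G}, c * s ∈ No K → c * (s * t) ∈ No K → t ∈ No K := fun {c s t} h1 h2 => by
    have := mul_mem (inv_mem h1) h2
    rwa [← mul_assoc c, inv_mul_cancel_left] at this
  have yy : y * y ∉ No K := fun e => h.yK (by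
    have := mul_mem e e
    rwa [show y * y * (y * y) = y ^ 3 * y by simp only [pow_succ, pow_zero, one_mul, mul_assoc], y3,
      one_mul] at this)
  refine ⟨h, fun g hg => ?_, fun t ht tK => ?_, cos⟩
  · have key : g ∈ No K ∨ g * g ∈ No K ∨ g * (g * g) ∈ No K := by
      rcases cos g with h1 | h1 | h1
      · exact .inl h1
      all_goals
        rcases cos (g * g) with h2 | h2 | h2
        · exact .inr (.inl h2)
        all_goals
          rcases cos (g * (g * g)) with h3 | h3 | h3
          · exact .inr (.inr h3)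
          all_goals first
            | exact .inl (dv h1 h2)
            | exact .inr (.inl (dv h1 h3))
            | exact .inl (dv h2 (mul_assoc g g g ▸ h3))
    rcases key with h1 | h1 | h1
    · exact h1
    · obtain ⟨k, m, ⟨j, rfl⟩, e⟩ := Nat.exists_eq_two_pow_mul_odd (orderOf_pos g).ne'
      have h2 := (h.str.cm K h.comp).2.two (g ^ (2 * j + 1)) trivial (isPGroup_zpowers (k := k)
        (by rw [← pow_mul, mul_comm, ← e, pow_orderOf_eq_one]))
      rw [pow_succ, pow_mul, sq] at h2
      exact (mul_mem_cancel_left (pow_mem h1 j)).1 h2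
    · obtain ⟨m, e⟩ := exists_pow_eq_self_of_coprime hg.symm
      exact e ▸ pow_mem (by rwa [pow_succ', sq]) m
  · have hA : y⁻¹ * t * y ∈ No K := by
      rcases cos (t * y) with h1 | h1 | h1
      · exact absurd ((mul_mem_cancel_left tK).1 h1) h.yK
      · rwa [mul_assoc]
      rcases cos (t * (y * y)) with h2 | h2 | h2
      · exact absurd ((mul_mem_cancel_left tK).1 h2) yy
      · obtain ⟨k, hk⟩ := h.syl.isPGroup ⟨t, ht⟩
        have h3 : (y⁻¹ * t * y) ^ 3 ^ k = 1 := by
          have h4 : t ^ 3 ^ k = 1 := congrArg Subtype.val hk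
          rw [← inv_inv y, inv_inv y⁻¹, conj_pow, h4, mul_one, mul_inv_cancel]
        obtain ⟨m, e⟩ := exists_pow_eq_self_of_coprime (n := 2) (x := y⁻¹ * t * y)
          (Nat.Coprime.coprime_dvd_right (orderOf_dvd_of_pow_eq_one h3)
            (Nat.Coprime.pow_right k (by norm_num)))
        refine e ▸ pow_mem ?_ m
        have := mul_mem h2 h1
        rwa [show y⁻¹ * (t * (y * y)) * ((y * y)⁻¹ * (t * y)) = (y⁻¹ * t * y) ^ 2 by
          rw [sq]; group] at this
      · exact absurd (dv h1 (by rwa [mul_assoc t])) h.yK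
    have hB : (y * y)⁻¹ * t * (y * y) ∈ No K := by
      rcases cos (t * (y * y)) with h2 | h2 | h2
      · exact absurd ((mul_mem_cancel_left tK).1 h2) yy
      · exact absurd (dv (c := y⁻¹ * t) hA (by rwa [mul_assoc])) h.yK
      · rwa [mul_assoc]
    exact ⟨by rw [No, ← cj_normalizer, mem_cj]; exact hA,
      by rw [No, ← cj_normalizer, mem_cj]; exact hB⟩

end H30.DA
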