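import Cfsg.Agent.H96.U2CenSpec

/-! S3275, chapter U2F, central case: squares. -/

set_option autoImplicit false

namespace H30.Cen

open Subgroup Cfsg H98 H48.DP H96.U2I

universe u

theorem jobSQ : H96.Cen.SQ.{u} := by
  intro G _ _ M Q T R Q0 F K y u h TK KQ uK uR hc
  obtain ⟨a, ⟨aQ, aR⟩, ha⟩ := h.nsq
  have y3 : y * y = y⁻¹ := eq_inv_of_mul_eq_one_left (by
    rw [← pow_orderOf_eq_one y, h.y3, pow_succ, sq])
  have uT : u ∈ T := h.QT (KQ uK)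
  have cy : ∀ {r}, r ∈ R → y⁻¹ * r * y ∈ R := fun hr => conj_mem_of_mem_normalizer' h.yR hr
  have cm : ∀ {t}, t ∈ T → u * t * u⁻¹ * t⁻¹ ∈ K := fun {t} ht => by
    have := mul_mem uK (conj_mem_of_mem_normalizer (TK ht) (inv_mem uK))
    rwa [← mul_assoc, ← mul_assoc] at this
  have r1 : u * y * u * y ∈ R := by
    have := mul_mem (h.inv u uT uR) (cy (h.mul u uT u uT uR uR))
    rwa [show u * y * u⁻¹ * y * (y⁻¹ * (u * u) * y) = u * y * u * y by group] at this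
  have b1 : u * (y⁻¹ * a * y) * u⁻¹ * (y⁻¹ * a * y)⁻¹ ∈ R :=
    mul_mem (conj_mem_of_mem_normalizer (h.TR uT) (cy aR)) (inv_mem (cy aR))
  have b2 := hc _ ⟨cm (h.RT (cy aR)), b1⟩
  have b3 := conj_mem_of_mem_normalizer h.yR b1
  have e1 : u * y * u * y * (y * a * y⁻¹) * (u * y * u * y)⁻¹ =
      u * (y * (u * (y⁻¹ * a * y) * u⁻¹ * (y⁻¹ * a * y)⁻¹) * y⁻¹ * a) * u⁻¹ := by
    calc u * y * u * y * (y * a * y⁻¹) * (u * y * u * y)⁻¹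
        = u * y * u * (y * y) * a * (y * y)⁻¹ * (u * y * u)⁻¹ := by group
      _ = _ := by rw [y3]; group
  generalize u * (y⁻¹ * a * y) * u⁻¹ * (y⁻¹ * a * y)⁻¹ = b at b1 b2 b3 e1
  have k1 := KQ (cm (h.RT (mul_mem b3 aR)))
  have e2 : u * (y * b * y⁻¹ * a) * u⁻¹ =
      u * (y * b * y⁻¹ * a) * u⁻¹ * (y * b * y⁻¹ * a)⁻¹ * (y * b * y⁻¹) * a := by group
  generalize u * (y * b * y⁻¹ * a) * u⁻¹ * (y * b * y⁻¹ * a)⁻¹ = k at k1 e2
  have h1 := mul_mem (mul_mem (mul_mem k1 (conj_mem_of_mem_normalizer (h.TQ (h.RT b3))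
    (mul_mem (h.QQ aQ) k1))) b2) (h.QQ aQ)
  refine ha ((mem_normalizer_iff.1 (h.TQ (h.RT r1)) _).2 ?_)
  generalize u * y * u * y = ρ at e1
  have e3 : ρ * (y * (a * a) * y⁻¹) * ρ⁻¹ =
      ρ * (y * a * y⁻¹) * ρ⁻¹ * (ρ * (y * a * y⁻¹) * ρ⁻¹) := by group
  rw [e3, e1, e2]
  convert h1 using 1
  group

end H30.Cen
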