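import Cfsg.Agent.H88.CGKit
import Cfsg.Agent.H15.BGKit

/-! CG, job CS: the Sylow subgroup. -/

set_option autoImplicit false
set_option linter.unusedSectionVars false

namespace H30.CG

open Subgroup Cfsg H98 H1.Gold H86.L34 H88.AS Equiv H88.CG
open H6 (F4)
open H88.TE (mc1)

universe u
variable {G : Type u} [Group G] [Finite G] {s : SG G} {θ : s.M →* Perm (Fin 8)} {Q S : Subgroup G}
  {g j t a : G}

theorem cjc {i x : G} (h : t * (i * x * i⁻¹) * t⁻¹ = i * x * i⁻¹) : i⁻¹ * t * i⁻¹⁻¹ * x * (i⁻¹ * t * i⁻¹⁻¹)⁻¹ = x := by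
  calc _ = i⁻¹ * (t * (i * x * i⁻¹) * t⁻¹) * i := by group
    _ = _ := by rw [h]; group

theorem fix1 {z : G} : g ∈ cen1 z ↔ g * z * g⁻¹ = z := mc1.trans mul_inv_eq_iff_eq_mul.symm

variable (h : Cg s)
include h

theorem z_of {f : F4 → F4} (c : g * s.z 1 * g⁻¹ = s.z 1) (d : g * s.z F4.w * g⁻¹ = s.z (f F4.w))
    (k : f 0 = 0 ∧ f 1 = 1 ∧ f F4.v = 1 + f F4.w) (e : F4) : g * s.z e * g⁻¹ = s.z (f e) := by
  cases e
  · exact (show _ = (1 : G) by rw [show F4.o = 0 from rfl, h.gr.z0]; simp).trans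
      (h.gr.z0.symm.trans (congrArg _ k.1.symm))
  · exact c.trans (congrArg _ k.2.1.symm)
  · exact d
  · rw [k.2.2, ← h.gr.zz, ← d, ← c, conj_mul, h.gr.zz]; rfl

theorem cenZ_of (c : g * s.z 1 * g⁻¹ = s.z 1) (d : g * s.z F4.w * g⁻¹ = s.z F4.w) : g ∈ cen s.Z :=
  mem_cenZ.2 (z_of h (f := id) c d (by decide))

theorem frob (n : g ∈ nor s.Z) (c : g ∈ cen1 (s.z 1)) :
    g ∈ cen s.Z ∨ ∀ e, g * s.z e * g⁻¹ = s.z (e ^ 2) := by
  have c := fix1.1 c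
  obtain ⟨e, b⟩ := h.cj_z n F4.w
  cases e
  · rw [show F4.o = 0 from rfl, h.gr.z0, conj_eq_one_iff, ← h.gr.z0] at b
    exact absurd (h.gr.z_inj b) (by decide)
  · rw [show F4.i = 1 from rfl, ← c, mul_left_inj, mul_right_inj] at b
    exact absurd (h.gr.z_inj b) (by decide)
  · exact Or.inl (cenZ_of h c b)
  · exact Or.inr (z_of h (f := (· ^ 2)) c b (by decide))

theorem frob_mul (a : ∀ e, g * s.z e * g⁻¹ = s.z (e ^ 2)) (b : ∀ e, j * s.z e * j⁻¹ = s.z (e ^ 2)) :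
    g * j ∈ cen s.Z := mem_cenZ.2 fun e => by
  rw [show g * j * s.z e * (g * j)⁻¹ = g * (j * s.z e * j⁻¹) * g⁻¹ by group, b, a, sq_sq]

theorem eq_z1 {e : F4} (b : ∀ e, j * s.z e * j⁻¹ = s.z (e ^ 2)) (n : s.z e ≠ 1) (c : j * s.z e * j⁻¹ = s.z e) :
    e = 1 := (show ∀ e : F4, e ≠ 0 → e ^ 2 = e → e = 1 by decide) e (fun k => n (k ▸ h.gr.z0))
  (h.gr.z_inj ((b e).symm.trans c))

variable (q : CQ s Q)
include q

theorem exj : ∃ j ∈ Q, j * j = 1 ∧ (∀ e, j * s.z e * j⁻¹ = s.z (e ^ 2)) ∧ s.Act j Xs := by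
  obtain ⟨j, m, h1, h2, h3⟩ := q.mv
  exact ⟨j, m, h1, z_of h (f := (· ^ 2)) (mul_inv_eq_iff_eq_mul.2 (q.xs.z_comm j m).symm) h2 (by decide), h3⟩

omit h in
theorem nQc : nor Q ≤ cen1 (s.z 1) := fun g m => fix1.2 (q.xs.unique (by
  have := q.xs.conj g
  rwa [show Q.map _ = Q from cj_eq_self m] at this))

variable (c : CA s θ) (hN : nor s.Z ≤ nor s.P) (T : IsSyl 2 S (nor s.Z)) (QS : Q ≤ S) (PS : s.P ≤ S)
include c hN T QS PS

theorem Sc : S ≤ cen1 (s.z 1) := by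
  obtain ⟨j, m, -, a, -⟩ := exj h q
  obtain ⟨z, hz, z1, -, k⟩ := H15.BG.ex_cen_inv T.isPGroup (h.Z_le_P.trans PS) T.le
    fun e => q.xs.z_ne (mem_bot.1 (e ▸ h.gr.zZ 1))
  obtain ⟨e, rfl⟩ := h.mem_Z.1 hz
  rwa [eq_z1 h a z1 (fix1.1 (k (QS m)))] at k

theorem SO : S ≤ cen s.O := fun g m => by
  obtain ⟨j, mj, -, a, -⟩ := exj h q
  have k : ∀ g ∈ S, g ∈ cen s.Z → g ∈ cen s.O := fun g m e =>
    c.tO g ⟨e, hN (nZ e)⟩ (isPGroup_iff_forall.1 T.isPGroup g m)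
  exact (frob h (T.le m) (Sc h q c hN T QS PS m)).elim (k g m) fun e =>
    (mul_mem_cancel_right (mem_inf.1 (q.le mj)).1).1 (k _ (mul_mem m (QS mj)) (frob_mul h e a))

theorem inZ (m : a ∈ S) (k : ∀ b ∈ S, a * b * a⁻¹ = b ∨ a * b * a⁻¹ = b * s.z 1) : a ∈ s.Z := by
  have k1 : ∀ y, ∃ e, (e = 0 ∨ e = 1) ∧ a * s.p y 0 * a⁻¹ = s.p y e := fun y =>
    (k _ (PS (p_mem y 0))).elim (fun d => ⟨0, .inl rfl, d⟩) fun d => ⟨1, .inr rfl, by simpa [h.p_zr] using d⟩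
  have ac : s.Act a id := fun y => (k1 y).imp fun _ d => d.2
  obtain ⟨o, ho, y, e, rfl⟩ := c.ker a (mem_cenZ.2 fun e => by
    simpa [qf] using h.act_qf ac (1, e, 0, 0, 0, 0)) ac
  obtain rfl := h.o_one ho (h.P_cenO (p_mem y e)) (isPGroup_iff_forall.1 h.P_two _ (p_mem y e))
    (isPGroup_iff_forall.1 T.isPGroup _ m)
  rw [one_mul] at k1 ⊢
  refine h.p_mem_Z.2 (by_contra fun n => ?_)
  obtain ⟨x, hx⟩ := bf_onto n F4.w
  obtain ⟨e', h1, h2⟩ := k1 x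
  rw [h.p_conj, hx, zero_add] at h2
  rw [← (h.p_ext h2).2] at h1
  exact absurd h1 (by decide)

theorem sylG : IsSyl 2 S ⊤ := by
  have sc := Sc h q c hN T QS PS
  have zS : ∀ e, s.z e ∈ S := fun e => PS (h.Z_le_P (h.gr.zZ e))
  have n : nor S ≤ nor s.Z := fun g m => by
    obtain ⟨j, mj, -, a, -⟩ := exj h q
    have cm : ∀ {y b z : G}, y * (g⁻¹ * b * g) * y⁻¹ = g⁻¹ * b * g * z →
        g * y * g⁻¹ * b * (g * y * g⁻¹)⁻¹ = b * (g * z * g⁻¹) := fun {y b z} d => by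
      calc _ = g * (y * (g⁻¹ * b * g) * y⁻¹) * g⁻¹ := by group
        _ = _ := by rw [d]; group
    have k : ∀ b ∈ S, g * s.z 1 * g⁻¹ * b * (g * s.z 1 * g⁻¹)⁻¹ = b := fun b hb => by
      simpa using cm (z := 1) (by
        rw [← (mc1.1 (sc (conj_mem_of_mem_normalizer' m hb))).eq, mul_inv_cancel_right, mul_one])
    have z1 : g * s.z 1 * g⁻¹ = s.z 1 := by
      obtain ⟨e, b⟩ := h.mem_Z.1 (inZ h q c hN T QS PS (conj_mem_of_mem_normalizer m (zS 1))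
        fun b hb => Or.inl (k b hb))
      rw [← b, eq_z1 h a (fun d => q.xs.z_ne (conj_eq_one_iff.1 (b.symm.trans d))) (by
        rw [b, ← mul_inv_eq_iff_eq_mul.1 (k j (QS mj)), mul_inv_cancel_right])]
    refine mem_normalizer_fintype fun z hz => ?_
    obtain ⟨e, rfl⟩ := h.mem_Z.1 hz
    refine inZ h q c hN T QS PS (conj_mem_of_mem_normalizer m (zS e)) fun b hb => ?_
    have m' := conj_mem_of_mem_normalizer' m hb
    have cz : ∀ {y : G} {e'}, y * s.z e * y⁻¹ = s.z e' → s.z e * y * (s.z e)⁻¹ = y * (y⁻¹ * s.z (e + e') * y) :=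
      fun {y e'} d => by rw [← h.gr.zz, ← d, inv_eq_of_mul_eq_one_right (h.gr.z_sq e)]; group
    rcases frob h (T.le m') (sc m') with d | d
    · exact Or.inl ((cm (cz (mem_cenZ.1 d e))).trans (by rw [F4.add_self, h.gr.z0]; group))
    rcases (show ∀ e : F4, e + e ^ 2 = 0 ∨ e + e ^ 2 = 1 by decide) e with d' | d'
    · exact Or.inl ((cm (cz (d e))).trans (by rw [d', h.gr.z0]; group))
    · refine Or.inr ((cm (cz (d e))).trans ?_)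
      rw [d', ← (mc1.1 (inv_mem (sc m'))).eq.symm, inv_mul_cancel_right, z1]
  obtain ⟨S', hS, le⟩ := exists_isSyl_le T.isPGroup le_top
  by_contra hn
  exact (lt_inf_normalizer hS.isPGroup (lt_of_le_of_ne le fun e => hn (e ▸ hS))).ne'
    (T.eq_of_le (hS.isPGroup.to_le inf_le_left) (le_inf le le_normalizer) (inf_le_right.trans n))

theorem cz (a : AF₁) (m : t ∈ nor Q) (tt : t * t = 1) : ∃ g ∈ nor Q, g * t * g⁻¹ ∈ cen s.Z := by
  have sc := Sc h q c hN T QS PS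
  obtain ⟨g, hg, m1⟩ := ((sylG h q c hN T QS PS).of_le ((le_inf T.le sc).trans q.nZ) le_top).exists_cj_le
    (H15.BG.two_zpowers tt) (zpowers_le.2 m)
  suffices ∀ t ∈ S, t * t = 1 → ∃ g ∈ nor Q, g * t * g⁻¹ ∈ cen s.Z by
    obtain ⟨i, hi, d⟩ := this _ (m1 (conj_mem_cj (mem_zpowers t))) (by rw [conj_mul, tt]; simp)
    exact ⟨i * g, mul_mem hi hg, by simpa [mul_assoc] using d⟩
  intro t m tt
  rcases frob h (T.le m) (sc m) with d | d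
  · exact ⟨1, one_mem _, by simpa using d⟩
  obtain ⟨j, mj, jj, j1, j2⟩ := exj h q
  have k := frob_mul h d j1
  obtain ⟨x, x1, x2, x3, x4⟩ := a.rfix (θ ⟨t * j, k, hN (nZ k)⟩) (c.alt _) (by
    rw [← map_mul]
    refine c.θ_P a h _ (q.cP ⟨?_, mul_mem k k⟩)
    simpa [inv_eq_of_mul_eq_one_right tt, mul_assoc] using
      mul_mem (conj_mem_of_mem_normalizer (q.nZ ⟨T.le m, sc m⟩) mj) mj)
  obtain ⟨e₁, k1⟩ := j2 x
  obtain ⟨e₀, k2⟩ := c.conj_p h ⟨t * j, k, hN (nZ k)⟩ x e₁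
  rw [x1] at k1
  rw [x4, ← k1, show t * j * (j * s.p x 0 * j⁻¹) * (t * j)⁻¹ = t * (j * j * s.p x 0 * (j * j)⁻¹) * t⁻¹ by
    group, jj, one_mul, inv_one, mul_one] at k2
  have k3 : ∀ e, t * s.p x e * t⁻¹ = s.p x (e₀ + e ^ 2) := fun e => by
    rw [← h.p_zr, ← k2, ← d, conj_mul, h.p_zr, zero_add]
  have k4 := k3 e₀
  rw [← k2, show t * (t * s.p x 0 * t⁻¹) * t⁻¹ = t * t * s.p x 0 * (t * t)⁻¹ by group, tt, one_mul,
    inv_one, mul_one] at k4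
  obtain ⟨e, he⟩ := (show ∀ e₀ : F4, 0 = e₀ + e₀ ^ 2 → ∃ e, e₀ + e ^ 2 = e by decide) e₀ (h.p_ext k4).2
  obtain ⟨i, hi, d'⟩ := q.tr _ ((q.re x e).2 x1) (by rw [h.p_sq, x2, h.gr.z0])
    (fun b => x3 (h.p_mem_Z.1 (b ▸ one_mem _))) fun b => x3 (h.p_mem_Z.1 (b ▸ h.gr.zZ 1))
  exact ⟨i⁻¹, inv_mem hi, cenZ_of h (cjc (by rw [fix1.1 (nQc q hi), fix1.1 (sc m)]))
    (cjc (by rw [d', k3, he]))⟩

theorem n0 (a : AF₁) : ¬ IsConj (s.z 1) (s.p e0 0) := fun e => by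
  have sc := Sc h q c hN T QS PS
  obtain ⟨g, hg⟩ := isConj_iff.1 e.symm
  have ki := H88.TE.KI.cj (h.r_KI one_ne_zero) g
  rw [h.p_e0] at hg
  obtain ⟨i, hi, m⟩ := ((sylG h q c hN T QS PS).of_le sc le_top).exists_cj_le
    (H15.BG.two_zpowers (H88.TE.KI.sq ki)) (zpowers_le.2 (fix1.2 (by
      rw [← hg, conj_inv, conj_mul, conj_mul, ← h.r_A 1 (h.g0.vA 0 1), ← mul_assoc (s.r 1),
        mul_inv_cancel_right, h.r_A 1 (h.g0.vA 0 1)])))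
  have ki := H88.TE.KI.cj ki i
  obtain ⟨k, hk, d⟩ := cz h q c hN T QS PS a (q.nZ ⟨T.le (m (conj_mem_cj (mem_zpowers _))),
    sc (m (conj_mem_cj (mem_zpowers _)))⟩) (H88.TE.KI.sq ki)
  obtain ⟨B, B1, B2, B3⟩ := c.big _ ⟨d, hN (nZ d)⟩ (H88.TE.KI.cj ki k)
  have e1 : k * i * g * (s.r 1 * s.v 0 1) * (k * i * g)⁻¹ = s.z 1 := by
    rw [← fix1.1 (mul_mem (nQc q hk) hi), ← hg]; group
  rw [show k * (i * (g * s.r 1 * g⁻¹) * i⁻¹) * k⁻¹ = k * i * g * s.r 1 * (k * i * g)⁻¹ by group] at B1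
  generalize k * i * g = f at e1 B1
  have h1 : cj f⁻¹ B ≤ cen1 (s.r 1) := by
    rw [cj_le_iff, inv_inv, H15.BG.cj_cen1]; exact B1.trans inf_le_right
  have h2 : cj f⁻¹ B ≤ cen1 (s.r 1 * s.v 0 1) := by
    rw [cj_le_iff, inv_inv, H15.BG.cj_cen1, e1]
    exact fun b hb => fix1.2 (mem_cenZ.1 (B1 hb).1.1 1)
  have h3 := h.g1.bdy (cj f⁻¹ B) (fun b hb => ⟨h.cen_r one_ne_zero (h1 hb), mc1.2 (by
    simpa using (mc1.1 (h1 hb)).inv_right.mul_right (mc1.1 (h2 hb)))⟩) (isPGroup_cj _ B2)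
  obtain ⟨n, -, h4⟩ := h.gp.syl.exists_cj_le ((isPGroup_cj f⁻¹ B2).to_le inf_le_left) (inf_le_right (a := cj f⁻¹ B))
  have h5 := card_le_of_le h4
  rw [card_cj, h.card_R] at h5
  rw [card_cj] at h3
  omega

omit h q c hN T QS PS in
theorem jobCS : JobCS.{u} := by
  intro G _ _ s θ Q a h c hN q
  have pz : s.P ≤ nor s.Z ⊓ cen1 (s.z 1) := fun g m =>
    ⟨nZ (h.P_cenZ m), fix1.2 (mem_cenZ.1 (h.P_cenZ m) 1)⟩
  obtain ⟨S, T, le⟩ := exists_isSyl_le (H := nor s.Z) (IsPGroup.to_sup_of_normal_right' h.P_two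
    q.xs.isPGroup (pz.trans q.nZ)) (sup_le (pz.trans inf_le_left) (q.le.trans inf_le_right))
  have PS := le_sup_left.trans le
  have QS := le_sup_right.trans le
  exact ⟨S, sylG h q c hN T QS PS, le_inf (le_inf T.le (Sc h q c hN T QS PS)) (SO h q c hN T QS PS), QS,
    fun _ => cz h q c hN T QS PS a.toAF₁, n0 h q c hN T QS PS a.toAF₁⟩

end H30.CG
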