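import Cfsg.Agent.H30.CkB1a

/-! CK-B1: invariant geometric spreads. -/

set_option autoImplicit false
set_option maxHeartbeats 400000

namespace H30.CkB

open Module Submodule H53.CK

universe u v

theorem alg_bound (F K : Type*) [Field F] [Ring K] [IsDomain K] [Algebra F K] [Module.Finite F K]
    (hc : ∀ a b : K, a * b = b * a) :
    Finite (K →ₐ[F] K) ∧ Nat.card (K →ₐ[F] K) ≤ finrank F K := by
  letI : CommRing K := { ‹Ring K› with mul_comm := hc }
  exact ⟨inferInstance, card_algHom_le_finrank F K K⟩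

theorem four (K : Type*) [Ring K] [IsDomain K] [Finite K] (h : Nat.card K = 4) (ω : K)
    (h0 : ω ≠ 0) (h1 : ω ≠ 1) : ω * ω + ω + 1 = 0 := by
  letI := (Finite.isDomain_to_isField K).toField
  letI := Fintype.ofFinite K
  have h4 := FiniteField.pow_card ω
  rw [← Nat.card_eq_fintype_card, h] at h4
  have : ω * ((ω - 1) * (ω * ω + ω + 1)) = 0 := by linear_combination h4
  exact ((mul_eq_zero.1 ((mul_eq_zero.1 this).resolve_left h0)).resolve_left (sub_ne_zero.2 h1))

theorem arith {q w : ℕ} (hq : 2 ≤ q) (hw : 2 ≤ w) (h : q ^ w ≤ q + (q - 1) * w) :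
    q = 2 ∧ w = 2 := by
  obtain ⟨k, rfl⟩ := Nat.exists_eq_add_of_le hw
  obtain ⟨p, rfl⟩ := Nat.exists_eq_add_of_le hq
  have h1 : ∀ k : ℕ, (2 + p) ^ 2 * (1 + k) ≤ (2 + p) ^ (2 + k) := fun k => by
    rw [pow_add]
    refine Nat.mul_le_mul_left _ ?_
    have := Nat.lt_pow_self (n := k) (show 1 < 2 + p by omega)
    omega
  have h2 := (h1 k).trans h
  have e : 2 + p - 1 = 1 + p := by omega
  rw [e] at h2
  constructor <;> nlinarith [Nat.zero_le (p * k), Nat.zero_le (p * p * k), Nat.zero_le (p * p)]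

variable {F : Type u} [Field F] {V : Type v} [AddCommGroup V] [Module F V]
  {D : V → Submodule F V}

/-- the additive maps fixing every member -/
def KA (S : Spr D) : Subring (AddMonoid.End V) where
  carrier := {f | ∀ v, f v ∈ D v}
  mul_mem' := fun {f g} hf hg v => S.le_of_mem (hg v) (hf (g v))
  one_mem' := S.self
  add_mem' := fun {f g} hf hg v => add_mem (hf v) (hg v)
  zero_mem' := fun v => zero_mem _
  neg_mem' := fun {f} hf v => neg_mem (hf v)

/-- the linear maps fixing every member -/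
def KL (S : Spr D) : Subalgebra F (Module.End F V) where
  carrier := {f | ∀ v, f v ∈ D v}
  mul_mem' := fun {f g} hf hg v => S.le_of_mem (hg v) (hf (g v))
  add_mem' := fun {f g} hf hg v => add_mem (hf v) (hg v)
  algebraMap_mem' := fun c v => smul_mem _ c (S.self v)

theorem KA_comm [Finite V] (S : Spr D) (f g : KA S) : f * g = g * f := by
  obtain ⟨d, hd⟩ := S.big 0 0
  have hd0 : d ≠ 0 := fun h => hd (by rw [h]; exact zero_mem _)
  haveI : Nontrivial (KA S) := ⟨0, 1, fun h => hd0 (congrArg (fun k : KA S => k.1 d) h).symm⟩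
  haveI : NoZeroDivisors (KA S) := ⟨fun {a b} h => by
    by_cases hb : b.1 d = 0
    · exact .inr (Subtype.ext (AddMonoidHom.ext (S.eq_zero (f := b.1) b.2 hd0 hb)))
    · exact .inl (Subtype.ext (AddMonoidHom.ext (S.eq_zero (f := a.1) a.2 hb
        (congrArg (fun k : KA S => k.1 d) h))))⟩
  haveI : IsDomain (KA S) := NoZeroDivisors.to_isDomain _
  haveI : Finite (AddMonoid.End V) :=
    Finite.of_injective (fun (f : V →+ V) => (f : V → V)) DFunLike.coe_injective
  exact (Finite.isDomain_to_isField (KA S)).mul_comm f g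

theorem exists_lin [Finite V] (S : Spr D) {u u' : V} (hu : u ≠ 0) (hu' : u' ∈ D u) :
    ∃ f : KL S, f.1 u = u' := by
  obtain ⟨f, hf, hfu⟩ := S.exists_add hu hu'
  refine ⟨⟨⟨f.toAddHom, fun c v => ?_⟩, hf⟩, hfu⟩
  exact congrArg (fun k : KA S => k.1 v) (KA_comm S ⟨f, hf⟩
    ⟨DistribMulAction.toAddMonoidHom V c, fun v => smul_mem _ c (S.self v)⟩)

theorem KL_ext (S : Spr D) {u : V} (hu : u ≠ 0) {f g : KL S} (h : f.1 u = g.1 u) : f = g := by
  refine Subtype.ext (LinearMap.ext fun v => sub_eq_zero.1 ?_)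
  exact S.eq_zero (f := (f - g).1.toAddMonoidHom) (f - g).2 hu (sub_eq_zero.2 h) v

theorem jobB1 : JobB1.{u, v} := by
  intro F _ _ V _ _ _ X S w rk blk hw
  haveI : Finite V := Module.finite_of_finite F
  have rk' : ∀ x, finrank F (S.W x) ≤ w := fun x => by
    by_cases hx : x = 0
    · rw [hx, S.zero]; simp
    · exact (rk x hx).le
  have P : Spr S.W :=
    { zero := S.zero
      self := S.self
      neg := fun x => by simpa using S.smul (-1) x (by simp)
      add := S.add
      blk := blk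
      big := fun a b => by
        have := finrank_sup_add_finrank_inf_eq (S.W a) (S.W b)
        obtain ⟨d, -, hd⟩ := H62.exists_mem_notMem (W := ⊤) (Z := S.W a ⊔ S.W b)
          (by have := rk' a; have := rk' b; rw [finrank_top]; omega)
        exact ⟨d, hd⟩ }
  obtain ⟨x, hx'⟩ := P.big 0 0
  have hx : x ≠ 0 := fun h => hx' (by rw [h]; exact zero_mem _)
  obtain ⟨y, hy, hyx⟩ := S.nt x hx
  obtain ⟨k0, hk0⟩ := exists_lin P hx hy
  haveI : Nontrivial (KL P) := ⟨0, 1, fun h => hx (congrArg (fun k : KL P => k.1 x) h).symm⟩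
  haveI : NoZeroDivisors (KL P) := ⟨fun {a b} h => by
    by_cases hb : b.1 x = 0
    · exact .inr (KL_ext P hx hb)
    · exact .inl (KL_ext P hb (congrArg (fun k : KL P => k.1 x) h))⟩
  haveI : IsDomain (KL P) := NoZeroDivisors.to_isDomain _
  let ev : KL P →ₗ[F] S.W x :=
    { toFun := fun k => ⟨k.1 x, k.2 x⟩
      map_add' := fun _ _ => rfl
      map_smul' := fun _ _ => rfl }
  have hev : Function.Bijective ev := ⟨fun a b h => KL_ext P hx (congrArg Subtype.val h),
    fun t => by
      obtain ⟨k, hk⟩ := exists_lin P hx t.2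
      exact ⟨k, Subtype.ext hk⟩⟩
  have hK : finrank F (KL P) = w := by
    rw [(LinearEquiv.ofBijective ev hev).finrank_eq, rk x hx]
  haveI : Finite (KL P) := Finite.of_injective _ hev.1
  obtain ⟨hfin, hb⟩ := alg_bound F (KL P) (Finite.isDomain_to_isField (KL P)).mul_comm
  have hw2 : 2 ≤ w := by
    have h1 : (F ∙ x) < S.W x := lt_of_le_of_ne ((span_singleton_le_iff_mem _ _).2 (S.self x))
      fun h => hyx (h ▸ hy)
    have := finrank_lt_finrank_of_lt h1
    rw [finrank_span_singleton hx, rk x hx] at this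
    omega
  have hsurj : Function.Surjective (Sum.elim (algebraMap F (KL P))
      (fun p : Fˣ × (KL P →ₐ[F] KL P) => (p.1 : F) • p.2 k0)) := by
    intro k
    by_cases hk : k.1 x ∈ F ∙ x
    · obtain ⟨c, hc⟩ := mem_span_singleton.1 hk
      exact ⟨.inl c, KL_ext P hx hc⟩
    obtain ⟨φ, h1, h2⟩ := H62.exists_dual_pair hyx
    obtain ⟨φ', h1', h2'⟩ := H62.exists_dual_pair hk
    obtain ⟨g, hg, c, hc, hgy, -⟩ := S.key x y x (k.1 x) φ φ' hx hx hy (k.2 x) h2 h1 h2' h1'
    have hc0 : c ≠ 0 := fun h => hx (g.injective (by rw [hc, h, zero_smul, map_zero]))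
    let σ : KL P →ₐ[F] KL P := ((g.conjAlgEquiv F).toAlgHom.comp (KL P).val).codRestrict (KL P)
      fun f v => by simpa using S.map g hg _ _ (f.2 (g.symm v))
    refine ⟨.inr (Units.mk0 c hc0, σ), KL_ext P hx ?_⟩
    have e : g.symm (c • x) = x := by rw [← hc, g.symm_apply_apply]
    change c • g (k0.1 (g.symm x)) = k.1 x
    rw [← map_smul, ← map_smul, ← map_smul, e, hk0, hgy]
  have hcard := Nat.card_le_card_of_surjective _ hsurj
  rw [Nat.card_sum, Nat.card_prod, Nat.card_units, natCard_eq_pow_finrank (K := F), hK] at hcard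
  obtain ⟨hq, rfl⟩ := arith (q := Nat.card F) Finite.one_lt_card hw2
    (hcard.trans (Nat.add_le_add_left (Nat.mul_le_mul_left _ (hK ▸ hb)) _))
  have h4 := four (KL P) (by rw [natCard_eq_pow_finrank (K := F), hK, hq]; rfl) k0
    (fun h => hyx (by rw [← hk0, h]; exact zero_mem _))
    (fun h => hyx (by rw [← hk0, h]; exact mem_span_singleton_self x))
  exact ⟨hq, rfl, k0.1, fun v => ⟨k0.2 v, congrArg (fun k : KL P => k.1 v) h4⟩⟩

end H30.CkB
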