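import Cfsg.Agent.H53.CKSpec

/-! Geometric spreads: the additive maps fixing every member act regularly on each member. -/

set_option autoImplicit false
set_option maxHeartbeats 400000

namespace H30.CkB

open Module Submodule

variable {F : Type*} [Field F] {V : Type*} [AddCommGroup V] [Module F V]

/-- a geometric spread with at least three independent members -/
structure Spr (D : V → Submodule F V) : Prop where
  zero : D 0 = ⊥
  self : ∀ x, x ∈ D x
  neg : ∀ x, D (-x) = D x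
  add : ∀ x y, D (x + y) ≤ D x ⊔ D y
  blk : ∀ x y, y ≠ 0 → y ∈ D x → D y = D x
  big : ∀ a b, ∃ d, d ∉ D a ⊔ D b

/-- the graph relation -/
def E (D : V → Submodule F V) (v v' b b' : V) : Prop :=
  v' ∈ D v ∧ b' ∈ D b ∧ v' + b' ∈ D (v + b)

/-- three independent members -/
def I3 (D : V → Submodule F V) (a b c : V) : Prop :=
  a ≠ 0 ∧ b ≠ 0 ∧ c ≠ 0 ∧
    ∀ a' ∈ D a, ∀ b' ∈ D b, ∀ c' ∈ D c, a' + b' + c' = 0 → a' = 0 ∧ b' = 0 ∧ c' = 0

variable {D : V → Submodule F V}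

theorem E.symm {v v' b b' : V} (h : E D v v' b b') : E D b b' v v' :=
  ⟨h.2.1, h.1, by rw [add_comm b', add_comm b]; exact h.2.2⟩

theorem I3.s12 {a b c : V} (h : I3 D a b c) : I3 D b a c :=
  ⟨h.2.1, h.1, h.2.2.1, fun b' hb a' ha c' hc e => by
    obtain ⟨h1, h2, h3⟩ := h.2.2.2 a' ha b' hb c' hc (by rw [← e]; abel)
    exact ⟨h2, h1, h3⟩⟩

theorem I3.s23 {a b c : V} (h : I3 D a b c) : I3 D a c b :=
  ⟨h.1, h.2.2.1, h.2.1, fun a' ha c' hc b' hb e => by
    obtain ⟨h1, h2, h3⟩ := h.2.2.2 a' ha b' hb c' hc (by rw [← e]; abel)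
    exact ⟨h1, h3, h2⟩⟩

namespace Spr

variable (S : Spr D)
include S

theorem le_of_mem {x y : V} (h : y ∈ D x) : D y ≤ D x := by
  by_cases hy : y = 0
  · rw [hy, S.zero]; exact bot_le
  · exact (S.blk x y hy h).le

theorem eq0 {a b t : V} (h : b ∉ D a) (ha : t ∈ D a) (hb : t ∈ D b) : t = 0 := by
  by_contra ht
  exact h (by rw [← S.blk a t ht ha, S.blk b t ht hb]; exact S.self b)

theorem nsymm {a b : V} (ha : a ≠ 0) (h : b ∉ D a) : a ∉ D b := fun hab =>
  ha (S.eq0 h (S.self a) hab)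

theorem ne0 {a b : V} (h : b ∉ D a) : b ≠ 0 := fun hb => h (hb ▸ zero_mem _)

theorem le_sup {a b c : V} (h : c ∈ D a ⊔ D b) : D c ≤ D a ⊔ D b := by
  obtain ⟨s, hs, s', hs', rfl⟩ := mem_sup.1 h
  exact (S.add s s').trans (sup_le_sup (S.le_of_mem hs) (S.le_of_mem hs'))

theorem uniq {v v' b b' b'' : V} (hv : v ≠ 0) (hb : b ∉ D v) (h : E D v v' b b')
    (h' : E D v v' b b'') : b' = b'' := by
  have h1 : v + b ∉ D b := fun h1 =>
    S.nsymm hv hb (by simpa using sub_mem h1 (S.self b))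
  have h2 : b' - b'' ∈ D (v + b) := by simpa using sub_mem h.2.2 h'.2.2
  exact sub_eq_zero.1 (S.eq0 h1 (sub_mem h.2.1 h'.2.1) h2)

theorem ex {v v' : V} (b : V) (h : v' ∈ D v) : ∃ b', E D v v' b b' := by
  have h1 := S.add (v + b) (-b)
  rw [add_neg_cancel_right, S.neg] at h1
  obtain ⟨t, ht, s, hs, e⟩ := mem_sup.1 (h1 h)
  exact ⟨-s, h, neg_mem hs, by rw [← e, add_neg_cancel_right]; exact ht⟩

theorem i3 {a b c : V} (ha : a ≠ 0) (hb : b ∉ D a) (hc : c ∉ D a ⊔ D b) : I3 D a b c := by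
  refine ⟨ha, S.ne0 hb, fun h => hc (h ▸ zero_mem _), fun a' ha' b' hb' c' hc' e => ?_⟩
  have h3 : c' = 0 := by
    by_contra h0
    have h1 : c' ∈ D a ⊔ D b := by
      have : c' = -(a' + b') := eq_neg_of_add_eq_zero_right e
      rw [this]
      exact neg_mem (add_mem_sup ha' hb')
    exact hc (S.le_sup h1 (by rw [S.blk c c' h0 hc']; exact S.self c))
  rw [h3, add_zero] at e
  have h1 : a' = 0 := S.eq0 hb ha' (by
    rw [eq_neg_of_add_eq_zero_left e]; exact neg_mem hb')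
  exact ⟨h1, by simpa [h1] using e, h3⟩

theorem drop {a b c a' b' c' : V} (h : I3 D a b c) (ha : a' ∈ D a) (hb : b' ∈ D b)
    (hc : c' ∈ D c) (ht : a' + b' + c' ∈ D (a + b + c)) : a' + b' ∈ D (a + b) := by
  obtain ⟨s, hs, t, ht', e⟩ := mem_sup.1 (S.add (a + b) c ht)
  obtain ⟨s1, h1, s2, h2, e'⟩ := mem_sup.1 (S.add a b hs)
  obtain ⟨-, -, h3⟩ := h.2.2.2 (a' - s1) (sub_mem ha h1) (b' - s2) (sub_mem hb h2) (c' - t)
    (sub_mem hc ht') (by rw [← e'] at e; linear_combination (norm := abel1) -e)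
  have : a' + b' = s := by linear_combination (norm := abel1) -e - h3
  rwa [this]

theorem nmem {a b c : V} (h : I3 D a b c) : b ∉ D a := fun hb =>
  h.2.1 (h.2.2.2 (-b) (neg_mem hb) b (S.self b) 0 (zero_mem _) (by simp)).2.1

theorem nmem_add {a b c : V} (h : I3 D a b c) : b + c ∉ D a := fun hb =>
  h.2.1 (h.2.2.2 (-(b + c)) (neg_mem hb) b (S.self b) c (S.self c) (by abel)).2.1

theorem key3 {a b c a' b' c' : V} (h : I3 D a b c) (h1 : E D a a' b b') (h2 : E D a a' c c') :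
    E D b b' c c' ∧ E D a a' (b + c) (b' + c') := by
  obtain ⟨d', hd⟩ := S.ex (b + c) h1.1
  obtain ⟨b1, hb1, c1, hc1, e⟩ := mem_sup.1 (S.add b c hd.2.1)
  have ht : a' + b1 + c1 ∈ D (a + b + c) := by
    rw [add_assoc, add_assoc, e]; exact hd.2.2
  have e1 : b' = b1 := S.uniq h.1 (S.nmem h) h1 ⟨h1.1, hb1, S.drop h h1.1 hb1 hc1 ht⟩
  have e2 : c' = c1 := S.uniq h.1 (S.nmem h.s23) h2 ⟨h1.1, hc1, S.drop h.s23 h1.1 hc1 hb1 (by
    rw [add_right_comm a', add_right_comm a]; exact ht)⟩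
  subst e1 e2
  rw [← e] at hd
  exact ⟨⟨hb1, hc1, hd.2.1⟩, hd⟩

theorem trans {a b c a' b' c' : V} (ha : a ≠ 0) (hb : b ∉ D a) (hc : c ∉ D a) (hcb : c ∉ D b)
    (h1 : E D a a' b b') (h2 : E D a a' c c') : E D b b' c c' := by
  by_cases h : c ∈ D a ⊔ D b
  · obtain ⟨d, hd⟩ := S.big a b
    obtain ⟨d', h3⟩ := S.ex d h1.1
    have hle := S.le_sup h
    have e1 := (S.key3 (S.i3 ha hb hd) h1 h3).1
    have e2 := (S.key3 (S.i3 ha hc fun h' => hd (sup_le le_sup_left hle h')) h2 h3).1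
    have i := S.i3 (S.ne0 hb) hcb fun h' => hd (sup_le le_sup_right hle h')
    exact (S.key3 i.s23.s12 e1.symm e2.symm).1
  · exact (S.key3 (S.i3 ha hb h) h1 h2).1

/-- existence of an additive map fixing every member, with a prescribed value -/
theorem exists_add {u u' : V} (hu : u ≠ 0) (hu' : u' ∈ D u) :
    ∃ f : V →+ V, (∀ v, f v ∈ D v) ∧ f u = u' := by
  classical
  obtain ⟨c, hc0⟩ := S.big u u
  have hc : c ∉ D u := fun h => hc0 (mem_sup_left h)
  obtain ⟨c', hcc⟩ := S.ex c hu'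
  choose t1 ht1 using fun v => S.ex v hu'
  choose t2 ht2 using fun v => S.ex v hcc.2.1
  let f : V → V := fun v => if v ∈ D u then t2 v else t1 v
  have hf0 : ∀ v, f v ∈ D v := fun v => by
    by_cases h : v ∈ D u
    · simpa [f, h] using (ht2 v).2.1
    · simpa [f, h] using (ht1 v).2.1
  have hA : ∀ v b, v ≠ 0 → v ∈ D u → b ∉ D u → E D v (t2 v) b (t1 b) := by
    intro v b hv hvu hb
    have hD := S.blk u v hv hvu
    have hvc : v ∉ D c := S.nsymm hv (hD ▸ hc)
    by_cases hbc : b ∈ D c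
    · obtain ⟨d, hd⟩ := S.big u c
      have hdu : d ∉ D u := fun h => hd (mem_sup_left h)
      have hdc : d ∉ D c := fun h => hd (mem_sup_right h)
      have hDb := S.blk c b (S.ne0 hb) hbc
      have e1 := S.trans hu hc hdu hdc hcc (ht1 d)
      have e2 := S.trans hu hb hdu (hDb ▸ hdc) (ht1 b) (ht1 d)
      have e3 := S.trans (S.ne0 hc) hvc hdc (hD ▸ hdu) (ht2 v) e1
      exact S.trans (S.ne0 hdu) (S.nsymm hv (hD ▸ hdu)) (S.nsymm (S.ne0 hb) (hDb ▸ hdc))
        (hD ▸ hb) e3.symm e2.symm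
    · have e1 := S.trans hu hc hb hbc hcc (ht1 b)
      exact S.trans (S.ne0 hc) hvc hbc (hD ▸ hb) (ht2 v) e1
  have hE : ∀ v b, v ≠ 0 → b ∉ D v → E D v (f v) b (f b) := by
    intro v b hv hb
    by_cases h1 : v ∈ D u <;> by_cases h2 : b ∈ D u
    · exact absurd (S.blk u v hv h1 ▸ h2) hb
    · simpa [f, h1, h2] using hA v b hv h1 h2
    · simpa [f, h1, h2] using (hA b v (S.ne0 hb) h2 h1).symm
    · simpa [f, h1, h2] using S.trans hu h1 h2 hb (ht1 v) (ht1 b)
  have hz : f 0 = 0 := by simpa [S.zero] using hf0 0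
  have hadd1 : ∀ v b, (v = 0 ∨ b ∉ D v) → f (v + b) = f v + f b := by
    intro v b h
    by_cases hv : v = 0
    · rw [hv, zero_add, hz, zero_add]
    have hb := h.resolve_left hv
    obtain ⟨d, hd⟩ := S.big v b
    have i := (S.i3 hv hb hd).s23.s12
    have e1 := (S.key3 i (hE d v i.1 (S.nmem i)) (hE d b i.1 (S.nmem i.s23))).2
    exact S.uniq i.1 (S.nmem_add i) (hE d _ i.1 (S.nmem_add i)) e1
  have hadd : ∀ v b, f (v + b) = f v + f b := by
    intro v b
    by_cases h : v = 0 ∨ b ∉ D v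
    · exact hadd1 v b h
    push Not at h
    by_cases hb : b = 0
    · rw [hb, add_zero, hz, add_zero]
    obtain ⟨d, hd0⟩ := S.big v v
    have hd : d ∉ D v := fun h => hd0 (mem_sup_left h)
    have e1 := hadd1 v (b + d) (.inr fun h' => hd (by simpa using sub_mem h' h.2))
    have e2 := hadd1 b d (.inr (S.blk v b hb h.2 ▸ hd))
    have e3 := hadd1 (v + b) d (by
      by_cases h0 : v + b = 0
      · exact .inl h0
      · exact .inr (S.blk v _ h0 (add_mem (S.self v) h.2) ▸ hd))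
    rw [← add_assoc, e3, e2, ← add_assoc] at e1
    exact add_right_cancel e1
  refine ⟨AddMonoidHom.mk' f hadd, hf0, ?_⟩
  have : f u = t2 u := by simp [f, S.self u]
  change f u = u'
  rw [this]
  exact S.uniq (S.ne0 hc) (S.nsymm hu hc) (ht2 u) hcc.symm

/-- such a map with a zero is zero -/
theorem eq_zero {f : V →+ V} (hf : ∀ v, f v ∈ D v) {u : V} (hu : u ≠ 0) (h : f u = 0) (v : V) :
    f v = 0 := by
  have h1 : ∀ v, v ∉ D u → f v = 0 := fun v hv => by
    have h1 : u + v ∉ D v := fun h1 =>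
      S.nsymm hu hv (by simpa using sub_mem h1 (S.self v))
    exact S.eq0 h1 (hf v) (by simpa [h] using hf (u + v))
  by_cases hv : v ∈ D u
  · obtain ⟨d, hd0⟩ := S.big u u
    have hd : d ∉ D u := fun h => hd0 (mem_sup_left h)
    have := h1 (v + d) fun h' => hd (by simpa using sub_mem h' hv)
    rwa [map_add, h1 d hd, add_zero] at this
  · exact h1 v hv

end Spr

end H30.CkB
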