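import Cfsg.Agent.H53.CKSpec

/-! CK-I: the block case. -/

set_option autoImplicit false
set_option maxHeartbeats 400000

namespace H30.CkI

open Module Submodule H53.CK

universe u v

variable {F : Type u} [Field F] {V : Type v} [AddCommGroup V] [Module F V]

theorem sub_smul_mem [FiniteDimensional F V] {U W : Submodule F V} (h : U ≤ W) {t : V} (ht : t ∈ W)
    (htU : t ∉ U) (hr : finrank F W ≤ finrank F U + 1) {s : V} (hs : s ∈ W) :
    ∃ c : F, s - c • t ∈ U := by
  have h1 : U < U ⊔ F ∙ t := lt_of_le_of_ne le_sup_left fun e =>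
    htU (e ▸ mem_sup_right (mem_span_singleton_self t))
  have h2 := finrank_lt_finrank_of_lt h1
  have h3 : U ⊔ F ∙ t = W := eq_of_le_of_finrank_le
    (sup_le h ((span_singleton_le_iff_mem _ _).2 ht)) (by omega)
  rw [← h3] at hs
  obtain ⟨a, ha, b, hb, rfl⟩ := mem_sup.1 hs
  obtain ⟨c, rfl⟩ := mem_span_singleton.1 hb
  exact ⟨c, by simpa using ha⟩

theorem finrank_pair [FiniteDimensional F V] {x y : V} (h : Ind F x y) :
    finrank F (span F {x, y}) = 2 := by
  have h1 := finrank_sup_add_finrank_inf_eq (F ∙ x) (F ∙ y)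
  have h2 : (F ∙ x) ⊓ (F ∙ y) = ⊥ := disjoint_iff.1 ((disjoint_span_singleton' h.symm.1).2 h.2)
  rw [h2, finrank_span_singleton h.1, finrank_span_singleton h.symm.1, finrank_bot] at h1
  rw [span_insert]
  omega

variable {G : Subgroup (V ≃ₗ[F] V)} (T : TS G)

theorem wsymm {x y : V} (h : Ind F x y) : T.W y x = T.W x y :=
  T.congr x y y x h h.symm (subset_span (by simp)) (subset_span (by simp))

theorem pair_le {x y : V} (hx : x ≠ 0) : span F {x, y} ≤ T.W x y :=
  span_le.2 (by rintro t (rfl | rfl); exacts [T.left _ _, T.right _ _ hx])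

theorem lemL (hB : T.Blk) {x y a b : V} (hx : x ≠ 0) (ha : a ∈ T.W x y) (hb : b ∈ T.W x y)
    (hab : Ind F a b) : T.W a b = T.W x y := by
  by_cases h : a ∈ F ∙ x
  · have hbx : b ∉ F ∙ x := fun h' => hab.2 (by
      by_contra hc
      exact H62.notMem_span_symm hab.1 (fun e => hc
        ((span_singleton_le_iff_mem _ _).2 e h')) h)
    rw [← hB x y b hx hbx hb]
    exact T.congr x b a b ⟨hx, hbx⟩ hab (span_mono (by simp) h) (subset_span (by simp))
  · have e := (wsymm T ⟨hx, h⟩).trans (hB x y a hx h ha)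
    rw [← e] at hb ⊢
    exact hB a x b hab.1 hab.2 hb

theorem inf_eq (hB : T.Blk) {x y z : V} (hx : x ≠ 0) (hz : z ∉ T.W x y) :
    T.W x y ⊓ T.W x z = F ∙ x := by
  refine le_antisymm (fun t ht => ?_)
    ((span_singleton_le_iff_mem _ _).2 ⟨T.left _ _, T.left _ _⟩)
  by_contra h
  exact hz (by rw [← hB x y t hx h ht.1, hB x z t hx h ht.2]; exact T.right x z hx)

/-- the case `2 r = n + 1` -/
theorem caseA [Finite F] [FiniteDimensional F V] (hB : T.Blk) {r : ℕ}
    (rk : ∀ x y, Ind F x y → finrank F (T.W x y) = r) (h3 : 3 ≤ r)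
    (hn : finrank F V + 1 ≤ 2 * r) {x y z : V} (hxy : Ind F x y) (hz : z ∉ T.W x y) : False := by
  classical
  haveI : Finite V := Module.finite_of_finite F
  have hx := hxy.1
  have hyz : Ind F y z := ⟨hxy.symm.1, fun h =>
    hz ((span_singleton_le_iff_mem _ _).2 (T.right x y hx) h)⟩
  have hxD : x ∉ T.W y z := fun h => hz (by
    rw [lemL T hB hyz.1 h (T.left y z) hxy]; exact T.right y z hyz.1)
  have hone : ∀ t a b, a ∈ T.W y z → b ∈ T.W y z → a ∈ T.W x t → b ∈ T.W x t → a ≠ 0 →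
      b ∈ F ∙ a := fun t a b h1 h2 h3 h4 ha => by
    by_contra h
    exact hxD (by
      rw [← lemL T hB hyz.1 h1 h2 ⟨ha, h⟩, lemL T hB hx h3 h4 ⟨ha, h⟩]; exact T.left x t)
  obtain ⟨φ, hφ⟩ := H62.exists_dual_of_ne_zero (F := F) hx
  set B0 := T.W x y ⊓ LinearMap.ker φ with hB0
  have hB0r : finrank F B0 < r := by
    rw [← rk x y hxy]
    refine finrank_lt_finrank_of_lt (lt_of_le_of_ne inf_le_left fun e => ?_)
    have : x ∈ B0 := e ▸ T.left x y
    exact one_ne_zero (hφ.symm.trans this.2)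
  have hf : ∀ t, t ∈ T.W y z → t ∉ F ∙ y → ∃ s ∈ B0, z + s ∈ T.W x t := fun t h1 h2 => by
    have htB : t ∉ T.W x y := fun h => h2 (hone y y t (T.left y z) h1 (T.right x y hx) h hyz.1)
    have hxt : Ind F x t := ⟨hx, fun h =>
      htB ((span_singleton_le_iff_mem _ _).2 (T.left x y) h)⟩
    have e := finrank_sup_add_finrank_inf_eq (T.W x y) (T.W x t)
    rw [inf_eq T hB hx htB, finrank_span_singleton hx, rk x y hxy, rk x t hxt] at e
    have htop : T.W x y ⊔ T.W x t = ⊤ := eq_top_of_finrank_eq (le_antisymm (finrank_le _) (by omega))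
    obtain ⟨s, hs, s', hs', e'⟩ := mem_sup.1 (htop ▸ mem_top (x := z))
    refine ⟨-s + φ s • x, ⟨add_mem (neg_mem hs) (smul_mem _ _ (T.left x y)), by simp [hφ]⟩, ?_⟩
    have : z + (-s + φ s • x) = s' + φ s • x := by rw [← e']; abel
    rw [this]
    exact add_mem hs' (smul_mem _ _ (T.left x t))
  choose! f hf1 hf2 using hf
  have hc : ∀ U : Submodule F V, (U : Set V).ncard = Nat.card F ^ finrank F U := fun U => by
    rw [← natCard_eq_pow_finrank (K := F)]; rfl
  have hfib : ∀ s ∈ (B0 : Set V).toFinite.toFinset,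
      (((T.W y z : Set V) \ (F ∙ y : Submodule F V)).toFinite.toFinset.filter
        (fun t => f t = s)).card ≤ Nat.card F - 1 := by
    intro s hs
    rcases (((T.W y z : Set V) \ (F ∙ y : Submodule F V)).toFinite.toFinset.filter
        (fun t => f t = s)).eq_empty_or_nonempty with h | ⟨t0, ht0⟩
    · simp [h]
    simp only [Finset.mem_filter, Set.Finite.mem_toFinset, Set.mem_diff, SetLike.mem_coe] at ht0 hs
    have ht00 : t0 ≠ 0 := fun h => ht0.1.2 (h ▸ zero_mem _)
    have hzs : z + s ∉ F ∙ x := fun h => hz (by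
      simpa using sub_mem ((span_singleton_le_iff_mem _ _).2 (T.left x y) h) hs.1)
    have e1 : (((F ∙ t0 : Submodule F V) : Set V) \ {0}).ncard = Nat.card F - 1 := by
      rw [Set.ncard_diff_singleton_of_mem (zero_mem _), hc, finrank_span_singleton ht00, pow_one]
    rw [← e1, ← Set.ncard_coe_finset]
    refine Set.ncard_le_ncard (fun t ht => ?_) (Set.toFinite _)
    simp only [Finset.coe_filter, Set.Finite.mem_toFinset, Set.mem_diff, SetLike.mem_coe,
      Set.mem_setOf_eq] at ht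
    have a1 := hB x t (z + s) hx hzs (ht.2 ▸ hf2 t ht.1.1 ht.1.2)
    have a2 := hB x t0 (z + s) hx hzs (ht0.2 ▸ hf2 t0 ht0.1.1 ht0.1.2)
    exact ⟨hone t0 t0 t ht0.1.1 ht.1.1 (T.right x t0 hx) (by
      rw [← a2, a1]; exact T.right x t hx) ht00, fun h => ht.1.2 (by
        rw [Set.mem_singleton_iff.1 h]; exact zero_mem _)⟩
  have key := Finset.card_le_mul_card_image_of_maps_to (f := f)
    (s := ((T.W y z : Set V) \ (F ∙ y : Submodule F V)).toFinite.toFinset)
    (t := (B0 : Set V).toFinite.toFinset) (fun t ht => by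
      simp only [Set.Finite.mem_toFinset, Set.mem_diff, SetLike.mem_coe] at ht ⊢
      exact hf1 t ht.1 ht.2) _ hfib
  rw [← Set.ncard_eq_toFinset_card, ← Set.ncard_eq_toFinset_card, Set.ncard_diff
    (SetLike.coe_subset_coe.2 ((span_singleton_le_iff_mem _ _).2 (T.left y z))), hc, hc, hc,
    finrank_span_singleton hyz.1, rk y z hyz, pow_one] at key
  obtain ⟨k, rfl⟩ := Nat.exists_eq_add_of_le h3
  have hq : 2 ≤ Nat.card F := Finite.one_lt_card
  have h1 : Nat.card F ^ finrank F B0 ≤ Nat.card F ^ (2 + k) :=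
    Nat.pow_le_pow_right (by omega) (by omega)
  have h2 : Nat.card F ^ 2 ≤ Nat.card F ^ (2 + k) := Nat.pow_le_pow_right (by omega) (by omega)
  have h4 : Nat.card F ^ (3 + k) = Nat.card F * Nat.card F ^ (2 + k) := by ring
  rw [h4] at key
  obtain ⟨p, hp⟩ := Nat.exists_eq_add_of_le hq
  rw [hp] at key h1 h2
  have e : 2 + p - 1 = 1 + p := by omega
  rw [e] at key
  have h5 := key.trans (Nat.mul_le_mul_left _ h1)
  generalize (2 + p) ^ (2 + k) = N at h5 h2
  have h6 : (2 + p) * N ≤ (1 + p) * N + (2 + p) := by omega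
  nlinarith

/-- the case `2 r < n + 1` -/
theorem caseB [FiniteDimensional F V] (hB : T.Blk) (P : TF T 3) (hq : Nat.card F = 2)
    (hn : 6 ≤ finrank F V) (ω : V → V →ₗ[F] V) (hω : ∀ x, x ≠ 0 → ω x x = 0 ∧
      ∀ y, ω x y ∈ T.W x y ∧ ω x (ω x y) + ω x y + y ∈ F ∙ x) : False := by
  have hF : ∀ c : F, c = 0 ∨ c = 1 := fun c => by
    obtain ⟨y, -, hy⟩ := (Nat.card_eq_two_iff' (0 : F)).1 hq
    by_cases hc : c = 0
    · exact .inl hc
    · exact .inr ((hy c hc).trans (hy 1 one_ne_zero).symm)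
  have h11 : (1 + 1 : F) = 0 := (hF _).resolve_right (by simp)
  have hv : ∀ v : V, v + v = 0 := fun v => by
    rw [← one_smul F v, ← add_smul, h11, zero_smul]
  haveI : Nontrivial V := Module.nontrivial_of_finrank_pos (R := F) (by omega)
  obtain ⟨v0, hv0⟩ := exists_ne (0 : V)
  obtain ⟨φ, hφ1⟩ := H62.exists_dual_of_ne_zero (F := F) hv0
  have hφ : φ ≠ 0 := fun h => by simp [h] at hφ1
  have hH : finrank F (LinearMap.ker φ) + 1 = finrank F V := Module.Dual.finrank_ker_add_one_of_ne_zero hφ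
  choose! C hC hCr using fun x h1 h2 => P.circ x φ h1 hφ h2
  have hCH : ∀ x, x ≠ 0 → φ x = 0 → C x ≤ LinearMap.ker φ := fun x h1 h2 y hy =>
    (hC x h1 h2 y).1 hy (T.right x y h1)
  have hCs : ∀ x, x ≠ 0 → φ x = 0 → (F ∙ x) ≤ C x := fun x h1 h2 y hy =>
    (hC x h1 h2 y).2 (by rw [T.dep x y hy]; exact (span_singleton_le_iff_mem _ _).2 h2)
  have hsym : ∀ x a, x ≠ 0 → φ x = 0 → a ≠ 0 → a ∈ C x → x ∈ C a := fun x a h1 h2 h3 h4 => by
    have h5 : φ a = 0 := hCH x h1 h2 h4
    by_cases h : x ∈ F ∙ a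
    · exact hCs a h3 h5 h
    · exact (hC a h3 h5 x).2 (by rw [← wsymm T ⟨h3, h⟩]; exact (hC x h1 h2 a).1 h4)
  obtain ⟨x, hx2, hx'⟩ := H62.exists_mem_notMem (W := LinearMap.ker φ) (Z := ⊥)
    (by rw [finrank_bot]; omega)
  have hx : x ≠ 0 := by simpa using hx'
  obtain ⟨y, hy2, hyx⟩ := H62.exists_mem_notMem (W := LinearMap.ker φ) (Z := C x)
    (by have := hCr x hx hx2; omega)
  have hy : y ≠ 0 := fun h => hyx (h ▸ zero_mem _)
  have hxx := hCs x hx hx2 (mem_span_singleton_self x)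
  have hxyx : x + y ∉ C x := fun h => hyx (by simpa using sub_mem h hxx)
  have hxy : x + y ≠ 0 := fun h => hxyx (h ▸ zero_mem _)
  have hxy2 : φ (x + y) = 0 := add_mem hx2 hy2
  set A := C x ⊓ C y with hA
  have hAr : finrank F V ≤ finrank F A + 3 := by
    have h1 := finrank_sup_add_finrank_inf_eq (C x) (C y)
    have h2 := finrank_mono (sup_le (hCH x hx hx2) (hCH y hy hy2))
    have := hCr x hx hx2
    have := hCr y hy hy2
    rw [← hA] at h1
    omega
  have hA3 : A ≤ C (x + y) := fun a ha => by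
    by_cases h : a = 0
    · exact h ▸ zero_mem _
    · exact hsym a _ h (hCH x hx hx2 ha.1) hxy
        (add_mem (hsym x a hx hx2 h ha.1) (hsym y a hy hy2 h ha.2))
  have main : ∀ t, t ≠ 0 → φ t = 0 → t ∉ A → A ≤ C t → ∃ i : A →ₗ[F] A,
      (∀ a, i (i a) + i a + a = 0) ∧ ∀ a : A, a ≠ 0 → ∃ α β : F,
        ω a t = α • (a : V) + β • t + i a := by
    intro t ht ht2 htA hAt
    obtain ⟨l, hl1, hl0⟩ := H62.exists_dual_eq_one htA
    have hW : ∀ a ∈ A, T.W t a ≤ C t := fun a ha s hs => by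
      by_cases h : s ∈ F ∙ t
      · exact hCs t ht ht2 h
      · exact (hC t ht ht2 s).2 (by rw [hB t a s ht h hs]; exact (hC t ht ht2 a).1 (hAt ha))
    have hpr : ∀ s ∈ C t, s - l s • t ∈ A := fun s hs => by
      obtain ⟨c, hc⟩ := sub_smul_mem hAt (hCs t ht ht2 (mem_span_singleton_self t)) htA
        (by have := hCr t ht ht2; omega) hs
      have := hl0 _ hc
      rw [map_sub, map_smul, hl1, smul_eq_mul, mul_one, sub_eq_zero] at this
      rwa [this]
    let i : A →ₗ[F] A := (ω t - (l ∘ₗ ω t).smulRight t).restrict fun a ha =>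
      hpr _ (hW a ha ((hω t ht).2 a).1)
    have hi : ∀ a : A, (i a : V) = ω t a - l (ω t a) • t := fun a => rfl
    have hii : ∀ a, i (i a) + i a + a = 0 := fun a => by
      have h1 : ((i (i a) + i a + a : A) : V) ∈ F ∙ t := by
        have : ((i (i a) + i a + a : A) : V) = (ω t (ω t a) + ω t a + a) -
            (l (ω t (i a)) + l (ω t a)) • t := by
          rw [coe_add, coe_add, hi (i a), hi a, map_sub, map_smul, (hω t ht).1]
          module
        rw [this]
        exact sub_mem ((hω t ht).2 a).2 (smul_mem _ _ (mem_span_singleton_self t))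
      obtain ⟨c, hc⟩ := mem_span_singleton.1 h1
      have := hl0 _ (i (i a) + i a + a).2
      rw [← hc, map_smul, hl1, smul_eq_mul, mul_one] at this
      exact Subtype.ext (by rw [← hc, this, zero_smul]; rfl)
    refine ⟨i, hii, fun a ha => ?_⟩
    have ha' : (a : V) ≠ 0 := fun h => ha (Subtype.ext h)
    have hat : Ind F (a : V) t := ⟨ha', fun h => htA ((span_singleton_le_iff_mem _ _).2 a.2 h)⟩
    have h1 : (i a : V) ∈ T.W a t := by
      rw [← wsymm T hat, hi]
      exact sub_mem ((hω t ht).2 a).1 (smul_mem _ _ (T.left t a))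
    have h2 : (i a : V) ∉ span F {(a : V), t} := fun h => by
      obtain ⟨c, d, e⟩ := mem_span_pair.1 h
      have h3 := hl0 _ (i a).2
      rw [← e, map_add, map_smul, map_smul, hl0 _ a.2, hl1] at h3
      have hd : d = 0 := by simpa using h3
      have e' : i a = c • a := Subtype.ext (by rw [← e, hd]; simp)
      have h4 := hii a
      rw [e', map_smul, e'] at h4
      rcases hF c with rfl | rfl
      · exact ha (by simpa using h4)
      · have h5 := congrArg Subtype.val h4
        simp only [one_smul, coe_add, hv, zero_add] at h5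
        exact ha' h5
    obtain ⟨γ, hγ⟩ := sub_smul_mem (pair_le T ha') h1 h2
      (by rw [P.rk _ _ hat, finrank_pair hat]) ((hω a ha').2 t).1
    obtain ⟨α, β, e⟩ := mem_span_pair.1 hγ
    rcases hF γ with rfl | rfl
    · exfalso
      rw [zero_smul, sub_zero] at e
      have h3 := ((hω a ha').2 t).2
      have h4 : ω a (ω a t) = β • ω a t := by
        conv_lhs => rw [← e, map_add, map_smul, map_smul, (hω a ha').1, smul_zero, zero_add]
      rw [h4, ← e] at h3
      refine hat.2 ?_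
      have h5 : t = (β • (α • (a : V) + β • t) + (α • (a : V) + β • t) + t) -
          (β * α + α) • (a : V) := by
        rcases hF β with rfl | rfl
        · module
        · linear_combination (norm := module) - hv t
      rw [h5]
      exact sub_mem h3 (smul_mem _ _ (mem_span_singleton_self _))
    · exact ⟨α, β, by rw [e, one_smul, sub_add_cancel]⟩
  have hxA : x ∉ A := fun h => hyx (hsym y x hy hy2 hx h.2)
  have hyA : y ∉ A := fun h => hyx h.1
  have hxyA : x + y ∉ A := fun h => hxyx h.1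
  obtain ⟨i, hi, hi'⟩ := main x hx hx2 hxA inf_le_left
  obtain ⟨j, hj, hj'⟩ := main y hy hy2 hyA inf_le_right
  obtain ⟨k, hk, hk'⟩ := main (x + y) hxy hxy2 hxyA hA3
  haveI : Nontrivial A := Module.nontrivial_of_finrank_pos (R := F) (by omega)
  obtain ⟨a0, ha0⟩ := exists_ne (0 : A)
  refine ha0 (ijk hq hi hj hk (fun a => ?_) a0)
  by_cases ha : a = 0
  · simp [ha]
  obtain ⟨α1, β1, e1⟩ := hi' a ha
  obtain ⟨α2, β2, e2⟩ := hj' a ha
  obtain ⟨α3, β3, e3⟩ := hk' a ha
  rw [map_add, e1, e2] at e3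
  have h1 : (β1 - β3) • x + (β2 - β3) • y =
      (((α3 - α1 - α2) • a + (k a - i a - j a) : A) : V) := by
    simp only [coe_add, coe_smul, Submodule.coe_sub]
    linear_combination (norm := module) e3
  have h2 : (β1 - β3) • x + (β2 - β3) • y = 0 := by
    have h3 : (β1 - β3) • x + (β2 - β3) • y ∈ A := h1 ▸ Subtype.property _
    rcases hF (β1 - β3) with h4 | h4 <;> rcases hF (β2 - β3) with h5 | h5 <;>
      rw [h4, h5] at h3 ⊢ <;> simp only [zero_smul, one_smul, zero_add, add_zero] at h3 ⊢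
    exacts [absurd h3 hyA, absurd h3 hxA, absurd h3 hxyA]
  refine mem_span_singleton.2 ⟨α3 - α1 - α2, Subtype.ext ?_⟩
  rw [h2] at h1
  simp only [coe_add, coe_smul, Submodule.coe_sub] at h1 ⊢
  linear_combination (norm := module) -h1 - hv (k a : V)

theorem jobI : JobI.{u, v} := by
  intro F _ _ V _ _ _ G T r P h2 hr hB
  haveI : Nontrivial V := Module.nontrivial_of_finrank_pos (R := F) (by omega)
  obtain ⟨x, hx⟩ := exists_ne (0 : V)
  obtain ⟨y, hxy⟩ := exists_ind h2 hx
  have h3 : 3 ≤ r := by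
    obtain ⟨z, hz, hz'⟩ := T.nt x y hxy
    have := finrank_lt_finrank_of_lt (lt_of_le_of_ne (pair_le T hx) fun e => hz' (e ▸ hz))
    rw [finrank_pair hxy, P.rk x y hxy] at this
    omega
  by_cases hn : 2 * r < finrank F V + 1
  · obtain ⟨hq, rfl, hω⟩ := P.four hB hn
    choose! ω hω using hω
    exact caseB T hB P hq (by omega) ω hω
  · obtain ⟨z, -, hz⟩ := H62.exists_mem_notMem (W := ⊤) (Z := T.W x y)
      (by rw [finrank_top, P.rk x y hxy]; exact hr)
    exact caseA T hB P.rk h3 (by omega) hxy hz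

end H30.CkI
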