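import Cfsg.Agent.H92.DP0BSpec
import Cfsg.Agent.H1.CoprimeGen

/-! S3275, chapter U0, section B: the homes of the lines of `E`. -/

set_option autoImplicit false

namespace H30.DPB

open Subgroup Cfsg H98 H48.DP H57.DPC H48.DP2 H92.DPB

universe u

variable {G : Type u} [Group G]

theorem cj_c1 (m x : G) : cj m (C1 x) = C1 (m * x * m⁻¹) := by
  ext g
  rw [mem_cj, mem_centralizer_singleton_iff, mem_centralizer_singleton_iff]
  constructor
  · intro e
    calc g * (m * x * m⁻¹) = m * (m⁻¹ * g * m * x) * m⁻¹ := by group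
      _ = _ := by rw [e]; group
  · intro e
    calc m⁻¹ * g * m * x = m⁻¹ * (g * (m * x * m⁻¹)) * m := by group
      _ = _ := by rw [e]; group

theorem c1_inv (x : G) : C1 x⁻¹ = C1 x := by
  ext g
  rw [mem_centralizer_singleton_iff, mem_centralizer_singleton_iff]
  exact Commute.inv_right_iff

theorem nf {x a : G} (hx : x ^ 3 = 1) (ha : a ∈ zpowers x) : a = 1 ∨ a = x ∨ a = x⁻¹ := by
  obtain ⟨i, rfl⟩ := ha
  have h3 : x ^ (3 : ℤ) = 1 := by exact_mod_cast hx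
  have h1 : ∀ k j : ℤ, x ^ (3 * k + j) = x ^ j := fun k j => by
    rw [zpow_add, zpow_mul, h3, one_zpow, one_mul]
  obtain ⟨k, rfl | rfl | rfl⟩ : ∃ k, i = 3 * k + 0 ∨ i = 3 * k + 1 ∨ i = 3 * k + -1 :=
    ⟨(i + 1) / 3, by omega⟩
  · exact .inl ((h1 _ _).trans (zpow_zero x))
  · exact .inr (.inl ((h1 _ _).trans (zpow_one x)))
  · exact .inr (.inr ((h1 _ _).trans (zpow_neg_one x)))

theorem jobB1 : H92.DPB.JobB1.{u} := by
  intro iso G _ _ M Q P x z v r h
  have : Fact (Nat.Prime 2) := ⟨Nat.prime_two⟩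
  have : Fact (Nat.Prime 3) := ⟨Nat.prime_three⟩
  have x3 : x ^ 3 = 1 := h.x3 ▸ pow_orderOf_eq_one x
  have z3 : z ^ 3 = 1 := h.z3 ▸ pow_orderOf_eq_one z
  have xz : Commute x z := mem_centralizer_singleton_iff.1 (h.Pz h.xP)
  have vz : v * z * v⁻¹ = z := mul_inv_eq_iff_eq_mul.2 (mem_centralizer_singleton_iff.1 (h.Pz h.vP))
  obtain ⟨hE, c9⟩ := e9 h.x3 h.z3 xz h.xz
  have hn : zpowers x ≤ No (zpowers z) := le_normalizer_of_le_centralizer (by
    rintro _ ⟨i, rfl⟩ _ ⟨j, rfl⟩; exact (xz.zpow_zpow i j).symm.eq)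
  have sp := fun e => (mem_sup_left_norm hn (x := e)).1
  have le : ∀ {L : Subgroup G}, x ∈ L → z ∈ L → zpowers x ⊔ zpowers z ≤ L := fun h1 h2 =>
    sup_le (zpowers_le.2 h1) (zpowers_le.2 h2)
  have xE : x ∈ zpowers x ⊔ zpowers z := mem_sup_left (mem_zpowers x)
  have zE : z ∈ zpowers x ⊔ zpowers z := mem_sup_right (mem_zpowers z)
  have bad : ¬ InU M (zpowers x ⊔ zpowers z) := fun ⟨B, h1, h2, h3⟩ =>
    h.bad ⟨B, h1, h2, le_sup_left.trans h3⟩
  have is0 := iso G M Q P x z h.toUa h.PM h.xP h.zP h.Pz h.x3 h.z3 h.xz bad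
  have rE := h.rE
  have vE : v ∈ No (zpowers x ⊔ zpowers z) := mem_normalizer_of_cj_le (by
    rw [cj_le_iff]
    refine le (mem_cj.2 ?_) (mem_cj.2 ?_)
    · rw [inv_inv, h.vx]; exact mul_mem xE zE
    · rw [inv_inv, vz]; exact zE)
  generalize zpowers x ⊔ zpowers z = E at *
  have EM : E ≤ M := le (h.PM h.xP) (h.PM h.zP)
  have hQ : IsPGroup 2 Q := h.o2 ▸ isPGroup_pCoreOf M
  have EQ : E ≤ No Q := h.no ▸ EM
  have is : ∀ X : Subgroup G, X ≤ M → IsPGroup 2 X → E ≤ No X → X ≤ Q := fun X h1 h2 h3 =>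
    is0 X h1 h2 (h3 xE) (h3 zE)
  have zz : z * z = z⁻¹ := eq_inv_of_mul_eq_one_left (by rw [← z3, pow_succ, sq])
  have v2 : v * v * x * (v * v)⁻¹ = x * z⁻¹ := by
    calc v * v * x * (v * v)⁻¹ = v * (v * x * v⁻¹) * v⁻¹ := by group
      _ = v * (x * z) * v⁻¹ := by rw [h.vx]
      _ = v * x * v⁻¹ * (v * z * v⁻¹) := by group
      _ = x * z⁻¹ := by rw [h.vx, vz, mul_assoc, zz]
  have vM := h.PM h.vP
  have orb : ∀ e ∈ E, e ∉ zpowers z → ∃ m ∈ M, m ∈ No E ∧ cj m (C1 x) = C1 e := fun e he e1 => by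
    obtain ⟨a, ha, b, hb, rfl⟩ := sp e he
    rcases nf x3 ha with rfl | rfl | rfl
    · exact absurd (by rwa [one_mul]) e1
    · rcases nf z3 hb with rfl | rfl | rfl
      · exact ⟨1, one_mem _, one_mem _, by rw [cj_one, mul_one]⟩
      · exact ⟨v, vM, vE, by rw [cj_c1, h.vx]⟩
      · exact ⟨v * v, mul_mem vM vM, mul_mem vE vE, by rw [cj_c1, v2]⟩
    · rcases nf z3 hb with rfl | rfl | rfl
      · exact ⟨1, one_mem _, one_mem _, by rw [cj_one, mul_one, c1_inv]⟩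
      · exact ⟨v * v, mul_mem vM vM, mul_mem vE vE, by
          rw [cj_c1, v2, ← c1_inv, mul_inv_rev, inv_inv, xz.inv_left.eq]⟩
      · exact ⟨v, vM, vE, by rw [cj_c1, h.vx, ← c1_inv, mul_inv_rev, xz.inv_inv.eq]⟩
  obtain ⟨n, nE, hn0⟩ : ∃ n ∈ No E, cj n (C1 z) = C1 x := by
    obtain ⟨m, -, m1, m2⟩ := orb _ ((mem_normalizer_iff.1 rE z).1 zE) h.rz
    exact ⟨m⁻¹ * r, mul_mem (inv_mem m1) rE, by rw [← cj_cj, cj_c1, ← m2, cj_inv_cj]⟩
  have nor : ∀ {m : G} {X : Subgroup G}, m ∈ No E → E ≤ No X → E ≤ No (cj m X) :=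
    fun {m X} h1 h2 => by
      rw [No, ← cj_normalizer, ← cj_eq_self h1]
      exact cj_mono m h2
  have home : ∀ m ∈ No E, ∀ X : Subgroup G, X ≤ cj m (C1 z) → IsPGroup 2 X → E ≤ No X →
      X ≤ cj m Q := fun m hm X h1 h2 h3 =>
    le_cj_iff.2 (is _ ((le_cj_iff.1 h1).trans h.cz) (isPGroup_cj _ h2) (nor (inv_mem hm) h3))
  refine ⟨fun e he e1 => ?_, Q, cj n Q, hQ, isPGroup_cj n hQ, EQ, nor nE EQ, fun hT => ?_,
    fun h0 => ?_⟩
  · obtain ⟨m, m1, m2⟩ : ∃ m ∈ No E, cj m (C1 z) = C1 e := by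
      by_cases ez : e ∈ zpowers z
      · rcases nf z3 ez with rfl | rfl | rfl
        · exact absurd rfl e1
        · exact ⟨1, one_mem _, cj_one _⟩
        · exact ⟨1, one_mem _, by rw [cj_one, c1_inv]⟩
      · obtain ⟨m, -, m1, m2⟩ := orb e he ez
        exact ⟨m * n, mul_mem m1 nE, by rw [← cj_cj, hn0, m2]⟩
    exact ⟨cj m Q, isPGroup_cj m hQ, fun X h1 => home m m1 X (m2 ▸ h1)⟩
  · have h1 : (Q ⊔ cj n Q) ⊓ M ≤ Q := is _ inf_le_right (hT.to_le inf_le_left)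
      (le_normalizer_inf (le_normalizer_sup EQ (nor nE EQ)) (EM.trans le_normalizer))
    have h2 : Q = Q ⊔ cj n Q := by
      by_contra h3
      exact (lt_inf_normalizer hT (lt_of_le_of_ne le_sup_left h3)).not_ge
        ((inf_le_inf_left _ h.no.le).trans h1)
    have h3 : n ∈ M := h.no ▸ mem_normalizer_of_cj_le (le_sup_right.trans h2.ge)
    obtain ⟨B, hB, xB⟩ := h.good
    refine h.bad ⟨B, fun b hb => ?_, hB, zpowers_le.2 xB⟩
    exact cj_le_of_le_of_mem h.cz h3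
      (hn0 ▸ mem_centralizer_singleton_iff.2 (el_comm hB.1 hb xB).eq)
  · have h1 : Q ⊓ C1 x = ⊥ := eq_bot_iff.2 (h0 ▸ le_inf inf_le_left (home n nE _
      (hn0 ▸ inf_le_right) (hQ.to_le inf_le_left) (le_normalizer_inf EQ (le_trans
        (fun e he => mem_centralizer_singleton_iff.2 (el_comm hE he xE).eq) le_normalizer))))
    have := hE.1
    have h2 : Q ≤ C1 z := H1.le_of_noncyclic_centralizer_le (A := E) (fun hc => by
        have e := hc.exponent_eq_card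
        have := Nat.le_of_dvd (by norm_num) (Monoid.exponent_dvd_of_forall_pow_eq_one (G := E)
          fun g => Subtype.ext (hE.2 g g.2))
        omega) EQ (IsPGroup.coprime_card_of_ne 3 2 (by norm_num) _ _ (el_pg hE) hQ) _
      fun e he e1 => by
        by_cases ez : e ∈ zpowers z
        · rcases nf z3 ez with rfl | rfl | rfl
          · exact absurd rfl e1
          · exact inf_le_right
          · exact inf_le_right.trans (c1_inv z).le
        · obtain ⟨m, m0, -, m2⟩ := orb e he ez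
          change Q ⊓ C1 e ≤ _
          rw [← m2, ← cj_eq_self (H := Q) (h.no ▸ m0 : m ∈ No Q), ← cj_inf, h1, cj_bot]
          exact bot_le
    have h3 : z ∈ Q := h.cq fun q hq => mem_centralizer_singleton_iff.1 (h2 hq)
    obtain ⟨k, hk⟩ := hQ ⟨z, h3⟩
    have h4 : orderOf z ∣ 2 ^ k := orderOf_dvd_of_pow_eq_one (congrArg Subtype.val hk)
    rw [h.z3] at h4
    exact absurd (Nat.prime_three.dvd_of_dvd_pow h4) (by norm_num)

end H30.DPB
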