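import Cfsg.Agent.H40.E7Spec
import Cfsg.Agent.H87.Simple
import Cfsg.Agent.H91.OrdG
import Cfsg.Agent.S1162

/-! E7S-SZ: `Sz(8)` is `(2,5,5)`-generated. -/

set_option autoImplicit false

open Matrix Cfsg H40.E7S

namespace H30.E7

universe u

section run

variable {M : Type*} [Monoid M] [DecidableEq M] {m : ℕ → M} {G : Type*} [Group G] {ι : G →* M}

/-- a checked chain of products -/
def Run (m : ℕ → M) : ℕ → List (ℕ × ℕ) → ℕ → Bool
  | s, [], r => s == r
  | s, p :: l, r => decide (m s * m p.1 = m p.2) && Run m p.2 l r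

theorem run_spec : ∀ {l : List (ℕ × ℕ)} {s r : ℕ}, Run m s l r = true →
    m s * (l.map fun p => m p.1).prod = m r
  | [], s, r, h => by simpa [Run] using congrArg m (beq_iff_eq.1 h)
  | p :: l, s, r, h => by
    simp only [Run, Bool.and_eq_true, decide_eq_true_eq] at h
    rw [List.map_cons, List.prod_cons, ← mul_assoc, h.1, run_spec h.2]

theorem run_word {u x : G} {I U X r : ℕ} (hI : m I = 1) (hu : ι u = m U) (hx : ι x = m X)
    (l : List (ℕ × ℕ)) (h : Run m I l r = true) (hl : ∀ p ∈ l, p.1 = U ∨ p.1 = X) :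
    ∃ g ∈ Subgroup.closure {u, x}, ι g = m r := by
  rw [← run_spec h, hI, one_mul]
  clear h
  induction l with
  | nil => exact ⟨1, one_mem _, by simp⟩
  | cons p l ih =>
    obtain ⟨g, hg, e⟩ := ih fun q hq => hl q (List.mem_cons_of_mem _ hq)
    rcases hl p List.mem_cons_self with k | k
    · exact ⟨u * g, mul_mem (Subgroup.subset_closure (by simp)) hg, by simp [e, hu, k]⟩
    · exact ⟨x * g, mul_mem (Subgroup.subset_closure (by simp)) hg, by simp [e, hx, k]⟩

theorem run_pow (hι : Function.Injective ι) {g : G} {I a : ℕ} (hI : m I = 1) (hg : ι g = m a)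
    (l : List ℕ) (h : Run m I (l.map fun t => (a, t)) I = true) : g ^ l.length = 1 := by
  have := run_spec h
  rw [hI, one_mul, List.map_map] at this
  apply hι
  rw [map_pow, map_one, hg, ← this]
  exact (List.prod_replicate _ _).symm.trans (congrArg List.prod (List.map_const ..).symm)

theorem run_ord (hι : Function.Injective ι) {g : G} {I a : ℕ} (hI : m I = 1) (hg : ι g = m a)
    (l : List ℕ) (h : Run m I (l.map fun t => (a, t)) I = true) (h1 : m a ≠ 1) (hp : l.length.Prime) :
    orderOf g = l.length :=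
  haveI := Fact.mk hp
  orderOf_eq_prime (run_pow hι hI hg l h) fun e => h1 (by rw [← hg, e, map_one])

theorem eight_dvd [Finite G] {H : Subgroup G} {a b : G} (ha : a ∈ H) (hb : b ∈ H) (h4 : a ^ 4 = 1)
    (h2 : a ^ 2 ≠ 1) (hb2 : b ^ 2 = 1) (hc : Commute a b) (h1 : b ≠ 1) (h3 : b ≠ a ^ 2) :
    8 ∣ Nat.card H := by
  classical
  have oa : orderOf a = 2 ^ 2 := orderOf_eq_prime_pow (p := 2) (n := 1) h2 h4
  have ob : orderOf b = 2 := orderOf_eq_prime hb2 h1
  have hp : IsPGroup 2 (Subgroup.zpowers a ⊔ Subgroup.zpowers b : Subgroup G) :=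
    IsPGroup.to_sup_of_normal_left' (IsPGroup.of_card (n := 2) (by rw [Nat.card_zpowers, oa]))
      (IsPGroup.of_card (n := 1) (by rw [Nat.card_zpowers, ob, pow_one]))
      (Subgroup.zpowers_le.2 (Subgroup.centralizer_le_normalizer _ (by
        rintro _ ⟨k, rfl⟩
        exact (hc.zpow_left k).eq)))
  obtain ⟨k, hk⟩ := IsPGroup.iff_card.1 hp
  refine Dvd.dvd.trans ?_ (Subgroup.card_dvd_of_le
    (sup_le (Subgroup.zpowers_le.2 ha) (Subgroup.zpowers_le.2 hb)))
  rw [hk]
  refine pow_dvd_pow 2 (show 3 ≤ k from not_lt.1 fun hk3 => ?_)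
  have e : Subgroup.zpowers a = Subgroup.zpowers a ⊔ Subgroup.zpowers b :=
    Subgroup.eq_of_le_of_card_ge le_sup_left (by
      rw [hk, Nat.card_zpowers, oa]; exact Nat.pow_le_pow_right (by norm_num) (by omega))
  have hm : b ∈ Subgroup.zpowers a := e ▸ Subgroup.mem_sup_right (Subgroup.mem_zpowers b)
  obtain ⟨i, hi, rfl⟩ := Finset.mem_image.1 (mem_zpowers_iff_mem_range_orderOf.1 hm)
  rw [oa, Finset.mem_range] at hi
  interval_cases i
  · exact h1 (pow_zero a)
  · exact h2 (by rwa [pow_one] at hb2)
  · exact h3 rfl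
  · exact h2 (by rwa [← pow_mul, show 3 * 2 = 4 + 2 from rfl, pow_add, h4, one_mul] at hb2)

theorem cfg_congr {G' : Type*} [Group G'] (e : G ≃* G') (h : Cfg255 G) : Cfg255 G' := by
  obtain ⟨u, x, h1, h2, h3, h4⟩ := h
  refine ⟨e u, e x, by rw [← map_pow, h1, map_one], by rwa [MulEquiv.orderOf_eq],
    by rwa [← map_mul, MulEquiv.orderOf_eq], ?_⟩
  have := congrArg (Subgroup.map e.toMonoidHom) h4
  rwa [MonoidHom.map_closure, Set.image_pair, Subgroup.map_top_of_surjective _ e.surjective] at this

end run

/-- The field with eight elements, `ω³ = ω + 1`. -/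
def F8 : Type := ZMod 2 × ZMod 2 × ZMod 2

instance : DecidableEq F8 := inferInstanceAs (DecidableEq (ZMod 2 × ZMod 2 × ZMod 2))
instance : Fintype F8 := inferInstanceAs (Fintype (ZMod 2 × ZMod 2 × ZMod 2))
instance : AddCommGroup F8 := inferInstanceAs (AddCommGroup (ZMod 2 × ZMod 2 × ZMod 2))

/-- multiplication -/
def F8.mul (x y : F8) : F8 :=
  (x.1 * y.1 + x.2.1 * y.2.2 + x.2.2 * y.2.1,
    x.1 * y.2.1 + x.2.1 * y.1 + x.2.1 * y.2.2 + x.2.2 * y.2.1 + x.2.2 * y.2.2,
    x.1 * y.2.2 + x.2.1 * y.2.1 + x.2.2 * y.1 + x.2.2 * y.2.2)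

instance : Mul F8 := ⟨F8.mul⟩
instance : One F8 := ⟨((1, 0, 0) : ZMod 2 × ZMod 2 × ZMod 2)⟩

instance : CommRing F8 :=
  { (inferInstance : AddCommGroup F8) with
    mul_assoc := by decide +kernel
    one_mul := by decide +kernel
    mul_one := by decide +kernel
    left_distrib := by decide +kernel
    right_distrib := by decide +kernel
    zero_mul := by decide +kernel
    mul_zero := by decide +kernel
    mul_comm := by decide +kernel }

instance : Field F8 :=
  { (inferInstance : CommRing F8) with
    inv := fun x => x * x * (x * x) * (x * x)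
    exists_pair_ne := ⟨0, 1, by decide +kernel⟩
    mul_inv_cancel := by decide +kernel
    inv_zero := by decide +kernel
    nnqsmul := _
    nnqsmul_def := fun _ _ => rfl
    qsmul := _
    qsmul_def := fun _ _ => rfl }

theorem card_F8 : Fintype.card F8 = 2 ^ (2 * 1 + 1) := by decide +kernel

/-- the element with the given bits -/
def e8 (n : ℕ) : F8 := (((n : ℕ) : ZMod 2), ((n / 2 : ℕ) : ZMod 2), ((n / 4 : ℕ) : ZMod 2))

/-- the matrix with the given code -/
def m8 (N : ℕ) : Matrix (Fin 4) (Fin 4) F8 := Matrix.of fun i j => e8 (N / 8 ^ (4 * i.val + j.val))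

/-- the identity -/
abbrev I : ℕ := 35185445863425
/-- the involution -/
abbrev U : ℕ := 68853957120
/-- the element of order five -/
abbrev X : ℕ := 193727316990225

theorem alt_eq (u v : Fin 4 → F8) : Lie.altForm4 u v = u ⬝ᵥ m8 U *ᵥ v := by
  rw [show m8 U = !![0, 0, 0, 1; 0, 0, 1, 0; 0, 1, 0, 0; 1, 0, 0, 0] by decide +kernel]
  simp [Lie.altForm4, dotProduct, mulVec, Fin.sum_univ_four]

theorem exists_sz (a b c : ℕ) (h1 : m8 a * m8 b = 1) (h2 : (m8 a)ᵀ * m8 U = m8 c) (h3 : m8 c * m8 a = m8 U)
    (h4 : Lie.star4 (m8 a) = (m8 a).map fun x => x * x * (x * x)) :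
    ∃ g : Lie.Sz F8 (2 ^ (1 + 1)), g.val.val = m8 a :=
  ⟨⟨⟨m8 a, m8 b, h1, mul_eq_one_comm.1 h1⟩, Subgroup.subset_closure ⟨fun u v => by
    change Lie.altForm4 (m8 a *ᵥ u) (m8 a *ᵥ v) = _
    rw [alt_eq, alt_eq, mulVec_mulVec, ← vecMul_transpose, ← dotProduct_mulVec, mulVec_mulVec, ← mul_assoc,
      h2, h3], h4.trans (congrArg _ (funext fun x => by ring))⟩⟩, rfl⟩

theorem cfg8 : Cfg255 (Lie.Sz F8 (2 ^ (1 + 1))) := by
  have hS := Cfsg.Agent.S1162.result (F := F8) le_rfl card_F8
  have hN : Nat.card (Lie.Sz F8 (2 ^ (1 + 1))) = 29120 := H5.sz_card le_rfl card_F8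
  let ι : Lie.Sz F8 (2 ^ (1 + 1)) →* Matrix (Fin 4) (Fin 4) F8 := (Units.coeHom _).comp (Subgroup.subtype _)
  have hι : Function.Injective ι := fun a b e => Subtype.ext (Units.ext e)
  have hI : m8 I = 1 := by decide +kernel
  obtain ⟨u, hu⟩ := exists_sz U U I (by decide +kernel) (by decide +kernel) (by decide +kernel)
    (by decide +kernel)
  obtain ⟨x, hx⟩ := exists_sz X 43657814821317 171904796066427 (by decide +kernel) (by decide +kernel) (by decide +kernel)
    (by decide +kernel)
  change ι u = _ at hu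
  change ι x = _ at hx
  have o5 : orderOf x = 5 := run_ord hι hI hx
    [193727316990225, 413375026901, 202195122259456, 43657814821317, 35185445863425] (by decide +kernel) (by decide +kernel) (by decide)
  refine ⟨u, x, run_pow hι hI hu [U, I] (by decide +kernel), o5, run_ord hι hI (a := 159560603695875)
    (by rw [map_mul, hu, hx]; decide +kernel)
    [159560603695875, 101026829950900, 165398784536202, 136962658355772, 35185445863425] (by decide +kernel) (by decide +kernel) (by decide), ?_⟩
  obtain ⟨w7, mw7, ew7⟩ := run_word (r := 120195280793606) hI hu hx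
    [(U, 68853957120), (X, 159560603695875), (X, 120195280793606)] (by decide +kernel) (by decide +kernel)
  obtain ⟨w13, mw13, ew13⟩ := run_word (r := 36758185397905) hI hu hx
    [(U, 68853957120), (X, 159560603695875), (U, 46466579236389), (X, 101026829950900), (X,
    250913651845308), (X, 36758185397905)] (by decide +kernel) (by decide +kernel)
  obtain ⟨a, ma, ea⟩ := run_word (r := 115928841121229) hI hu hx
    [(X, 193727316990225), (U, 108160969700004), (X, 276273723229630), (X, 153662760828483), (U,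
    172954716513807), (X, 37565210883379), (U, 88074980001698), (X, 187352068975991), (X,
    120637110385718), (X, 68685573539313), (U, 267828868584378), (X, 60834505566746), (X,
    115928841121229)] (by decide +kernel) (by decide +kernel)
  obtain ⟨b, mb, eb⟩ := run_word (r := 251419619499055) hI hu hx
    [(U, 68853957120), (X, 159560603695875), (X, 120195280793606), (X, 105583186512766), (X,
    171904796066427), (U, 180086167939017), (X, 75812701441862), (U, 251419619499055)] (by decide +kernel) (by decide +kernel)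
  have o7 : orderOf w7 = 7 := run_ord hι hI ew7
    [120195280793606, 187336675684354, 173522852864007, 273025484386308, 101571614679045,
    244993021325315, 35185445863425] (by decide +kernel) (by decide +kernel) (by decide)
  have o13 : orderOf w13 = 13 := run_ord hι hI ew13
    [36758185397905, 238303947103313, 163214518463142, 35856388842980, 102528488291729, 206797991250,
    100284814330880, 51907949231162, 171081196405937, 224268432890564, 43108339084342,
    56507447414585, 35185445863425] (by decide +kernel) (by decide +kernel) (by decide)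
  have d8 := eight_dvd ma mb (run_pow hι hI ea [115928841121229, 163243392783588, 203282058816763, 35185445863425] (by decide +kernel))
    (fun e => absurd (congrArg ι e) (by rw [pow_two a, map_mul, map_one, ea]; decide +kernel))
    (run_pow hι hI eb [251419619499055, 35185445863425] (by decide +kernel))
    (hι (by rw [map_mul, map_mul, ea, eb]; decide +kernel))
    (fun e => absurd (congrArg ι e) (by rw [map_one, eb]; decide +kernel))
    (fun e => absurd (congrArg ι e) (by rw [pow_two a, map_mul, ea, eb]; decide +kernel))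
  have d5 := o5 ▸ Subgroup.orderOf_dvd_natCard _ (Subgroup.subset_closure (k := {u, x}) (by simp) : x ∈ _)
  have d7 := o7 ▸ Subgroup.orderOf_dvd_natCard _ mw7
  have d13 := o13 ▸ Subgroup.orderOf_dvd_natCard _ mw13
  by_contra hH
  have hc : ¬ IsMulCommutative (Lie.Sz F8 (2 ^ (1 + 1))) := fun h =>
    absurd (congrArg ι (h.is_comm.comm u x)) (by rw [map_mul, map_mul, hu, hx]; decide +kernel)
  have h1 := H87.two_mul_card_dvd_factorial hc _ hH
  have h2 := (Subgroup.closure {u, x}).card_mul_index
  rw [hN] at h1 h2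
  have h3 : 3640 ∣ Nat.card (Subgroup.closure {u, x}) := by omega
  obtain ⟨c, hc⟩ := h3
  have h4 : (Subgroup.closure {u, x}).index ≤ 8 := by
    rw [hc] at h2
    rcases c with _ | c
    · omega
    · nlinarith
  exact absurd (h1.trans (Nat.factorial_dvd_factorial h4)) (by decide)

theorem jobSz : JobSz.{u} := fun F _ _ h =>
  cfg_congr (H91.OrdG.sz_congr (F := F) (m := 1) le_rfl card_F8 h).some cfg8

end H30.E7
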