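import Cfsg.Agent.H44.DP0EPSpec

/-! S3275, chapter EP: a central element of `S` outside `S ^ g`. -/

set_option autoImplicit false

namespace H30.EP

open Subgroup Cfsg H98 H48.DP H57.DPC H48.DP2
open scoped commutatorElement

universe u

theorem ce_conj {G : Type u} [Group G] {S : Subgroup G} {n v : G} (hn : n ∈ No S)
    (hv : v ∈ Ce S) : n * v * n⁻¹ ∈ Ce S := fun x hx => by
  have h1 := hv _ ((mem_normalizer_iff.1 (inv_mem hn) x).1 hx)
  calc x * (n * v * n⁻¹) = n * (n⁻¹ * x * n⁻¹⁻¹ * v) * n⁻¹ := by group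
    _ = n * v * n⁻¹ * x := by rw [h1]; group

theorem jobE6 : H44.EP.E6.{u} := by
  intro G _ _ T S y t g h
  have : Fact (Nat.Prime 2) := ⟨Nat.prime_two⟩
  have y3 : y ^ 3 = 1 := h.y3 ▸ pow_orderOf_eq_one y
  have fp : ∀ w ∈ S, Commute y w → w = 1 := fun w hw e =>
    h.fp.fpf 1 (one_mem S) w hw (by rwa [one_mul])
  obtain ⟨v, vS, vC, vt⟩ : ∃ v ∈ S, v ∈ Ce S ∧ ¬ Commute v t := by
    by_contra! hc
    have : Nontrivial S := (nontrivial_iff_ne_bot S).2 h.nt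
    have := (h.two.to_le h.le).center_nontrivial
    obtain ⟨⟨⟨w, wS⟩, hw⟩, w1⟩ := exists_ne (1 : center S)
    have wC : w ∈ Ce S := fun x hx => congrArg Subtype.val (mem_center_iff.1 hw ⟨x, hx⟩)
    have h1 := hc w wS wC
    have h2 := hc _ ((mem_normalizer_iff.1 (inv_mem h.yS) w).1 wS) (ce_conj (inv_mem h.yS) wC)
    have h3 : Commute w (y * t * y⁻¹) := by
      have := h2.eq
      calc w * (y * t * y⁻¹) = y * (y⁻¹ * w * y⁻¹⁻¹ * t) * y⁻¹ := by group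
        _ = y * t * y⁻¹ * w := by rw [this]; group
    have h4 : t⁻¹ * (y * t * y⁻¹) = y := by
      calc t⁻¹ * (y * t * y⁻¹) = t⁻¹ * (t * y * t⁻¹)⁻¹ * t * y⁻¹ := by rw [h.ty, inv_inv]; group
        _ = (y ^ 3)⁻¹ * y := by group
        _ = y := by rw [y3, inv_one, one_mul]
    exact w1 (Subtype.ext (Subtype.ext (fp w wS (h4 ▸ h1.inv_right.mul_right h3).symm)))
  refine ⟨v, vS, vC, vt, fun hv => ?_⟩
  have le1 : cj g S ≤ T ⊓ No S := cj_le_of_le (le_inf h.le le_normalizer) h.gN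
  obtain ⟨b, b1, b2⟩ : ∃ b ∈ cj g S, b ∉ S := by
    by_contra! hc
    exact h.gS (mem_normalizer_of_cj_le hc)
  have zC : ⁅v, t⁆ ∈ Ce S := by
    have := mul_mem vC (ce_conj h.tN (inv_mem vC))
    rwa [commutatorElement_def, mul_assoc, mul_assoc, ← mul_assoc t]
  have out : ∀ c ∈ T ⊓ No S, c ∉ S → ⁅v, c⁆ = ⁅v, t⁆ := fun c hc c1 => by
    have h1 := h.mul c hc t⁻¹ (inv_mem ⟨h.tT, h.tN⟩) c1 fun e => h.tS (inv_mem_iff.1 e)
    have h2 := vC _ h1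
    have h3 := zC _ h1
    calc ⁅v, c⁆ = v * (c * t⁻¹) * (t * v⁻¹ * t⁻¹) * (c * t⁻¹)⁻¹ := by
          rw [commutatorElement_def]; group
      _ = c * t⁻¹ * ⁅v, t⁆ * (c * t⁻¹)⁻¹ := by rw [← h2, commutatorElement_def]; group
      _ = ⁅v, t⁆ := by rw [h3, mul_inv_cancel_right]
  have a0 := mem_cj.1 hv
  have b0 := mem_cj.1 b1
  have h1 := h.fp.f2 _ a0 _ b0
  have c0 : y * (g⁻¹ * b * g) * y⁻¹ ∈ S := (mem_normalizer_iff.1 h.yS _).1 b0
  have c1 := le1 (conj_mem_cj (g := g) c0)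
  have e1 : ⁅g⁻¹ * v * g, g⁻¹ * b * g⁆ = g⁻¹ * ⁅v, t⁆ * g := by
    rw [← out b (le1 b1) b2, commutatorElement_def, commutatorElement_def]; group
  have e2 : ⁅g⁻¹ * v * g, y * (g⁻¹ * b * g) * y⁻¹⁆ =
      g⁻¹ * ⁅v, g * (y * (g⁻¹ * b * g) * y⁻¹) * g⁻¹⁆ * g := by
    rw [commutatorElement_def, commutatorElement_def]; group
  have z0 : g⁻¹ * ⁅v, t⁆ * g ∈ S := by
    rw [← e1, commutatorElement_def]
    exact mul_mem (mul_mem (mul_mem a0 b0) (inv_mem a0)) (inv_mem b0)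
  have z1 : g⁻¹ * ⁅v, t⁆ * g ≠ 1 := fun e => vt (commutatorElement_eq_one_iff_commute.1 (by
    calc ⁅v, t⁆ = g * (g⁻¹ * ⁅v, t⁆ * g) * g⁻¹ := by group
      _ = 1 := by rw [e]; group))
  rw [e1, e2] at h1
  generalize g⁻¹ * ⁅v, t⁆ * g = z at z0 z1 h1 e1
  by_cases hc : g * (y * (g⁻¹ * b * g) * y⁻¹) * g⁻¹ ∈ S
  · rw [commutatorElement_eq_one_iff_commute.2 (show Commute v _ from (vC _ hc).symm)] at h1
    refine z1 ?_
    calc z = y * (y⁻¹ * z * y) * y⁻¹ := by group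
      _ = 1 := by rw [← h1]; group
  · rw [out _ c1 hc, ← out b (le1 b1) b2] at h1
    have e3 : g⁻¹ * ⁅v, b⁆ * g = z := by
      rw [← e1, commutatorElement_def, commutatorElement_def]; group
    rw [e3] at h1
    refine z1 (fp z z0 ?_)
    calc y * z = y * (y⁻¹ * z * y) := by rw [← h1]
      _ = z * y := by group

end H30.EP
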