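import Cfsg.Agent.H14.FESpec

/-! Tower FE: flag transitivity on maximal cliques. -/

set_option autoImplicit false

namespace H30.FE

open Cfsg Subgroup MulAction H14 H98 H1.Gold H31.S2 H14.GC H14.FE

universe u

variable {G : Type u} [Group G] [Finite G] {A : Subgroup G}

theorem exists_meet (h : MC A) {C : Set (Subgroup G)} (hC : Clq A C) :
    ∃ P : Subgroup G, IsPGroup 2 P ∧ ∀ B ∈ C, P ≤ nor B ∧ ∃ d ∈ P, d ∈ B ∧ H14.GC.Inv d := by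
  have : Fact (Nat.Prime 2) := ⟨Nat.prime_two⟩
  obtain ⟨P, hP⟩ := exists_isSyl 2 (⨅ B ∈ C, nor B)
  refine ⟨P, hP.isPGroup, fun B hB => ?_⟩
  have h1 : P ≤ nor B := hP.le.trans (biInf_le _ hB)
  obtain ⟨s, hs, -, -, h2, -⟩ := h.four B (hC.1 B hB)
  obtain ⟨g, -, h3⟩ := (hP.inf_of_le_normalizer (le_iInf₂ fun B' hB' => hC.2 B hB B' hB')
    h1).exists_cj_le h2.isPGroup (zpowers_le.2 hs)
  have h4 := h3 (conj_mem_cj (mem_zpowers s))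
  exact ⟨h1, _, h4.1, h4.2, h2.conj g⟩

omit [Finite G] in
theorem vx_cj {B : Subgroup G} (h : Vx A B) (g : G) : Vx A (cj g B) := by
  obtain ⟨b, rfl⟩ := h
  exact ⟨g * b, cj_cj g b A⟩

theorem jobFlag : JobFlag.{u} := by
  intro G _ _ A h C C' hC hC' B hB B' hB'
  have : Fact (Nat.Prime 2) := ⟨Nat.prime_two⟩
  obtain ⟨P, hP, h1⟩ := exists_meet h hC.1
  obtain ⟨P', hP', h2⟩ := exists_meet h hC'.1
  obtain ⟨g0, h3⟩ : ∃ g0, cj g0 B = B' := by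
    obtain ⟨b, rfl⟩ := hC.1.1 B hB
    obtain ⟨b', rfl⟩ := hC'.1.1 B' hB'
    exact ⟨b' * b⁻¹, by rw [cj_cj, inv_mul_cancel_right]⟩
  obtain ⟨Q, hQ, h4⟩ := exists_isSyl_le hP' (h2 B' hB').1
  obtain ⟨k, hk, h5⟩ := hQ.exists_cj_le (isPGroup_cj g0 hP)
    (h3 ▸ (cj_mono g0 (h1 B hB).1).trans (cj_normalizer g0 B).le)
  rw [cj_cj] at h5
  refine ⟨k * g0, by rw [← cj_cj, h3, cj_eq_self hk], Set.Subset.antisymm ?_ fun D hD => ?_⟩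
  · rintro _ ⟨D, hD, rfl⟩
    refine hC'.2 _ (vx_cj (hC.1.1 D hD) _) fun D' hD' => ?_
    obtain ⟨-, d, d1, d2, d3⟩ := h1 D hD
    obtain ⟨-, e, e1, e2, e3⟩ := h2 D' hD'
    exact h.f3 _ _ (vx_cj (hC.1.1 D hD) _) (hC'.1.1 D' hD') _ (conj_mem_cj d2) e e2 (d3.conj _) e3
      Q hQ.isPGroup (h5 (conj_mem_cj d1)) (h4 e1)
  · refine ⟨cj (k * g0)⁻¹ D, hC.2 _ (vx_cj (hC'.1.1 D hD) _) fun D' hD' => ?_, cj_cj_inv _ _⟩
    obtain ⟨-, d, d1, d2, d3⟩ := h1 D' hD'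
    obtain ⟨-, e, e1, e2, e3⟩ := h2 D hD
    exact h.f3 _ _ (vx_cj (hC'.1.1 D hD) _) (hC.1.1 D' hD') _ (conj_mem_cj e2) d d2 (e3.conj _) d3
      _ (isPGroup_cj (k * g0)⁻¹ hQ.isPGroup) (conj_mem_cj (h4 e1)) (cj_le_iff.1 h5 d1)

end H30.FE
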