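import Cfsg.Agent.H82.FSKit
import Cfsg.Agent.H30.ClassSum
import Cfsg.Agent.H28.CharBasis
import Cfsg.Agent.H28.CharKer

/-! Tower FS, job Ab: abelian line kernels, by characters. -/

set_option autoImplicit false
set_option linter.all false

namespace H30.FsAb

open Cfsg Subgroup H28 H82.FS
open scoped commutatorElement ComplexConjugate

universe u

variable {G : Type u} [Group G] [Finite G] {p r : ℕ} {A : Subgroup G}

/-- The union of the line kernels. -/
def UU (A : Subgroup G) : Set G := {u | ∃ g, u ∈ kl A g}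

theorem n1 (hL : Lin p r A) (hA : Ab A) {g k : G} (hk : k ∈ kl A g)
    (hn : k ∈ normalizer (A : Set G)) : k = 1 := by
  have hc := hL.cop (hL.line g)
  have h1 := H46.coprime_abel_cent_TI (hA g) (A_le_norm_kl A g) hc
  rw [(hL.kl_sp g).2.2] at h1
  exact mem_bot.1 (h1.le ⟨hk, hL.norm_cen hc (A_le_norm_kl A g) hk hn⟩)

theorem norm_of_eq {g k : G} (e : cj g A = cj k A) : k⁻¹ * g ∈ normalizer (A : Set G) := by
  rw [← cj_eq_iff, cj_mul, e, cj_inv_cj]

theorem eq_of_norm {g k : G} (h : k⁻¹ * g ∈ normalizer (A : Set G)) : cj g A = cj k A := by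
  rw [← cj_eq_iff, cj_mul] at h
  rw [← cj_cj_inv k (cj g A), h]

theorem self_mem (hL : Lin p r A) (hA : Ab A) {u : G} (hu : u ∈ UU A) : u ∈ kl A u := by
  obtain ⟨g, hg⟩ := hu
  obtain ⟨k, hk, e⟩ := hL.exists_kl u
  have h1 : k⁻¹ * u = 1 :=
    n1 hL hA (mul_mem (inv_mem (hL.kl_le' (A_le_norm_kl A g) hg hk)) hg) (norm_of_eq e)
  rw [inv_mul_eq_one] at h1
  subst h1
  exact hk

theorem uniq (hL : Lin p r A) (hA : Ab A) {u v : G} (hu : u ∈ UU A) (hv : v ∈ UU A)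
    (h : v⁻¹ * u ∈ normalizer (A : Set G)) : u = v := by
  have e : kl A u = kl A v := by rw [kl, kl, ln, ln, eq_of_norm h]
  have h1 : v⁻¹ * u = 1 :=
    n1 hL hA (mul_mem (inv_mem (self_mem hL hA hv)) (e ▸ self_mem hL hA hu)) h
  exact (inv_mul_eq_one.1 h1).symm

theorem comm_mem {g u c : G} (hu : u ∈ kl A g) (hc : c ∈ A) : u * c * u⁻¹ * c⁻¹ ∈ kl A g :=
  comm_le_left (A_le_norm_kl A g) (commutator_mem_commutator hu hc)

/-- `u ↦ ⁅u, c⁆` on `U`. -/
def phi {c : G} (hc : c ∈ A) (u : UU A) : UU A :=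
  ⟨u * c * u.1⁻¹ * c⁻¹, by obtain ⟨g, hg⟩ := u.2; exact ⟨g, comm_mem hg hc⟩⟩

theorem norm_of_comm (hL : Lin p r A) {c z : G} (hc : c ∈ A) (h1 : c ≠ 1) (h : z * c = c * z) :
    z ∈ normalizer (A : Set G) := by
  rcases hL.le_or (centralizer {z}) with e | e
  · exact absurd (mem_bot.1 (e.le ⟨hc, mem_centralizer_singleton_iff.2 h.symm⟩)) h1
  · exact centralizer_le_normalizer _ fun a ha => mem_centralizer_singleton_iff.1 (e ha)

theorem phi_bij (hL : Lin p r A) (hA : Ab A) {c : G} (hc : c ∈ A) (h1 : c ≠ 1) :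
    Function.Bijective (phi hc) := by
  refine Finite.injective_iff_bijective.1 fun u v h => Subtype.ext ?_
  have h2 : u.1 * c * u.1⁻¹ = v.1 * c * v.1⁻¹ := mul_right_cancel (congrArg Subtype.val h)
  refine uniq hL hA u.2 v.2 (norm_of_comm hL hc h1 ?_)
  calc v.1⁻¹ * u.1 * c = v.1⁻¹ * (u.1 * c * u.1⁻¹) * u.1 := by group
    _ = _ := by rw [h2]; group

theorem dec_bij (hL : Lin p r A) (hA : Ab A) :
    Function.Bijective (fun z : UU A × normalizer (A : Set G) => z.1.1 * z.2.1) := by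
  constructor
  · rintro ⟨u, n⟩ ⟨v, m⟩ h
    have h' : u.1 * n.1 = v.1 * m.1 := h
    have e : u = v := Subtype.ext (uniq hL hA u.2 v.2 (by
      rw [show v.1⁻¹ * u.1 = m.1 * n.1⁻¹ by rw [← mul_inv_eq_iff_eq_mul] at h'; rw [← h']; group]
      exact mul_mem m.2 (inv_mem n.2)))
    subst e
    rw [Subtype.ext (mul_left_cancel h')]
  · intro g
    obtain ⟨k, hk, e⟩ := hL.exists_kl g
    exact ⟨⟨⟨k, g, hk⟩, ⟨k⁻¹ * g, norm_of_eq e⟩⟩, by simp⟩

theorem conj_mem {n b : G} (hn : n ∈ normalizer (A : Set G)) (hb : b ∈ A) : n * b * n⁻¹ ∈ A :=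
  (mem_normalizer_iff.1 hn b).1 hb

theorem noinv (hL : Lin p r A) (hT : TR A) {x n : G} (hx : x ∈ A) (h1 : x ≠ 1)
    (hn : n ∈ normalizer (A : Set G)) : n * x * n⁻¹ * x ≠ 1 := by
  intro h
  obtain ⟨k, m, ⟨t, rfl⟩, e⟩ := Nat.exists_eq_two_pow_mul_odd (orderOf_pos n).ne'
  have hc := hT (n ^ (2 * t + 1)) (pow_mem hn _) k
    (by rw [← pow_mul, mul_comm, ← e, pow_orderOf_eq_one]) x hx
  have s1 : SemiconjBy n x x⁻¹ := by
    rw [SemiconjBy, ← mul_inv_eq_iff_eq_mul, eq_inv_iff_mul_eq_one, h]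
  have s2 : SemiconjBy n x⁻¹ x := by simpa using s1.inv_right
  have s3 : Commute (n ^ 2) x⁻¹ := by rw [sq]; exact s1.mul_left s2
  have s4 : SemiconjBy (n ^ (2 * t + 1)) x x⁻¹ := by
    rw [pow_succ, pow_mul]; exact SemiconjBy.mul_left (s3.pow_left t) s1
  have h2 : x = x⁻¹ := mul_right_cancel (hc.trans s4)
  have h3 : orderOf x ∣ 2 := orderOf_dvd_of_pow_eq_one (by rw [sq]; nth_rw 1 [h2]; simp)
  have h4 : orderOf x ∣ p := hL.card ▸ Subgroup.orderOf_dvd_natCard A hx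
  have h5 : orderOf x = 1 :=
    Nat.eq_one_of_dvd_coprimes ((Nat.coprime_primes Nat.prime_two hL.hp).2 hL.p2.symm) h3 h4
  exact h1 (orderOf_eq_one_iff.1 h5)

section Char

open Classical

variable [Fintype G] {χ : G → ℂ}

noncomputable def dl (A : Subgroup G) (χ : G → ℂ) : ℂ :=
  Fintype.card (UU A) * χ 1 - ∑ w : UU A, χ w

noncomputable def EE (A : Subgroup G) (χ : G → ℂ) (y : G) : ℂ :=
  Fintype.card (UU A) * χ y - dl A χ * if y = 1 then 1 else 0

theorem sumU (hL : Lin p r A) (hA : Ab A) (hχ : IsClassFunction G χ) {a b : G} (ha : a ∈ A)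
    (hb : b ∈ A) (h1 : b ≠ 1) : ∑ u : UU A, χ (u * b * u.1⁻¹ * a) = EE A χ (b * a) := by
  have e1 : ∑ u : UU A, χ (u * b * u.1⁻¹ * a) = ∑ w : UU A, χ (w * (b * a)) :=
    Fintype.sum_bijective _ (phi_bij hL hA hb h1) _ _ fun u => by
      congr 1; simp only [phi]; group
  rw [e1, EE]
  by_cases h : b * a = 1
  · simp [h, dl]
  · have e2 : ∑ u : UU A, χ (b * a) = ∑ w : UU A, χ (w * (b * a)) :=
      Fintype.sum_bijective _ (phi_bij hL hA (mul_mem hb ha) h) _ _ fun u => by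
        rw [← hχ (b * a) u]; congr 1; simp only [phi]; group
    rw [← e2]
    simp [h]

theorem star (hL : Lin p r A) (hA : Ab A) (hχ : IsIrrCharacter G χ) {a b : G} (ha : a ∈ A)
    (hb : b ∈ A) (h1 : b ≠ 1) : Nat.card G * χ b * χ a =
      χ 1 * ∑ n : normalizer (A : Set G), EE A χ (n * b * n.1⁻¹ * a) := by
  rw [← H30.sum_conj_mul_irr hχ, mul_comm]
  congr 1
  rw [← Fintype.sum_bijective _ (dec_bij hL hA)
    (fun z => χ (z.1.1 * (z.2.1 * b * z.2.1⁻¹) * z.1.1⁻¹ * a)) _ (fun z => by congr 1; group),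
    Fintype.sum_prod_type_right]
  refine Finset.sum_congr rfl fun n _ => sumU hL hA hχ.isClassFunction ha (conj_mem n.2 hb) ?_
  simpa using h1

theorem tri (hL : Lin p r A) (hA : Ab A) (hχ : IsIrrCharacter G χ) {a b c : G} (ha : a ∈ A)
    (hb : b ∈ A) (h1 : b ≠ 1) (hc : c ∈ A) (h2 : c ≠ 1) :
    (Nat.card G : ℂ) * (Nat.card G * χ c * χ b * χ a) =
      χ 1 * (Fintype.card (UU A) * χ 1 * ∑ n : normalizer (A : Set G),
        ∑ m : normalizer (A : Set G), EE A χ (m * c * m.1⁻¹ * (n * b * n.1⁻¹ * a))) -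
      Nat.card G * χ 1 * dl A χ * χ c *
        ∑ n : normalizer (A : Set G), if n * b * n.1⁻¹ * a = 1 then 1 else 0 := by
  have e : ∀ n : normalizer (A : Set G), Nat.card G * χ c * EE A χ (n * b * n.1⁻¹ * a) =
      Fintype.card (UU A) * χ 1 *
        ∑ m : normalizer (A : Set G), EE A χ (m * c * m.1⁻¹ * (n * b * n.1⁻¹ * a)) -
      Nat.card G * dl A χ * χ c * if n * b * n.1⁻¹ * a = 1 then 1 else 0 := fun n => by
    have := star hL hA hχ (mul_mem (conj_mem n.2 hb) ha) hc h2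
    rw [mul_assoc (Fintype.card (UU A) : ℂ), ← this, EE]
    ring
  have e2 := Finset.sum_congr (rfl : (Finset.univ : Finset (normalizer (A : Set G))) = _)
    fun n _ => e n
  rw [← Finset.mul_sum, Finset.sum_sub_distrib, ← Finset.mul_sum, ← Finset.mul_sum] at e2
  have := star hL hA hχ ha hb h1
  linear_combination (Nat.card G * χ c) * this + χ 1 * e2

theorem vanish (hL : Lin p r A) (hT : TR A) (hA : Ab A) (hχ : IsIrrCharacter G χ)
    (hd : dl A χ ≠ 0) {x : G} (hx : x ∈ A) (h1 : x ≠ 1) : χ x = 0 := by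
  have t1 := tri hL hA hχ hx (inv_mem hx) (inv_ne_one.2 h1) hx h1
  have t2 := tri hL hA hχ hx hx h1 (inv_mem hx) (inv_ne_one.2 h1)
  have z : (∑ n : normalizer (A : Set G), if n * x * n.1⁻¹ * x = 1 then (1 : ℂ) else 0) = 0 :=
    Finset.sum_eq_zero fun n _ => if_neg (noinv hL hT hx h1 n.2)
  have sw : ∑ n : normalizer (A : Set G), ∑ m : normalizer (A : Set G),
      EE A χ (m * x⁻¹ * m.1⁻¹ * (n * x * n.1⁻¹ * x)) =
      ∑ n : normalizer (A : Set G), ∑ m : normalizer (A : Set G),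
      EE A χ (m * x * m.1⁻¹ * (n * x⁻¹ * n.1⁻¹ * x)) := by
    rw [Finset.sum_comm]
    refine Finset.sum_congr rfl fun n _ => Finset.sum_congr rfl fun m _ => ?_
    rw [← mul_assoc, ← mul_assoc (m * x * m.1⁻¹),
      hL.comm (conj_mem n.2 (inv_mem hx)) _ (conj_mem m.2 hx)]
  rw [z, sw] at t2
  have nz : (∑ n : normalizer (A : Set G),
      if n * x⁻¹ * n.1⁻¹ * x = 1 then (1 : ℂ) else 0) ≠ 0 := by
    rw [Finset.sum_boole, Nat.cast_ne_zero, ← Nat.pos_iff_ne_zero, Finset.card_pos]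
    exact ⟨1, by simp⟩
  have hG : (Nat.card G : ℂ) ≠ 0 := Nat.cast_ne_zero.2 Nat.card_pos.ne'
  have h0 : Nat.card G * χ 1 * dl A χ * χ x * (∑ n : normalizer (A : Set G),
      if n * x⁻¹ * n.1⁻¹ * x = 1 then (1 : ℂ) else 0) = 0 := by
    linear_combination t1 - t2
  have := (mul_eq_zero.1 h0).resolve_right nz
  simpa [hG, hd, hχ.apply_one_ne_zero] using this

theorem ker_of (hL : Lin p r A) (hχ : IsIrrCharacter G χ) (hd : dl A χ = 0) :
    commutator G ≤ charKer χ := by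
  have h1 : ∑ w : UU A, ((χ 1).re - (χ w).re) = 0 := by
    have := congrArg Complex.re hd
    simpa [dl] using this
  rw [Finset.sum_eq_zero_iff_of_nonneg
    fun (w : UU A) _ => sub_nonneg.2 (hχ.isCharacter.re_le w.1)] at h1
  have h2 : ∀ g, kl A g ≤ charKer χ := fun g w hw =>
    hχ.isCharacter.mem_charKer_iff_re.2 (sub_eq_zero.1 (h1 ⟨w, g, hw⟩ (Finset.mem_univ _))).symm
  haveI := hχ.charKer_normal
  have h3 : charKer χ ⊔ A = ⊤ := hL.top_of fun g => (hL.sub g).trans (sup_le_sup_right (h2 g) _)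
  exact Subgroup.Normal.commutator_le_of_self_sup_commutative_eq_top h3
    (le_centralizer_iff_isMulCommutative.1 hL.comm)

end Char

theorem isConj (hL : Lin p r A) (hT : TR A) (hA : Ab A) {x y : G} (hx : x ∈ A) (h1 : x ≠ 1)
    (hy : y ∈ commutator G) : IsConj (y * x) x := by
  haveI := Fintype.ofFinite G
  by_contra hc
  have h0 := column_orthogonality_of_not_isConj hc
  have e : ∀ χ : IrrCharacter G, (χ : G → ℂ) (y * x) * conj ((χ : G → ℂ) x) =
      (χ : G → ℂ) x * conj ((χ : G → ℂ) x) := fun χ => by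
    by_cases hd : dl A (χ : G → ℂ) = 0
    · rw [ker_of hL χ.2 hd hy x]
    · rw [vanish hL hT hA χ.2 hd hx h1]; simp
  simp only [e] at h0
  rw [column_orthogonality_of_isConj (IsConj.refl x)] at h0
  exact Nat.card_pos.ne' (Nat.cast_eq_zero.1 h0)

theorem jobAb : H82.FS.JobAb.{u} := by
  intro G _ _ p r A hL hT hA
  obtain ⟨⟨x, hx⟩, h1⟩ := ne_bot_iff_exists_ne_one.1 hL.ne_bot
  have h1 : x ≠ 1 := fun e => h1 (Subtype.ext e)
  refine ⟨fun c hc => ?_, fun h => h1 ?_⟩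
  · have h3 : commutator G ⊔ A = ⊤ := hL.top_of fun g => (hL.sub g).trans
      (sup_le_sup_right (commutator_mono le_top le_top) _)
    obtain ⟨y, hy, a, ha, rfl⟩ := mem_sup_norm (W := commutator G) (A := A)
      (by rw [normalizer_eq_top]; exact le_top) (h3.ge (mem_top c))
    obtain ⟨g, hg⟩ := isConj_iff.1 (isConj hL hT hA hx h1 hy).symm
    obtain ⟨⟨⟨u, k, hu⟩, n⟩, rfl⟩ := (dec_bij hL hA).2 g
    have hb := conj_mem n.2 hx
    have e : u * (n * x * n.1⁻¹) * u⁻¹ * (n * x * n.1⁻¹)⁻¹ =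
        y * a * (a⁻¹ * x * (n * x * n.1⁻¹)⁻¹) := by
      rw [show u * (n * x * n.1⁻¹) * u⁻¹ = y * x by rw [← hg]; group]; group
    have hm : a⁻¹ * x * (n * x * n.1⁻¹)⁻¹ ∈ A := mul_mem (mul_mem (inv_mem ha) hx) (inv_mem hb)
    have e2 := n1 hL hA (comm_mem hu hb)
      (e ▸ mul_mem (centralizer_le_normalizer _ hc) (le_normalizer hm))
    rw [e, mul_eq_one_iff_eq_inv] at e2
    exact e2 ▸ inv_mem hm
  · have := isConj hL hT hA hx h1 (inv_mem (h hx))
    rwa [inv_mul_cancel, isConj_one_right] at this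

end H30.FsAb
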