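import Cfsg.Agent.H73.GSSpec

/-! S3275, chapter C4, part II: the quaternion case. -/

set_option autoImplicit false

namespace H30.GS

open Subgroup Cfsg H98 H48.DP H57.DPC H48.DP2 H98.DP0C

universe u

theorem dvd_ncard {α : Type*} [Finite α] (S : Set α) (f : α → α) (p : ℕ) [Fact p.Prime]
    (hS : ∀ a ∈ S, f a ∈ S) (hp : ∀ a ∈ S, f^[p] a = a) (hf : ∀ a ∈ S, f a ≠ a) :
    p ∣ S.ncard := by
  classical
  have := Fintype.ofFinite S
  let g : Function.End S := fun a => ⟨f a, hS a a.2⟩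
  have h1 : ∀ n (a : S), ((g ^ n) a : α) = f^[n] a := fun n => by
    induction n with
    | zero => exact fun _ => rfl
    | succ n ih =>
      intro a
      rw [pow_succ, Function.iterate_succ_apply]
      exact ih (g a)
  have h2 := Equiv.Perm.card_fixedPoints_modEq (f := g) (p := p) (n := 1)
    (funext fun a => Subtype.ext (by rw [pow_one, h1]; exact hp a a.2))
  have h3 : Fintype.card g.fixedPoints = 0 :=
    Fintype.card_eq_zero_iff.2 ⟨fun a => hf a.1 a.1.2 (congrArg Subtype.val a.2)⟩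
  rw [h3, ← Nat.card_eq_fintype_card, Nat.card_coe_set_eq] at h2
  exact Nat.modEq_zero_iff_dvd.1 h2

theorem jobK8 : H73.GS.K8.{u} := by
  intro X _ _ Y x s q h c8 sq
  have : Fact (Nat.Prime 2) := ⟨Nat.prime_two⟩
  have : Fact (Nat.Prime 3) := ⟨Nat.prime_three⟩
  have x3 : x ^ 3 = 1 := h.x3 ▸ pow_orderOf_eq_one x
  have xY : ∀ {v}, v ∈ Y → x * v * x⁻¹ ∈ Y := fun {v} hv => (mem_normalizer_iff.1 h.xY v).1 hv
  have xY' : ∀ {v}, v ∈ Y → x⁻¹ * v * x ∈ Y := fun {v} hv => by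
    simpa using (mem_normalizer_iff.1 (inv_mem h.xY) v).1 hv
  have mC : ∀ {v}, v ∈ C1 x ↔ x * v * x⁻¹ = v := fun {v} => by
    rw [mem_centralizer_singleton_iff, mul_inv_eq_iff_eq_mul, eq_comm]
  have cC : ∀ {v}, x * v * x⁻¹ ∈ C1 x → v ∈ C1 x := fun {v} e =>
    mC.2 (mul_left_cancel (mul_right_cancel (mC.1 e)))
  have it : ∀ v, x * (x * (x * v * x⁻¹) * x⁻¹) * x⁻¹ = v := fun v => by
    calc x * (x * (x * v * x⁻¹) * x⁻¹) * x⁻¹ = x ^ 3 * v * (x ^ 3)⁻¹ := by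
          simp only [pow_succ, pow_zero, one_mul, mul_inv_rev, mul_assoc]
      _ = v := by rw [x3, inv_one, one_mul, mul_one]
  have d3 : ∀ S : Set X, (∀ a ∈ S, a ∉ C1 x) → (∀ a ∈ S, x * a * x⁻¹ ∈ S) → 3 ∣ S.ncard :=
    fun S h1 h2 => dvd_ncard S (fun a => x * a * x⁻¹) 3 h2 (fun a _ => it a)
      fun a ha e => h1 a ha (mC.2 e)
  have cD : ((Y : Set X) \ ↑(Y ⊓ C1 x)).ncard = 8 - Nat.card ↥(Y ⊓ C1 x) := by
    rw [Set.ncard_diff (fun a ha => ha.1), ← c8]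
    rfl
  have c2 : Nat.card ↥(Y ⊓ C1 x) = 2 := by
    have h1 := d3 ((Y : Set X) \ ↑(Y ⊓ C1 x)) (fun a ha e => ha.2 ⟨ha.1, e⟩)
      fun a ha => ⟨xY ha.1, fun e => ha.2 ⟨ha.1, cC e.2⟩⟩
    have h2 : Nat.card ↥(Y ⊓ C1 x) ∣ 8 := c8 ▸ card_dvd_of_le inf_le_left
    have h3 : Nat.card ↥(Y ⊓ C1 x) ≠ 8 := fun e =>
      h.act ((eq_of_le_of_card_ge inf_le_left (c8.trans e.symm).le).ge.trans inf_le_right)
    rw [cD] at h1
    have h4 := Nat.le_of_dvd (by norm_num) h2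
    generalize Nat.card ↥(Y ⊓ C1 x) = n at *
    interval_cases n <;> omega
  have f2 : ∀ {f}, f ∈ Y → f ∈ C1 x → f * f = 1 := fun {f} h1 h2 => by
    have : (⟨f, h1, h2⟩ : ↥(Y ⊓ C1 x)) ^ Nat.card ↥(Y ⊓ C1 x) = 1 := pow_card_eq_one'
    rw [c2, pow_two] at this
    exact congrArg Subtype.val this
  have all : ∀ P : X → Prop, (∀ a ∈ Y, P a → a * a ≠ 1) → (∀ a, P a → P a⁻¹) →
      (∀ a, P a → P (x * a * x⁻¹)) → ∀ a ∈ Y, P a → ∀ b ∈ Y, b ∉ C1 x → P b :=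
    fun P h1 h2 h3 a ha pa b hb b1 => by
      have h4 := d3 {a | a ∈ Y ∧ P a} (fun a ha e => h1 a ha.1 ha.2 (f2 ha.1 e))
        fun a ha => ⟨xY ha.1, h3 a ha.2⟩
      have h5 := dvd_ncard {a | a ∈ Y ∧ P a} (fun a => a⁻¹) 2
        (fun a ha => ⟨inv_mem ha.1, h2 a ha.2⟩) (fun a _ => inv_inv a)
        fun a ha e => h1 a ha.1 ha.2 (mul_eq_one_iff_eq_inv.2 e.symm)
      have h6 : {a | a ∈ Y ∧ P a} ⊆ (Y : Set X) \ ↑(Y ⊓ C1 x) :=
        fun a ha => ⟨ha.1, fun e => h1 a ha.1 ha.2 (f2 ha.1 e.2)⟩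
      have h7 := (Set.ncard_pos (s := {a | a ∈ Y ∧ P a})).2 ⟨a, ha, pa⟩
      have h8 := Set.eq_of_subset_of_ncard_le h6 (by rw [cD, c2]; omega)
      exact (h8.ge ⟨hb, fun e => b1 e.2⟩).2
  have cs : ∀ a, x * a * x⁻¹ * (x * a * x⁻¹) = x * (a * a) * x⁻¹ := fun a => by group
  by_contra! hc
  obtain ⟨v0, v1, v2⟩ := hc
  have n1 : ∀ b ∈ Y, b * b = 1 → b ∈ C1 x := fun b hb e => by
    by_contra b1
    exact all (fun a => a * a ≠ 1) (fun _ _ e => e)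
      (fun a e e' => e (by rwa [← mul_inv_rev, inv_eq_one] at e'))
      (fun a e e' => e (by rwa [cs, conj_eq_one_iff] at e')) v0 v1 v2 b hb b1 e
  have n2 : ∀ a ∈ Y, a * a ∈ C1 x := fun a ha => by
    by_contra a1
    have h1 := all (fun a => a * a ∉ C1 x) (fun _ _ e e' => e (e' ▸ one_mem _))
      (fun a e e' => e (by rwa [← mul_inv_rev, inv_mem_iff] at e'))
      (fun a e e' => e (cC (cs a ▸ e'))) a ha a1
    have h2 := mul_mem ha ha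
    have h3 := mul_mem h2 h2
    refine h1 _ h2 a1 |> fun h4 => h1 _ h3 h4 ?_
    have h5 : (⟨a, ha⟩ : Y) ^ Nat.card Y = 1 := pow_card_eq_one'
    have h6 : a ^ 8 = 1 := c8 ▸ congrArg Subtype.val h5
    rw [show a * a * (a * a) * (a * a * (a * a)) = a ^ 8 by
      simp only [pow_succ, pow_zero, one_mul, mul_assoc], h6]
    exact one_mem _
  have two : ∀ {v}, x * (x * v * x⁻¹) * x⁻¹ = v → v ∈ C1 x := fun {v} e => mC.2 (by
    have := it v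
    rwa [e] at this)
  have n3 : ∀ c ∈ Y, (∀ y ∈ Y, Commute y c) → c ∈ C1 x := fun c hc h0 => by
    by_contra c1
    have h1 := all (fun a => a ∉ C1 x ∧ ∀ y ∈ Y, Commute y a)
      (fun a ha e e' => e.1 (n1 a ha e'))
      (fun a e => ⟨fun e' => e.1 (inv_mem_iff.1 e'), fun y hy => (e.2 y hy).inv_right⟩)
      (fun a e => ⟨fun e' => e.1 (cC e'), fun y hy => by
        have := (e.2 _ (xY' hy)).eq
        change y * (x * a * x⁻¹) = x * a * x⁻¹ * y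
        calc y * (x * a * x⁻¹) = x * (x⁻¹ * y * x * a) * x⁻¹ := by group
          _ = _ := by rw [this]; group⟩) c hc ⟨c1, h0⟩
    have h2 := h0 _ (xY hc)
    have h3 : c * (x * c * x⁻¹) ∈ C1 x := n1 _ (mul_mem hc (xY hc)) (by
      calc c * (x * c * x⁻¹) * (c * (x * c * x⁻¹))
          = c * (x * c * x⁻¹ * c) * (x * c * x⁻¹) := by group
        _ = c * c * (x * (c * c) * x⁻¹) := by rw [h2.eq]; group
        _ = 1 := by rw [mC.1 (n2 c hc), f2 (mul_mem hc hc) (n2 c hc)])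
    have h4 := mC.1 h3
    refine c1 (two (mul_left_cancel (a := x * c * x⁻¹) ?_))
    rw [h2.eq, ← h4]
    group
  have sT : s ∈ Y ⊔ zpowers s ⊔ zpowers q := mem_sup_left (mem_sup_right (mem_zpowers s))
  have yT : ∀ {v}, v ∈ Y → v ∈ Y ⊔ zpowers s ⊔ zpowers q := fun e => mem_sup_left (mem_sup_left e)
  have n4 : ∀ v ∈ Y, s * v * (s * v) ∈ C1 x := fun v hv => by
    have h1 : s * v * (s * v) ∈ Y := by
      have := mul_mem (mul_mem ((mem_normalizer_iff.1 h.sY v).1 hv) h.s2) hv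
      rwa [show s * v * s⁻¹ * (s * s) * v = s * v * (s * v) by group] at this
    by_cases h2 : (s * v) ^ 4 = 1
    · exact n1 _ h1 (by rw [← h2]; simp only [pow_succ, pow_zero, one_mul, mul_assoc])
    · exact n3 _ h1 fun y hy => (sq _ (mul_mem sT (yT hv)) y (yT hy)).resolve_left h2
  have n5 : ∀ v ∈ Y, s * v * s⁻¹ * v⁻¹ ∈ C1 x := fun v hv => by
    have h1 : s * s ∈ C1 x := by simpa using n4 1 (one_mem _)
    have h2 : v⁻¹ * (s * s) * v ∈ C1 x := n1 _ (mul_mem (mul_mem (inv_mem hv) h.s2) hv) (by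
      calc v⁻¹ * (s * s) * v * (v⁻¹ * (s * s) * v) = v⁻¹ * (s * s * (s * s)) * v := by group
        _ = 1 := by rw [f2 h.s2 h1]; group)
    have := mul_mem (mul_mem (n4 v hv) (inv_mem h2)) (inv_mem (n2 v hv))
    rwa [show s * v * (s * v) * (v⁻¹ * (s * s) * v)⁻¹ * (v * v)⁻¹ = s * v * s⁻¹ * v⁻¹ by
      group] at this
  refine h.act fun v hv => ?_
  have uY : s⁻¹ * v * s ∈ Y := by simpa using (mem_normalizer_iff.1 (inv_mem h.sY) v).1 hv
  have h1 := mC.1 (n5 _ uY)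
  have h2 := mC.1 (n5 _ (xY' uY))
  have sx : s * x⁻¹ * s⁻¹ = x := by
    calc s * x⁻¹ * s⁻¹ = (s * x * s⁻¹)⁻¹ := by group
      _ = x := by rw [h.sx, inv_inv]
  have h3 : x * (x * v * x⁻¹) * x⁻¹ * v⁻¹ ∈ C1 x := by
    have h4 := mul_mem (n5 _ (xY' uY)) (inv_mem (n5 _ uY))
    have e1 : s * (x⁻¹ * (s⁻¹ * v * s) * x) * s⁻¹ = x * v * x⁻¹ := by
      calc s * (x⁻¹ * (s⁻¹ * v * s) * x) * s⁻¹
          = s * x⁻¹ * s⁻¹ * v * (s * x⁻¹ * s⁻¹)⁻¹ := by group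
        _ = x * v * x⁻¹ := by rw [sx]
    rw [e1] at h4 h2
    have e2 : s * (s⁻¹ * v * s) * s⁻¹ = v := by group
    rw [e2] at h4 h1
    generalize s⁻¹ * v * s = w at *
    have e3 : x * (x * v * x⁻¹) * x⁻¹ * v⁻¹ =
        x * (x * v * x⁻¹ * (x⁻¹ * w * x)⁻¹) * x⁻¹ * (v * w⁻¹)⁻¹ := by group
    rw [e3, h2]
    exact h4
  have h4 : x * (x * v * x⁻¹) * x⁻¹ * v⁻¹ ∈ Y := mul_mem (xY (xY hv)) (inv_mem hv)
  have h5 := f2 h4 h3
  have h6 := mC.1 h3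
  have h7 := it v
  generalize hg : x * (x * v * x⁻¹) * x⁻¹ * v⁻¹ = g at *
  have h8 : x * (x * v * x⁻¹) * x⁻¹ = g * v := by rw [← hg, inv_mul_cancel_right]
  refine mC.2 ?_
  calc x * v * x⁻¹ = x * (x * (x * (x * v * x⁻¹) * x⁻¹) * x⁻¹) * x⁻¹ := by rw [h7]
    _ = x * (x * (g * v) * x⁻¹) * x⁻¹ := by rw [h8]
    _ = x * (x * g * x⁻¹) * x⁻¹ * (x * (x * v * x⁻¹) * x⁻¹) := by group
    _ = v := by rw [h6, h6, h8, ← mul_assoc, h5, one_mul]

end H30.GS
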