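import Cfsg.Agent.H63.KgvSpec

/-! Tower KGV: job PW2 (power sums of the roots of a characteristic polynomial). -/

set_option autoImplicit false

namespace H30.KgvPW2

open Polynomial Finset H63.Kgv

theorem pw_map {F L : Type} [Field F] [Field L] (φ : F →+* L) (r : ℕ) (f : F[X]) (hf : f.Monic) :
    pw r (f.map φ) = φ (pw r f) := by
  have hrev : (f.map φ).reverse = f.reverse.map φ := by
    rw [reverse, reverse, natDegree_map, reflect_map]
  have hc : PowerSeries.constantCoeff ((f.reverse : F[X]) : PowerSeries F) ≠ 0 := by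
    rw [← PowerSeries.coeff_zero_eq_constantCoeff_apply, Polynomial.coeff_coe, coeff_zero_reverse,
      hf.leadingCoeff]
    exact one_ne_zero
  have hc' : PowerSeries.constantCoeff
      (PowerSeries.map φ ((f.reverse : F[X]) : PowerSeries F)) ≠ 0 := by
    rw [← PowerSeries.coeff_zero_eq_constantCoeff_apply, PowerSeries.coeff_map,
      PowerSeries.coeff_zero_eq_constantCoeff_apply]
    exact (map_ne_zero φ).2 hc
  have hinv : (PowerSeries.map φ ((f.reverse : F[X]) : PowerSeries F))⁻¹ =
      PowerSeries.map φ (((f.reverse : F[X]) : PowerSeries F)⁻¹) := by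
    symm
    rw [PowerSeries.eq_inv_iff_mul_eq_one hc', ← map_mul, PowerSeries.inv_mul_cancel _ hc, map_one]
  unfold pw
  rw [hrev, derivative_map, Polynomial.polynomial_map_coe, Polynomial.polynomial_map_coe, hinv,
    ← PowerSeries.coeff_map, (PowerSeries.map φ).map_mul, (PowerSeries.map φ).map_neg,
    (PowerSeries.map φ).map_mul, PowerSeries.map_X]

theorem cp_map (F L : Type) [Field F] [Fintype F] [Field L] [Fintype L] [Algebra F L] (a : L) :
    (cp F a).map (algebraMap F L) = ∏ σ : L ≃ₐ[F] L, (X - C (σ a)) := by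
  classical
  let b := Module.finBasis F L
  have hcard : Fintype.card (L ≃ₐ[F] L) = Module.finrank F L := by
    rw [← Nat.card_eq_fintype_card]; exact IsGalois.card_aut_eq_finrank F L
  let e : Fin (Module.finrank F L) ≃ (L ≃ₐ[F] L) := (Fintype.equivFinOfCardEq hcard).symm
  let P : Matrix (Fin (Module.finrank F L)) (Fin (Module.finrank F L)) L := fun i j => e i (b j)
  let M := (LinearMap.toMatrix b b (Algebra.lmul F L a)).map (algebraMap F L)
  have hPM : P * M = Matrix.diagonal (fun i => e i a) * P := by
    ext i j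
    rw [Matrix.diagonal_mul, Matrix.mul_apply]
    have h1 : a * b j = ∑ k, (b.repr (a * b j) k) • b k := (b.sum_repr _).symm
    show _ = e i a * e i (b j)
    rw [← map_mul, h1, map_sum]
    refine Finset.sum_congr rfl fun k _ => ?_
    simp [P, M, LinearMap.toMatrix_apply, Algebra.smul_def, mul_comm]
  have hdet : P.det ≠ 0 := by
    intro h0
    obtain ⟨v, hv, hvP⟩ := Matrix.exists_vecMul_eq_zero_iff.2 h0
    have li : LinearIndependent L fun i => ((e i : L →ₐ[F] L).toLinearMap) :=
      (linearIndependent_algHom_toLinearMap F L L).comp (fun i => (e i : L →ₐ[F] L))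
        (AlgEquiv.coe_toAlgHom_injective.comp e.injective)
    refine hv (funext fun i => Fintype.linearIndependent_iff.1 li v ?_ i)
    refine b.ext fun j => ?_
    have := congrFun hvP j
    simpa [Matrix.vecMul, dotProduct, P, LinearMap.sum_apply] using this
  have hu : IsUnit P.det := isUnit_iff_ne_zero.2 hdet
  have hM : M = P⁻¹ * (Matrix.diagonal (fun i => e i a) * P) := by
    rw [← hPM, ← mul_assoc, Matrix.nonsing_inv_mul _ hu, one_mul]
  have h2 : (cp F a).map (algebraMap F L) = M.charpoly := by
    rw [cp, ← LinearMap.charpoly_toMatrix _ b, Matrix.charpoly_map]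
  rw [h2, hM, Matrix.charpoly_mul_comm, mul_assoc, Matrix.mul_nonsing_inv _ hu, mul_one,
    Matrix.charpoly_diagonal]
  exact Equiv.prod_comp e fun σ => X - C (σ a)

theorem job : H63.Kgv.JPW2 := by
  intro h1 F L _ _ _ _ _ ψ χ r a hr
  obtain ⟨hm, -, -, -, hx⟩ := h1 L
  have hone : pw r (1 : L[X]) = 0 := by
    have := hm r 1 1 monic_one monic_one
    rw [mul_one] at this
    exact left_eq_add.1 this
  have hprod : ∀ s : Finset (L ≃ₐ[F] L),
      pw r (∏ σ ∈ s, (X - C (σ a))) = ∑ σ ∈ s, σ (a ^ r) := by
    classical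
    intro s
    induction s using Finset.induction_on with
    | empty => simpa using hone
    | insert σ s hσ ih =>
      rw [prod_insert hσ, sum_insert hσ, hm r _ _ (monic_X_sub_C _)
        (monic_prod_of_monic _ _ fun τ _ => monic_X_sub_C _), ih, hx r _ hr, map_pow]
  have htr : pw r (cp F a) = Algebra.trace F L (a ^ r) := by
    apply (algebraMap F L).injective
    rw [← pw_map _ r (cp F a) (LinearMap.charpoly_monic _), trace_eq_sum_automorphisms]
    exact (congrArg (pw r) (cp_map F L a)).trans (hprod _)
  have hn : (-1) ^ (cp F a).natDegree * (cp F a).coeff 0 = Algebra.norm F a := by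
    rw [Algebra.norm_apply, LinearMap.det_eq_sign_charpoly_coeff, cp, LinearMap.charpoly_natDegree]
  rw [lam, htr, hn]

end H30.KgvPW2
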