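import Cfsg.Agent.H45.MSpec3
import Cfsg.Agent.H29.L23a

/-! Local analysis for the order of `M₂₄`: the character lemma and counting tools. -/

set_option autoImplicit false
set_option maxHeartbeats 400000

namespace H30.L24

open Subgroup Cfsg H98 LinearMap

universe u

theorem rank_one {W : Type*} [AddCommGroup W] [Module ℂ W] [FiniteDimensional ℂ W]
    {e X : Module.End ℂ W} (he : IsIdempotentElem e) (h1 : trace ℂ W e = 1)
    (hc : e * X = X * e) : e * X = trace ℂ W (e * X) • e := by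
  have h2 := (LinearMap.IsIdempotentElem.isProj_range e he).trace
  rw [h1] at h2
  obtain ⟨u, -, hu⟩ := finrank_eq_one_iff'.1 (show Module.finrank ℂ (range e) = 1 by
    exact_mod_cast h2.symm)
  obtain ⟨w, hw⟩ := u.2
  obtain ⟨c, hc'⟩ := hu ⟨X u, X w, by rw [← hw]; exact LinearMap.congr_fun hc w⟩
  have e1 : e * X = c • e := by
    ext v
    obtain ⟨d, hd⟩ := hu ⟨e v, v, rfl⟩
    have hd' : d • (u : W) = e v := congrArg Subtype.val hd
    have hc'' : c • (u : W) = X u := congrArg Subtype.val hc'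
    rw [hc, Module.End.mul_apply, LinearMap.smul_apply, ← hd', map_smul, ← hc'', smul_comm]
  rw [e1, map_smul, h1, smul_eq_mul, mul_one]

variable {G : Type u} [Group G] [Finite G]

theorem key {χ : G → ℂ} {z : G} (ch : IsCharacter G χ) (re : ∀ g, χ g⁻¹ = χ g) (one : χ 1 = 23)
    (xz : χ z = 7) (inv : ∀ t : G, orderOf t = 2 → χ t = 7 ∨ χ t = -1) {V : Subgroup G}
    (hV : ∀ v ∈ V, v * v = 1) (hz : z ∈ V) {a b c : G} (ha : a ∈ V) (hb : b ∈ V) (hc : c ∈ V)
    (n : ∀ w ∈ ({a, b, c, a * b, a * c, b * c, a * (b * c)} : Set G), w ∉ zpowers z)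
    (all : (∀ v ∈ V, v ∉ zpowers z → χ (z * v) = χ v) ∨ ∀ v ∈ V, v ∉ zpowers z → χ (z * v) ≠ χ v)
    {x : G} (hx : x ∈ centralizer (V : Set G)) (h2 : IsPGroup 2 (zpowers x)) : x * x = 1 := by
  have := Fact.mk Nat.prime_two
  obtain ⟨m, ρ, rfl⟩ := ch
  let T := trace ℂ (Fin m → ℂ)
  let pr : ℂ → G → Module.End ℂ (Fin m → ℂ) := fun s g => (2⁻¹ : ℂ) • (1 + s • ρ g)
  have vi : ∀ v ∈ V, v⁻¹ = v := fun v hv => inv_eq_of_mul_eq_one_right (hV v hv)
  have cm : ∀ v ∈ V, ∀ w ∈ V, v * w = w * v := fun v hv w hw => by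
    rw [← vi _ (mul_mem hv hw), mul_inv_rev, vi v hv, vi w hw]
  have idem : ∀ s : ℂ, s * s = 1 → ∀ g ∈ V, IsIdempotentElem (pr s g) := fun s hs g hg => by
    simp only [IsIdempotentElem, pr, smul_mul_assoc, mul_smul_comm, add_mul, mul_add, one_mul,
      mul_one, ← map_mul, hV g hg, map_one, smul_add, smul_smul]
    have : (2⁻¹ * s * (2⁻¹ * s) : ℂ) = 4⁻¹ := by linear_combination (4⁻¹ : ℂ) * hs
    rw [this]
    module
  have c1 : ∀ (s : ℂ) (g h : G), g * h = h * g → Commute (pr s g) (ρ h) := fun s g h e =>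
    ((Commute.one_left _).add_left
      ((show Commute (ρ g) (ρ h) from (Commute.map e ρ)).smul_left s)).smul_left _
  have c2 : ∀ (s t : ℂ) (g h : G), g * h = h * g → Commute (pr s g) (pr t h) := fun s t g h e =>
    ((Commute.one_right _).add_right ((c1 s g h e).smul_right t)).smul_right _
  let θ : G → ℂ := fun h => T (pr (-1) z * ρ h)
  have hθ : ∀ h, θ h = 2⁻¹ * (ρ.character h - ρ.character (z * h)) := fun h => by
    simp only [θ, pr, smul_mul_assoc, add_mul, one_mul, ← map_mul, map_smul, map_add, smul_eq_mul]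
    simp only [Representation.character, T]
    ring
  have θ1 : θ 1 = 8 := by rw [hθ, mul_one, one, xz]; norm_num
  let e : ℂ → ℂ → ℂ → Module.End ℂ (Fin m → ℂ) := fun s t u => pr (-1) z * (pr s a * (pr t b * pr u c))
  have ex : ∀ s t u h, T (e s t u * ρ h) = 8⁻¹ * (θ h + s * θ (a * h) + t * θ (b * h) +
      u * θ (c * h) + s * t * θ (a * b * h) + s * u * θ (a * c * h) + t * u * θ (b * c * h) +
      s * t * u * θ (a * (b * c) * h)) := fun s t u h => by
    simp only [e, θ, mul_assoc]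
    generalize pr (-1) z = p
    simp only [pr, smul_mul_assoc, add_mul, one_mul, mul_add, mul_smul_comm, map_add, map_smul,
      ← map_mul, smul_eq_mul]
    ring
  have ei : ∀ s t u : ℂ, s * s = 1 → t * t = 1 → u * u = 1 → IsIdempotentElem (e s t u) :=
    fun s t u hs ht hu => IsIdempotentElem.mul_of_commute
      ((c2 _ _ _ _ (cm z hz a ha)).mul_right
        ((c2 _ _ _ _ (cm z hz b hb)).mul_right (c2 _ _ _ _ (cm z hz c hc))))
      (idem _ (by norm_num) z hz) (IsIdempotentElem.mul_of_commute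
        ((c2 _ _ _ _ (cm a ha b hb)).mul_right (c2 _ _ _ _ (cm a ha c hc))) (idem s hs a ha)
        (IsIdempotentElem.mul_of_commute (c2 _ _ _ _ (cm b hb c hc)) (idem t ht b hb)
          (idem u hu c hc)))
  have mem : ∀ w ∈ ({a, b, c, a * b, a * c, b * c, a * (b * c)} : Set G), w ∈ V := by
    rintro _ (rfl | rfl | rfl | rfl | rfl | rfl | rfl) <;> simp only [mul_mem, ha, hb, hc]
  have o2 : ∀ t : G, t * t = 1 → t ≠ 1 → orderOf t = 2 := fun t h1 h2 =>
    orderOf_eq_prime (by rw [pow_two, h1]) h2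
  rcases all with all | all
  swap
  · exfalso
    have k : ∀ w ∈ ({a, b, c, a * b, a * c, b * c, a * (b * c)} : Set G),
        ∃ k : ℤ, θ (w * 1) = 8 * k + 4 := fun w hw => by
      have h3 := all w (mem w hw) (n w hw)
      rw [mul_one, hθ]
      rcases inv w (o2 w (hV w (mem w hw)) fun k => n w hw (k ▸ one_mem _)) with e1 | e1 <;>
      rcases inv (z * w) (o2 _ (hV _ (mul_mem hz (mem w hw))) fun k => n w hw (by
        rw [eq_inv_of_mul_eq_one_right k]; exact inv_mem (mem_zpowers z))) with e2 | e2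
      · exact absurd (e2.trans e1.symm) h3
      · exact ⟨0, by rw [e1, e2]; norm_num⟩
      · exact ⟨-1, by rw [e1, e2]; norm_num⟩
      · exact absurd (e2.trans e1.symm) h3
    obtain ⟨k1, e1⟩ := k a (by simp)
    obtain ⟨k2, e2⟩ := k b (by simp)
    obtain ⟨k3, e3⟩ := k c (by simp)
    obtain ⟨k4, e4⟩ := k (a * b) (by simp)
    obtain ⟨k5, e5⟩ := k (a * c) (by simp)
    obtain ⟨k6, e6⟩ := k (b * c) (by simp)
    obtain ⟨k7, e7⟩ := k (a * (b * c)) (by simp)
    have h3 := ex 1 1 1 1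
    rw [map_one, mul_one, θ1, e1, e2, e3, e4, e5, e6, e7,
      (LinearMap.IsIdempotentElem.isProj_range _ (ei 1 1 1 (mul_one 1) (mul_one 1) (mul_one 1))).trace]
      at h3
    generalize Module.finrank ℂ (range (e 1 1 1)) = r at h3
    have : (8 * r : ℂ) = 36 + 8 * (k1 + k2 + k3 + k4 + k5 + k6 + k7) := by rw [h3]; ring
    have : (8 * r : ℤ) = 36 + 8 * (k1 + k2 + k3 + k4 + k5 + k6 + k7) := by exact_mod_cast this
    omega
  have k : ∀ w ∈ ({a, b, c, a * b, a * c, b * c, a * (b * c)} : Set G), θ (w * 1) = 0 :=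
    fun w hw => by rw [mul_one, hθ, all w (mem w hw) (n w hw), sub_self, mul_zero]
  have k' : ∀ w ∈ V, θ (w * x⁻¹) = θ (w * x) := fun w hw => by
    have : ∀ w ∈ V, ρ.character (w * x⁻¹) = ρ.character (w * x) := fun w hw => by
      rw [← re, mul_inv_rev, inv_inv, vi w hw, hx w hw]
    rw [hθ, hθ, this w hw, ← mul_assoc, ← mul_assoc, this _ (mul_mem hz hw)]
  have e1 : ∀ s t u : ℂ, s * s = 1 → t * t = 1 → u * u = 1 → e s t u * ρ x⁻¹ = e s t u * ρ x :=
    fun s t u hs ht hu => by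
      have t1 : T (e s t u) = 1 := by
        have := ex s t u 1
        rw [map_one, mul_one, θ1, k a (by simp), k b (by simp), k c (by simp), k (a * b) (by simp),
          k (a * c) (by simp), k (b * c) (by simp), k (a * (b * c)) (by simp)] at this
        rw [this]; norm_num
      have cc : ∀ y ∈ centralizer (V : Set G), e s t u * ρ y = ρ y * e s t u := fun y hy =>
        (c1 _ _ _ (hy z hz)).mul_left ((c1 _ _ _ (hy a ha)).mul_left
          ((c1 _ _ _ (hy b hb)).mul_left (c1 _ _ _ (hy c hc))))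
      rw [rank_one (ei s t u hs ht hu) t1 (cc _ (inv_mem hx)), rank_one (ei s t u hs ht hu) t1 (cc _ hx)]
      congr 1
      change T _ = T _
      have := k' 1 (one_mem _)
      rw [one_mul, one_mul] at this
      rw [ex, ex, this, k' a ha, k' b hb, k' c hc, k' _ (mul_mem ha hb), k' _ (mul_mem ha hc),
        k' _ (mul_mem hb hc), k' _ (mul_mem ha (mul_mem hb hc))]
  have sm : ∀ g, pr 1 g + pr (-1) g = 1 := fun g => by simp only [pr]; module
  have e2 : pr (-1) z = e 1 1 1 + e 1 1 (-1) + (e 1 (-1) 1 + e 1 (-1) (-1)) +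
      (e (-1) 1 1 + e (-1) 1 (-1) + (e (-1) (-1) 1 + e (-1) (-1) (-1))) := by
    simp only [e, ← mul_add, sm, mul_one]
  have e3 : pr (-1) z * ρ x⁻¹ = pr (-1) z * ρ x := by
    have p : (1 : ℂ) * 1 = 1 := mul_one 1
    have q : (-1 : ℂ) * -1 = 1 := by norm_num
    rw [e2]
    simp only [add_mul, e1 _ _ _ p p p, e1 _ _ _ p p q, e1 _ _ _ p q p, e1 _ _ _ p q q,
      e1 _ _ _ q p p, e1 _ _ _ q p q, e1 _ _ _ q q p, e1 _ _ _ q q q]
  have e4 : ∀ j : ℕ, pr (-1) z * ρ ((x * x) ^ j) = pr (-1) z := fun j => by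
    induction j with
    | zero => simp
    | succ j ih =>
      rw [pow_succ', map_mul, map_mul, ← mul_assoc, ← mul_assoc, ← e3, mul_assoc (pr _ _),
        ← map_mul, inv_mul_cancel, map_one, mul_one, ih]
  by_contra n1
  obtain ⟨t, ht⟩ := exists_prime_orderOf_dvd_card' (G := zpowers (x * x)) 2
    ((h2.to_le (zpowers_le.2 (mul_mem (mem_zpowers x) (mem_zpowers x)))).card_eq_or_dvd.resolve_left
      fun k => n1 (zpowers_eq_bot.1 (card_eq_one.1 k)))
  obtain ⟨j, hj⟩ := mem_powers_iff_mem_zpowers.2 t.2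
  have t2 : orderOf (t : G) = 2 := by rw [orderOf_coe, ht]
  have h8 : θ t = 8 := by
    rw [← θ1, ← hj]
    simp only [θ, e4, map_one, mul_one]
  have tt : (t : G) * t = 1 := by rw [← pow_two, ← t2, pow_orderOf_eq_one]
  have tc : (t : G) ∈ centralizer (V : Set G) := zpowers_le.2 (mul_mem hx hx) t.2
  rw [hθ] at h8
  by_cases k : z * t = 1
  · rw [k, one] at h8
    rcases inv t t2 with e | e <;> rw [e] at h8 <;> norm_num at h8
  · have := o2 (z * t) (by
      rw [mul_assoc, ← mul_assoc (t : G), ← tc z hz, mul_assoc, tt, mul_one, hV z hz]) k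
    rcases inv t t2 with e | e <;> rcases inv _ this with e' | e' <;> rw [e, e'] at h8 <;>
      norm_num at h8

theorem two_mul_le {X Y : Subgroup G} (h : X < Y) : 2 * Nat.card X ≤ Nat.card Y := by
  obtain ⟨k, hk⟩ := card_dvd_of_le h.le
  have h1 : Nat.card X ≠ Nat.card Y := fun e => h.ne (eq_of_le_of_card_ge h.le e.ge)
  have h2 : 0 < Nat.card Y := Nat.card_pos
  rcases k with _ | _ | k
  · omega
  · omega
  · nlinarith

theorem card_sup_le {A : Subgroup G} {a : G} (ha : a * a = 1) (h : ∀ x ∈ A, x * a = a * x) :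
    Nat.card (A ⊔ zpowers a : Subgroup G) ≤ 2 * Nat.card A := by
  have h1 := Nat.le_of_dvd (Nat.mul_pos Nat.card_pos Nat.card_pos) (H46.card_sup_dvd (K := A)
    (H := zpowers a) (zpowers_le.2 (centralizer_le_normalizer _ h)))
  have h2 : Nat.card (zpowers a) ≤ 2 := by
    rw [Nat.card_zpowers]
    exact Nat.le_of_dvd two_pos (orderOf_dvd_of_pow_eq_one (by rw [pow_two, ha]))
  nlinarith

theorem gen3 {V : Subgroup G} (hV : ∀ v ∈ V, v * v = 1) (h8 : Nat.card V = 8) :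
    ∃ a ∈ V, ∃ b ∈ V, ∃ c ∈ V,
      (∀ w ∈ ({a, b, c, a * b, a * c, b * c, a * (b * c)} : Set G), w ≠ 1) ∧
      ∀ K : Subgroup G, a ∈ K → b ∈ K → c ∈ K → V ≤ K := by
  have vi : ∀ v ∈ V, v⁻¹ = v := fun v hv => inv_eq_of_mul_eq_one_right (hV v hv)
  have cm : ∀ v ∈ V, ∀ w ∈ V, v * w = w * v := fun v hv w hw => by
    rw [← vi _ (mul_mem hv hw), mul_inv_rev, vi v hv, vi w hw]
  have step : ∀ A ≤ V, Nat.card A < 8 → ∃ a ∈ V, a ∉ A ∧ A ⊔ zpowers a ≤ V ∧
      Nat.card (A ⊔ zpowers a : Subgroup G) = 2 * Nat.card A := fun A hA h => by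
    obtain ⟨a, ha, n⟩ := SetLike.not_le_iff_exists.1 fun k : V ≤ A => by
      have := card_le_of_le k
      omega
    exact ⟨a, ha, n, sup_le hA (zpowers_le.2 ha), le_antisymm
      (card_sup_le (hV a ha) fun x hx => cm x (hA hx) a ha)
      (two_mul_le (lt_of_le_of_ne le_sup_left fun k => n (k.ge (mem_sup_right (mem_zpowers a)))))⟩
  obtain ⟨a, ha, a1, a2, a3⟩ := step ⊥ bot_le (by simp)
  rw [card_bot] at a3
  obtain ⟨b, hb, b1, b2, b3⟩ := step _ a2 (by omega)
  obtain ⟨c, hc, c1, c2, c3⟩ := step _ b2 (by omega)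
  have ma : a ∈ (⊥ : Subgroup G) ⊔ zpowers a := mem_sup_right (mem_zpowers a)
  have ma' : a ∈ (⊥ : Subgroup G) ⊔ zpowers a ⊔ zpowers b := mem_sup_left ma
  have mb : b ∈ (⊥ : Subgroup G) ⊔ zpowers a ⊔ zpowers b := mem_sup_right (mem_zpowers b)
  refine ⟨a, ha, b, hb, c, hc, ?_, fun K h1 h2 h3 => (eq_of_le_of_card_ge c2 (by omega)).ge.trans
    (sup_le (sup_le (sup_le bot_le (zpowers_le.2 h1)) (zpowers_le.2 h2)) (zpowers_le.2 h3))⟩
  rintro _ (rfl | rfl | rfl | rfl | rfl | rfl | rfl) e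
  · exact a1 e
  · exact b1 (e ▸ one_mem _)
  · exact c1 (e ▸ one_mem _)
  · exact b1 ((mul_mem_cancel_left ma).1 (e ▸ one_mem _))
  · exact c1 ((mul_mem_cancel_left ma').1 (e ▸ one_mem _))
  · exact c1 ((mul_mem_cancel_left mb).1 (e ▸ one_mem _))
  · exact c1 ((mul_mem_cancel_left mb).1 ((mul_mem_cancel_left ma').1 (e ▸ one_mem _)))

theorem card_dvd_ncard {K : Subgroup G} {S : Set G} (h : ∀ s ∈ S, ∀ k ∈ K, s * k ∈ S) :
    Nat.card K ∣ S.ncard := by
  have e : S = QuotientGroup.mk ⁻¹' ((QuotientGroup.mk : G → G ⧸ K) '' S) := by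
    refine Set.Subset.antisymm (Set.subset_preimage_image _ _) ?_
    rintro x ⟨s, hs, e⟩
    simpa using h s hs _ (QuotientGroup.eq.1 e)
  rw [← Nat.card_coe_set_eq, e, Nat.card_congr (QuotientGroup.preimageMkEquivSubgroupProdSet K _),
    Nat.card_prod]
  exact Dvd.intro _ rfl

/-- An element of order `7` without fixed points is transitive on a section of order `8`. -/
theorem all_of {y : G} (hy : y ^ 7 = 1) {K L : Subgroup G} (hKL : K ≤ L) (h7 : ¬ 7 ∣ Nat.card K)
    (h8 : Nat.card L = 8 * Nat.card K) (P : G → Prop) (yL : y ∈ normalizer (L : Set G))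
    (yK : y ∈ normalizer (K : Set G)) (fx : ∀ x ∈ L, y * x * y⁻¹ = x → x ∈ K)
    (h1 : ∀ x ∈ L, P x → P (y * x * y⁻¹)) (h2 : ∀ x ∈ L, ∀ k ∈ K, P x → P (x * k))
    {x : G} (hx : x ∈ L) (hx' : x ∉ K) (hP : P x) : ∀ w ∈ L, w ∉ K → P w := by
  have := Fact.mk (by norm_num : Nat.Prime 7)
  set S : Set G := {x | x ∈ L ∧ x ∉ K ∧ P x}
  have d1 : Nat.card K ∣ S.ncard := card_dvd_ncard fun s hs k hk =>
    ⟨mul_mem hs.1 (hKL hk), fun e => hs.2.1 ((mul_mem_cancel_right hk).1 e), h2 s hs.1 k hk hs.2.2⟩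
  have d2 : 7 ∣ S.ncard := by
    have := H83.Ord.act_modEq (g := ConjAct.toConjAct y) (p := 7)
      (by rw [← map_pow, hy, map_one]) S fun s hs => ⟨conj_mem_of_mem_normalizer yL hs.1,
        fun e : y * s * y⁻¹ ∈ K => hs.2.1 (by simpa [mul_assoc] using conj_mem_of_mem_normalizer' yK e),
        h1 s hs.1 hs.2.2⟩
    have e : IsEmpty {x : S // ConjAct.toConjAct y • (x : G) = x} :=
      ⟨fun x => x.1.2.2.1 (fx _ x.1.2.1 x.2)⟩
    rw [@Nat.card_of_isEmpty _ e] at this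
    exact (Nat.modEq_zero_iff_dvd).1 this
  have d3 := Nat.le_of_dvd ((Set.ncard_pos (Set.toFinite S)).2 ⟨x, hx, hx', hP⟩)
    (Nat.Coprime.mul_dvd_of_dvd_of_dvd ((Nat.Prime.coprime_iff_not_dvd this.out).2 h7) d2 d1)
  have e : S = (L : Set G) \ K := Set.eq_of_subset_of_ncard_le (fun s hs => ⟨hs.1, hs.2.1⟩) (by
    rw [Set.ncard_diff hKL]
    change Nat.card L - Nat.card K ≤ _
    omega)
  exact fun w hw hw' => (e.ge ⟨hw, hw'⟩).2.2

end H30.L24
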