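import Cfsg.Agent.H30.L24a
import Cfsg.Agent.H29.L23b

/-! Local analysis for the order of `M₂₄`. -/

set_option autoImplicit false
set_option maxHeartbeats 400000

namespace H30.L24

open Subgroup Cfsg H98 H78

universe u

theorem poly7 {A : Type u} [CommGroup A] [Finite A] [Nontrivial A] (sq : ∀ a : A, a * a = 1)
    (φ : MulAut A) (h7 : φ ^ 7 = 1) (fpf : ∀ a, φ a = a → a = 1) :
    ∃ K : Subgroup A, K ≠ ⊥ ∧ (∀ a ∈ K, φ a ∈ K) ∧ Nat.card K ≤ 8 := by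
  obtain ⟨v, v1, hv⟩ : ∃ v : A, v ≠ 1 ∧ (φ (φ (φ v)) = v * φ v ∨ φ (φ (φ v)) = v * φ (φ v)) := by
    obtain ⟨u, u1⟩ := exists_ne (1 : A)
    have iv : ∀ a b : A, a * b = 1 → b = a := fun a b e => by
      rw [eq_inv_of_mul_eq_one_right e, inv_eq_of_mul_eq_one_right (sq a)]
    by_cases k : u * φ (φ u) * φ (φ (φ u)) = 1
    · exact ⟨u, u1, Or.inr (iv _ _ k)⟩
    refine ⟨_, k, Or.inl (iv _ _ ?_)⟩
    have e : φ (φ (φ (φ (φ (φ (φ u)))))) = u := by
      simpa [pow_succ] using congrArg (fun ψ : MulAut A => ψ u) h7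
    have := fpf (u * φ u * φ (φ u) * φ (φ (φ u)) * φ (φ (φ (φ u))) * φ (φ (φ (φ (φ u)))) *
      φ (φ (φ (φ (φ (φ u)))))) (by simp only [map_mul, e]; ac_rfl)
    rw [← mul_one 1]
    nth_rw 2 [← sq (φ (φ (φ u)))]
    rw [← this]
    simp only [map_mul]
    ac_rfl
  have m1 : v ∈ ⊥ ⊔ zpowers v ⊔ zpowers (φ v) ⊔ zpowers (φ (φ v)) :=
    mem_sup_left (mem_sup_left (mem_sup_right (mem_zpowers _)))
  have m2 : φ v ∈ ⊥ ⊔ zpowers v ⊔ zpowers (φ v) ⊔ zpowers (φ (φ v)) :=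
    mem_sup_left (mem_sup_right (mem_zpowers _))
  have m3 : φ (φ v) ∈ ⊥ ⊔ zpowers v ⊔ zpowers (φ v) ⊔ zpowers (φ (φ v)) :=
    mem_sup_right (mem_zpowers _)
  refine ⟨⊥ ⊔ zpowers v ⊔ zpowers (φ v) ⊔ zpowers (φ (φ v)), fun k => v1 (mem_bot.1 (k ▸ m1)),
    fun a ha => (sup_le (sup_le (sup_le bot_le (zpowers_le.2 m2)) (zpowers_le.2 m3))
      (zpowers_le.2 ?_) : _ ≤ comap (φ : A →* A)
        (⊥ ⊔ zpowers v ⊔ zpowers (φ v) ⊔ zpowers (φ (φ v)))) ha, ?_⟩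
  · change φ (φ (φ v)) ∈ ⊥ ⊔ zpowers v ⊔ zpowers (φ v) ⊔ zpowers (φ (φ v))
    rcases hv with e | e <;> rw [e]
    · exact mul_mem m1 m2
    · exact mul_mem m1 m3
  · have a1 := card_sup_le (A := ⊥) (sq v) fun x _ => mul_comm _ _
    have a2 := card_sup_le (A := ⊥ ⊔ zpowers v) (sq (φ v)) fun x _ => mul_comm _ _
    have a3 := card_sup_le (A := ⊥ ⊔ zpowers v ⊔ zpowers (φ v)) (sq (φ (φ v))) fun x _ => mul_comm _ _
    rw [card_bot] at a1
    omega

/-- The situation in the centralizer of `z`. -/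
structure Hy {H : Type u} [Group H] (z y : H) (χ : H → ℂ) : Prop where
  card : Nat.card H = 21504
  oz : orderOf z = 2
  cz : ∀ g, g * z = z * g
  oy : orderOf y = 7
  cy : centralizer {y} ≤ zpowers y ⊔ zpowers z
  ni : ∀ g, g * y * g⁻¹ ≠ y⁻¹
  rk : ∀ U : Subgroup H, IsElementaryAbelian 2 U → Nat.card U ≤ 64
  ch : IsCharacter H χ
  re : ∀ g, χ g⁻¹ = χ g
  one : χ 1 = 23
  xz : χ z = 7
  inv : ∀ t : H, orderOf t = 2 → χ t = 7 ∨ χ t = -1

namespace Hy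

variable {H : Type u} [Group H] [Finite H] {z y : H} {χ : H → ℂ} (h : Hy z y χ)
include h

theorem zz : z * z = 1 := by rw [← pow_two, ← h.oz, pow_orderOf_eq_one]

theorem z1 : z ≠ 1 := fun e => by have := h.oz; rw [e, orderOf_one] at this; omega

theorem y7 : y ^ 7 = 1 := by rw [← h.oy, pow_orderOf_eq_one]

theorem cZ : Nat.card (zpowers z) = 2 := by rw [Nat.card_zpowers, h.oz]

theorem mZ {x : H} : x ∈ zpowers z ↔ x = 1 ∨ x = z := by
  classical
  rw [mem_zpowers_iff_mem_range_orderOf, h.oz]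
  simp [Finset.range_add_one, or_comm, eq_comm]

theorem cZ' {x : H} (hx : x ∈ zpowers z) (g : H) : g * x = x * g := by
  rcases h.mZ.1 hx with rfl | rfl
  · simp
  · exact h.cz g

theorem nZ : (zpowers z).Normal := ⟨fun x hx g => by rwa [h.cZ' hx, mul_inv_cancel_right]⟩

theorem fix {K : Subgroup H} (hK : IsPGroup 2 K) {x : H} (hx : x ∈ K) (e : y * x * y⁻¹ = x) :
    x ∈ zpowers z := by
  have := h.nZ
  have h1 := mem_map_of_mem (QuotientGroup.mk' (zpowers z))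
    (h.cy (mem_centralizer_singleton_iff.2 (mul_inv_eq_iff_eq_mul.1 e).symm))
  rw [Subgroup.map_sup, QuotientGroup.map_mk'_self, sup_bot_eq, MonoidHom.map_zpowers] at h1
  obtain ⟨n, hn⟩ := h1
  obtain ⟨k, hk⟩ := isPGroup_iff_forall.1 hK x hx
  have e1 : QuotientGroup.mk' (zpowers z) x ^ 7 = 1 := by
    rw [← hn, ← zpow_natCast, ← zpow_mul, mul_comm, zpow_mul, zpow_natCast, ← map_pow, h.y7, map_one,
      one_zpow]
  have e2 : QuotientGroup.mk' (zpowers z) x ^ 2 ^ k = 1 := by rw [← map_pow, hk, map_one]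
  have := pow_gcd_eq_one.2 ⟨e1, e2⟩
  rw [(Nat.Coprime.pow_right k (by norm_num : Nat.Coprime 7 2)).gcd_eq_one, pow_one] at this
  exact (QuotientGroup.eq_one_iff x).1 this

theorem cnt {K : Subgroup H} (hK : IsPGroup 2 K) (hz : z ∈ K) (hy : y ∈ normalizer (K : Set H)) :
    Nat.card K % 7 = 2 := by
  have := Fact.mk (by norm_num : Nat.Prime 7)
  have h1 := H83.Ord.conj_modEq h.y7 hy
  rwa [le_antisymm (fun x (hx : x ∈ K ⊓ centralizer {y}) => h.fix hK hx.1 (by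
      rw [← mem_centralizer_singleton_iff.1 hx.2, mul_inv_cancel_right]))
    (zpowers_le.2 (mem_inf.2 ⟨hz, mem_centralizer_singleton_iff.2 (h.cz y).symm⟩)), h.cZ] at h1

theorem exists_Q : ∃ Q : Subgroup H, Q.Normal ∧ IsPGroup 2 Q ∧ z ∈ Q ∧ 128 ≤ Nat.card Q ∧
    (Nat.card Q ≤ 128 → ∀ N : Subgroup H, N.Normal → ¬ N ≤ Q → y ∈ N) := by
  have := h.nZ
  have := Fact.mk Nat.prime_two
  have pZ : IsPGroup 2 (zpowers z) := IsPGroup.of_card (n := 1) h.cZ
  obtain ⟨h1, h2, h3⟩ := H29.S7.quot (N := zpowers z) (by rw [h.cZ]; norm_num) h.oy h.cy h.ni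
  have hc : Nat.card (H ⧸ zpowers z) = 21 * 2 ^ 9 := by
    have := (zpowers z).card_mul_index
    rw [h.cZ, h.card, index] at this
    omega
  obtain ⟨Q, nQ, pQ, hQ⟩ := H29.S7.jobS7 _ 9 _ hc h1 h2 h3
  let π := QuotientGroup.mk' (zpowers z)
  have sπ : Function.Surjective π := QuotientGroup.mk'_surjective _
  have pQ' : IsPGroup 2 (Q.comap π) := pQ.comap_of_ker_isPGroup _ (by rwa [QuotientGroup.ker_mk'])
  have hi := (Q.comap π).card_mul_index
  rw [index_comap_of_surjective _ sπ, h.card] at hi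
  refine ⟨Q.comap π, nQ.comap π, pQ', ?_, ?_, fun k N hN n => ?_⟩
  · rw [mem_comap, (QuotientGroup.eq_one_iff z).2 (mem_zpowers z) |> fun e : π z = 1 => e]
    exact one_mem _
  · rcases hQ with e | ⟨e, -⟩ <;> rw [e] at hi <;> omega
  rcases hQ with e | ⟨-, hs⟩
  · rw [e] at hi; omega
  have sψ : Function.Surjective ((QuotientGroup.mk' Q).comp π) :=
    (QuotientGroup.mk'_surjective Q).comp sπ
  have kψ : ∀ g, (QuotientGroup.mk' Q).comp π g = 1 ↔ g ∈ Q.comap π := fun g =>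
    QuotientGroup.eq_one_iff _
  rcases (hN.map _ sψ).eq_bot_or_eq_top with e | e
  · exact absurd (fun g hg => (kψ g).1 (mem_bot.1 (e ▸ mem_map_of_mem _ hg))) n
  obtain ⟨a, ha, e1⟩ := e.ge (mem_top ((QuotientGroup.mk' Q).comp π y))
  obtain ⟨j, hj⟩ := isPGroup_iff_forall.1 pQ' (a⁻¹ * y) ((kψ _).1 (by
    rw [map_mul, map_inv, e1, inv_mul_cancel]))
  have e2 : QuotientGroup.mk' N y ^ 2 ^ j = 1 := by
    have := congrArg (QuotientGroup.mk' N) hj
    rwa [map_pow, map_mul, map_inv, show QuotientGroup.mk' N a = 1 from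
      (QuotientGroup.eq_one_iff a).2 ha, inv_one, one_mul, map_one] at this
  have := pow_gcd_eq_one.2 ⟨(by rw [← map_pow, h.y7, map_one] : QuotientGroup.mk' N y ^ 7 = 1), e2⟩
  rw [(Nat.Coprime.pow_right j (by norm_num : Nat.Coprime 7 2)).gcd_eq_one, pow_one] at this
  exact (QuotientGroup.eq_one_iff y).1 this

theorem exists_V {Q : Subgroup H} [Q.Normal] (pQ : IsPGroup 2 Q) (zQ : z ∈ Q)
    (hQ : 128 ≤ Nat.card Q) : ∃ V ≤ Q, z ∈ V ∧ y ∈ normalizer (V : Set H) ∧ Nat.card V = 16 ∧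
      (∀ v ∈ V, v * v ∈ zpowers z) ∧ (∀ v ∈ V, ∀ q ∈ Q, v⁻¹ * (q * v * q⁻¹) ∈ zpowers z) ∧
      ∃ a ∈ V, ∃ b ∈ V, ∃ c ∈ V,
        (∀ w ∈ ({a, b, c, a * b, a * c, b * c, a * (b * c)} : Set H), w ∉ zpowers z) ∧
        ∀ K : Subgroup H, z ∈ K → a ∈ K → b ∈ K → c ∈ K → V ≤ K := by
  have := h.nZ
  have := Fact.mk Nat.prime_two
  let π := QuotientGroup.mk' (zpowers z)
  have sπ : Function.Surjective π := QuotientGroup.mk'_surjective _
  have kπ : ∀ {g}, π g = 1 ↔ g ∈ zpowers z := QuotientGroup.eq_one_iff _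
  have nQ := Normal.map (inferInstance : Q.Normal) π sπ
  have cQ : Q.map π ≠ ⊥ := fun e => by
    rw [Subgroup.map_eq_bot_iff, QuotientGroup.ker_mk'] at e
    have := card_le_of_le e
    rw [h.cZ] at this
    omega
  let Ω : Subgroup (H ⧸ zpowers z) :=
    { carrier := {x | x ∈ Q.map π ⊓ centralizer (Q.map π) ∧ x * x = 1}
      one_mem' := ⟨one_mem _, mul_one 1⟩
      mul_mem' := fun {a b} ha hb => ⟨mul_mem ha.1 hb.1, by
        rw [mul_assoc, ← mul_assoc b, ← hb.1.2 a ha.1.1, mul_assoc, hb.2, mul_one, ha.2]⟩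
      inv_mem' := fun {a} ha => ⟨inv_mem ha.1, by rw [← mul_inv_rev, ha.2, inv_one]⟩ }
  have nΩ : Ω.Normal := ⟨fun a ha g => ⟨Normal.conj_mem inferInstance a ha.1 g, by
    rw [conj_mul, ha.2, mul_one, mul_inv_cancel]⟩⟩
  have nt : Nontrivial Ω := by
    obtain ⟨t, ht⟩ := exists_prime_orderOf_dvd_card' (G := (Q.map π ⊓ centralizer (Q.map π) :)) 2
      (((pQ.map π).to_le inf_le_left).card_eq_or_dvd.resolve_left fun k => inf_centralizer_ne_bot
        (pQ.map π) (pQ.map π) le_normalizer cQ (card_eq_one.1 k))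
    refine ⟨⟨t, t.2, ?_⟩, 1, fun e => ?_⟩
    · rw [← pow_two, ← coe_pow, ← ht, pow_orderOf_eq_one, coe_one]
    · rw [show t = 1 from Subtype.ext (congrArg Subtype.val e :), orderOf_one] at ht
      omega
  letI : CommGroup Ω := { mul_comm := fun a b => Subtype.ext (b.2.1.2 a a.2.1.1) }
  have lift : ∀ x ∈ Q.map π, π y * x * (π y)⁻¹ = x → x = 1 := by
    obtain ⟨h1, h2, -⟩ := H29.S7.quot (N := zpowers z) (by rw [h.cZ]; norm_num) h.oy h.cy h.ni
    intro x hx e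
    obtain ⟨n, hn⟩ := h2.le (mem_centralizer_singleton_iff.2 (mul_inv_eq_iff_eq_mul.1 e).symm)
    obtain ⟨k, hk⟩ := isPGroup_iff_forall.1 (pQ.map π) x hx
    have e1 : x ^ 7 = 1 := by
      rw [← hn, ← zpow_natCast, ← zpow_mul, mul_comm, zpow_mul, zpow_natCast, ← h1,
        pow_orderOf_eq_one, one_zpow]
    have := pow_gcd_eq_one.2 ⟨e1, hk⟩
    rwa [(Nat.Coprime.pow_right k (by norm_num : Nat.Coprime 7 2)).gcd_eq_one, pow_one] at this
  obtain ⟨K, K1, K2, K3⟩ := poly7 (A := Ω) (fun a => Subtype.ext a.2.2) (MulAut.conjNormal (π y))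
    (by rw [← map_pow, ← map_pow, h.y7, map_one, map_one])
    fun a e => Subtype.ext (lift a a.2.1.1 (congrArg Subtype.val e))
  set W := K.map Ω.subtype with hW
  have WΩ : W ≤ Ω := map_subtype_le K
  have cW : Nat.card W = Nat.card K := card_map_of_injective Ω.subtype_injective
  have VQ : W.comap π ≤ Q := fun v hv => by
    obtain ⟨q, hq, e⟩ := (WΩ hv).1.1
    exact (mul_mem_cancel_left (inv_mem hq)).1 (zpowers_le.2 zQ (kπ.1 (by
      rw [map_mul, map_inv, e, inv_mul_cancel])))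
  have zV : z ∈ W.comap π := by rw [mem_comap, kπ.2 (mem_zpowers z)]; exact one_mem _
  have yV : y ∈ normalizer (W.comap π : Set H) := mem_normalizer_of_cj_le (by
    rintro _ ⟨v, ⟨w, hw, e⟩, rfl⟩
    refine ⟨_, K2 w hw, ?_⟩
    change π y * w * (π y)⁻¹ = π (y * v * y⁻¹)
    rw [map_mul, map_mul, map_inv, ← e]; rfl)
  have c1 := h.cnt (pQ.to_le VQ) zV yV
  have c2 := H46.card_mul_relIndex (zpowers_le.2 zV)
  have c3 : (zpowers z).relIndex (W.comap π) = Nat.card W := by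
    have := relIndex_ker (K := W.comap π) π
    rwa [map_comap_eq_self_of_surjective sπ, QuotientGroup.ker_mk'] at this
  have c4 : Nat.card K ≠ 1 := fun e => K1 (card_eq_one.1 e)
  rw [c3, h.cZ] at c2
  have c5 : Nat.card W = 8 := by omega
  obtain ⟨a, ha, b, hb, c, hc, n, gen⟩ := gen3 (fun v hv => (WΩ hv).2) c5
  obtain ⟨a, rfl⟩ := sπ a
  obtain ⟨b, rfl⟩ := sπ b
  obtain ⟨c, rfl⟩ := sπ c
  refine ⟨W.comap π, VQ, zV, yV, by omega, fun v hv => kπ.1 (by rw [map_mul]; exact (WΩ hv).2),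
    fun v hv q hq => kπ.1 ?_, a, ha, b, hb, c, hc, ?_, fun L l1 l2 l3 l4 v hv => ?_⟩
  · rw [map_mul, map_mul, map_mul, (WΩ hv).1.2 _ (mem_map_of_mem π hq), map_inv, map_inv]
    group
  · rintro _ (rfl | rfl | rfl | rfl | rfl | rfl | rfl) e <;> exact n _ (by simp) (kπ.2 e)
  · obtain ⟨l, hl, e⟩ := gen (L.map π) (mem_map_of_mem π l2) (mem_map_of_mem π l3)
      (mem_map_of_mem π l4) hv
    exact (mul_mem_cancel_left (inv_mem hl)).1 (zpowers_le.2 l1 (kπ.1 (by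
      rw [map_mul, map_inv, e, inv_mul_cancel])))

end Hy

end H30.L24
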