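import Cfsg.Agent.H30.L24b

/-! Local analysis for the order of `M₂₄`: job L24. -/

set_option autoImplicit false
set_option maxHeartbeats 400000

namespace H30.L24

open Subgroup Cfsg H98 H78

universe u

theorem pow_cases {n : ℕ} (h : n ∣ 16) : n = 1 ∨ n = 2 ∨ n = 4 ∨ n = 8 ∨ n = 16 := by
  have := Nat.le_of_dvd (by norm_num) h
  interval_cases n <;> simp_all

namespace Hy

variable {H : Type u} [Group H] [Finite H] {z y : H} {χ : H → ℂ} (h : Hy z y χ)
include h

theorem idx {K : Subgroup H} {v : H} (e : ∀ q ∈ K, v⁻¹ * (q * v * q⁻¹) ∈ zpowers z) :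
    (centralizer {v}).relIndex K ≤ 2 := by
  rw [← H29.S7.ncard_cls]
  refine le_trans (Set.ncard_le_ncard (t := {v, v * z}) ?_) (Set.ncard_insert_le _ _ |>.trans (by simp))
  rintro _ ⟨g, hg, rfl⟩
  rcases h.mZ.1 (e g hg) with k | k
  · exact Or.inl (inv_mul_eq_one.1 k).symm
  · exact Or.inr (inv_mul_eq_iff_eq_mul.1 k)

theorem main : ∃ Q : Subgroup H, Q.Normal ∧ IsPGroup 2 Q ∧ Nat.card Q = 128 ∧ XS Q z ∧
    centralizer (Q : Set H) ≤ Q ∧ ∀ N : Subgroup H, N.Normal → ¬ N ≤ Q → y ∈ N := by
  have := h.nZ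
  have := Fact.mk Nat.prime_two
  have := Fact.mk Nat.prime_three
  obtain ⟨Q, nQ, pQ, zQ, cQ, hN⟩ := h.exists_Q
  obtain ⟨V, VQ, zV, yV, cV, v2, vq, a, ha, b, hb, c, hc, n, gen⟩ := h.exists_V pQ zQ cQ
  have ZV := zpowers_le.2 zV
  have pV := pQ.to_le VQ
  have yZ : y ∈ normalizer (zpowers z : Set H) := le_normalizer_of_normal (mem_top y)
  have yQ : y ∈ normalizer (Q : Set H) := le_normalizer_of_normal (mem_top y)
  have tr : ∀ P : H → Prop, (∀ x ∈ V, P x → P (y * x * y⁻¹)) → (∀ x ∈ V, P x → P (x * z)) →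
      ∀ x ∈ V, x ∉ zpowers z → P x → ∀ w ∈ V, w ∉ zpowers z → P w := fun P h1 h2 x hx hx' hP =>
    all_of h.y7 ZV (by rw [h.cZ]; norm_num) (by rw [h.cZ, cV]) P yV yZ (fun x hx => h.fix pV hx) h1
      (fun x hx k hk e => by
        rcases h.mZ.1 hk with rfl | rfl
        · rwa [mul_one]
        · exact h2 x hx e) hx hx' hP
  have sq : ∀ v ∈ V, v * v = 1 := fun v hv => by
    refine (h.mZ.1 (v2 v hv)).resolve_right fun e => ?_
    have all := tr (fun x => x * x = z) (fun x _ e => by rw [conj_mul, e, h.cz, mul_inv_cancel_right])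
      (fun x _ e => by rw [mul_assoc, ← mul_assoc z, ← h.cz x, mul_assoc, h.zz, mul_one, e]) v hv
      (fun k => by
        rcases h.mZ.1 k with rfl | rfl
        · exact h.z1 (by simpa using e.symm)
        · exact h.z1 (e.symm.trans h.zz)) e
    have anti : ∀ s ∈ V, ∀ t ∈ V, s ∉ zpowers z → t ∉ zpowers z → s * t ∉ zpowers z →
        t * s = s * t * z := fun s hs t ht s1 t1 st => by
      have e1 := all s hs s1
      have e2 := all t ht t1
      have e3 := all _ (mul_mem hs ht) st
      have e4 : t * s * t = s := mul_left_cancel (a := s) (by rw [e1, ← e3]; group)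
      calc t * s = t * s * (z * z) := by rw [h.zz, mul_one]
        _ = t * s * t * t * z := by rw [mul_assoc _ t t, e2, mul_assoc (t * s)]
        _ = s * t * z := by rw [e4]
    have k1 := anti a ha b hb (n _ (by simp)) (n _ (by simp)) (n _ (by simp))
    have k2 := anti a ha c hc (n _ (by simp)) (n _ (by simp)) (n _ (by simp))
    have k3 := anti a ha _ (mul_mem hb hc) (n _ (by simp)) (n _ (by simp)) (n _ (by simp))
    rw [mul_assoc b, k2, ← mul_assoc, ← mul_assoc, k1, mul_left_inj, mul_assoc, ← h.cz, ← mul_assoc,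
      ← mul_assoc, mul_eq_left] at k3
    exact h.z1 k3
  have cj : ∀ g x, χ (g * x * g⁻¹) = χ x := fun g x => by
    obtain ⟨m, ρ, rfl⟩ := h.ch
    exact ρ.char_conj x g
  have kV : ∀ x ∈ centralizer (V : Set H), IsPGroup 2 (zpowers x) → x * x = 1 := fun x hx h2 =>
    key h.ch h.re h.one h.xz h.inv sq zV ha hb hc n (or_iff_not_imp_left.2 fun k => by
      push Not at k
      obtain ⟨v, hv, v1, e⟩ := k
      exact tr (fun x => χ (z * x) ≠ χ x) (fun x _ e => by
        rwa [cj, ← mul_assoc, ← mul_assoc, ← h.cz y, mul_assoc y, cj]) (fun x _ e => by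
        rw [h.cz x, ← mul_assoc, h.zz, one_mul]; exact e.symm) v hv v1 e) hx h2
  have eV := H29.S7.elem_of_sq sq
  have VC : V ≤ Q ⊓ centralizer (V : Set H) := le_inf VQ fun v hv w hw =>
    congrArg Subtype.val (eV.1.1.1 ⟨w, hw⟩ ⟨v, hv⟩)
  have CV : Q ⊓ centralizer (V : Set H) = V := by
    have p1 := pQ.to_le (inf_le_left : Q ⊓ centralizer (V : Set H) ≤ Q)
    have h1 := h.rk _ (H29.S7.elem_of_sq (E := Q ⊓ centralizer (V : Set H)) fun x hx =>
      kV x hx.2 (pQ.to_le (zpowers_le.2 hx.1)))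
    have h2 := h.cnt p1 (VC zV) (le_normalizer_inf (H := zpowers y) (zpowers_le.2 yQ)
      (zpowers_le.2 (normalizer_le_normalizer_centralizer V yV)) (mem_zpowers y))
    obtain ⟨k, hk⟩ := IsPGroup.iff_card.1 p1
    refine (eq_of_le_of_card_ge VC ?_).symm
    rw [hk] at h1 h2 ⊢
    have : k ≤ 6 := (Nat.pow_le_pow_iff_right (by norm_num)).1 (show 2 ^ k ≤ 2 ^ 6 from h1)
    interval_cases k <;> omega
  have c128 : Nat.card Q ≤ 128 := by
    have h1 : (centralizer {a} ⊓ centralizer {b} ⊓ centralizer {c} : Subgroup H) ⊓ Q ≤ V :=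
      fun q hq => CV.le ⟨hq.2, fun v hv => (mem_centralizer_singleton_iff.1 (gen (centralizer {q})
        (mem_centralizer_singleton_iff.2 (h.cz q).symm)
        (mem_centralizer_singleton_iff.2 (mem_centralizer_singleton_iff.1 hq.1.1.1).symm)
        (mem_centralizer_singleton_iff.2 (mem_centralizer_singleton_iff.1 hq.1.1.2).symm)
        (mem_centralizer_singleton_iff.2 (mem_centralizer_singleton_iff.1 hq.1.2).symm) hv))⟩
    have h2 := H46.card_mul_relIndex (inf_le_right :
      (centralizer {a} ⊓ centralizer {b} ⊓ centralizer {c} : Subgroup H) ⊓ Q ≤ Q)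
    have h3 := card_le_of_le h1
    rw [inf_relIndex_right] at h2
    have h4 := (relIndex_inf_le (L := Q)).trans (Nat.mul_le_mul ((relIndex_inf_le (L := Q)).trans
      (Nat.mul_le_mul (h.idx (vq a ha)) (h.idx (vq b hb)))) (h.idx (vq c hc)))
    rw [← h2]
    exact (Nat.mul_le_mul (h3.trans cV.le) h4).trans (by norm_num)
  have cQ' : Nat.card Q = 128 := le_antisymm c128 cQ
  replace hN := hN c128
  have yC : y ∉ centralizer (V : Set H) := fun k => n a (by simp) (h.fix pV ha (by
    rw [← k a ha, mul_inv_cancel_right]))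
  have cen : centralizer (Q : Set H) ≤ Q := by
    by_contra k
    exact yC (centralizer_anti VQ (hN _ inferInstance k))
  have ZQ : centralizer (Q : Set H) ≤ zpowers z := by
    have h1 : centralizer (Q : Set H) ≤ V := CV ▸ le_inf cen (centralizer_anti VQ)
    have h0 : z ∈ centralizer (Q : Set H) := fun g _ => h.cz g
    have h2 := h.cnt (pV.to_le h1) h0 (le_normalizer_of_normal (mem_top y))
    rcases pow_cases (cV ▸ card_dvd_of_le h1) with e | e | e | e | e <;> try omega
    · exact (eq_of_le_of_card_ge (zpowers_le.2 h0) (by rw [e, h.cZ])).ge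
    · have := card_le_of_le (CV ▸ le_inf le_rfl (le_centralizer_iff.1
        (eq_of_le_of_card_ge h1 (by omega)).ge) : Q ≤ V)
      omega
  have nV : Q ≤ normalizer (V : Set H) := fun q hq => mem_normalizer_of_cj_le (by
    rintro _ ⟨v, hv, rfl⟩
    exact (mul_mem_cancel_left (inv_mem hv)).1 (ZV (vq v hv q hq)))
  have q2 : ∀ q ∈ Q, q * q ∈ V := fun q hq => CV.le ⟨mul_mem hq hq, fun v hv => by
    rcases h.mZ.1 (vq v hv q hq) with k | k
    · have := mul_inv_eq_iff_eq_mul.1 (inv_mul_eq_one.1 k).symm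
      rw [mul_assoc q, this, ← mul_assoc q, this, mul_assoc]
    · have := mul_inv_eq_iff_eq_mul.1 (inv_mul_eq_iff_eq_mul.1 k)
      rw [mul_assoc q, this, ← mul_assoc q, ← mul_assoc q, this, mul_assoc _ q z, h.cz q,
        ← mul_assoc _ z q, mul_assoc v z z, h.zz, mul_one, mul_assoc]⟩
  let π := QuotientGroup.mk' (zpowers z)
  have kπ : ∀ {g}, π g = 1 ↔ g ∈ zpowers z := QuotientGroup.eq_one_iff _
  have sQ : ∀ q ∈ Q, q * q ∈ zpowers z := by
    by_contra! k
    obtain ⟨q, hq, k⟩ := k
    have vz : ∀ v ∈ V, v * v ∈ zpowers z := fun v hv => sq v hv ▸ one_mem _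
    have cz : ∀ g x : H, g * x * g⁻¹ * (g * x * g⁻¹) ∈ zpowers z → x * x ∈ zpowers z :=
      fun g x e => by
        rw [conj_mul] at e
        simpa [mul_assoc] using Normal.conj_mem' inferInstance _ e g
    have all := all_of h.y7 VQ (by rw [cV]; norm_num) (by rw [cV, cQ']) (fun x => x * x ∉ zpowers z)
      yQ yV (fun x hx e => ZV (h.fix pQ hx e)) (fun x _ e k => e (cz _ _ k)) (fun x hx v hv e k => e (by
        have := vq v hv x⁻¹ (inv_mem hx)
        rw [show x * v * (x * v) = x * x * (v * (v⁻¹ * (x⁻¹ * v * x⁻¹⁻¹)) * v) by group,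
          h.cZ' this, mul_assoc _ v v, sq v hv, mul_one] at k
        exact (mul_mem_cancel_right this).1 k)) hq (fun e => k (vz q e)) k
    have nV' : V.Normal := ⟨fun v hv g => by_contra fun e =>
      all _ (nQ.conj_mem v (VQ hv) g) e (by
        rw [conj_mul, sq v hv, mul_one, mul_inv_cancel]; exact one_mem _)⟩
    obtain ⟨x, hx⟩ := exists_prime_orderOf_dvd_card' (G := H) 3 (by rw [h.card]; norm_num)
    have x3 : x ^ 3 = 1 := by rw [← hx, pow_orderOf_eq_one]
    have m1 := H83.Ord.conj_modEq x3 (K := Q) (le_normalizer_of_normal (mem_top x))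
    have m2 := H83.Ord.conj_modEq x3 (K := V) (le_normalizer_of_normal (mem_top x))
    obtain ⟨q, ⟨hq, qx⟩, qV⟩ := SetLike.not_le_iff_exists.1 fun k : Q ⊓ centralizer {x} ≤ V => by
      rw [le_antisymm (le_inf k inf_le_right) (inf_le_inf_right _ VQ), cQ'] at m1
      rw [cV] at m2
      exact absurd (m1.trans m2.symm) (by decide)
    have c8 : Nat.card (centralizer {q} ⊓ V : Subgroup H) = 8 := by
      have h1 := H46.card_mul_relIndex (inf_le_right : centralizer {q} ⊓ V ≤ V)
      rw [inf_relIndex_right, cV] at h1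
      have h2 : (centralizer {q}).relIndex V ≤ 2 := h.idx fun v hv => by
        have := kπ.2 (vq v hv q hq)
        rw [map_mul, map_mul, map_mul, map_inv, map_inv, inv_mul_eq_one, eq_mul_inv_iff_mul_eq] at this
        rw [← kπ, map_mul, map_mul, map_mul, this, map_inv, map_inv]
        group
      have h3 : (centralizer {q}).relIndex V ≠ 1 := fun e => qV (CV.le ⟨hq, fun v hv =>
        mem_centralizer_singleton_iff.1 (relIndex_eq_one.1 e hv)⟩)
      have h4 : (centralizer {q}).relIndex V ≠ 0 := fun e => by rw [e] at h1; omega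
      have : (centralizer {q}).relIndex V = 2 := by omega
      rw [this] at h1
      omega
    have xq : x ∈ centralizer {q} :=
      mem_centralizer_singleton_iff.2 (mem_centralizer_singleton_iff.1 qx).symm
    have m3 := H83.Ord.conj_modEq x3 (K := centralizer {q} ⊓ V) (le_normalizer_inf (H := zpowers x)
      (zpowers_le.2 (le_normalizer xq)) le_normalizer_of_normal (mem_zpowers x))
    have h4 := two_mul_le (X := zpowers z) (Y := centralizer {q} ⊓ V ⊓ centralizer {x})
      (lt_of_le_of_ne (zpowers_le.2 (mem_inf.2 ⟨⟨mem_centralizer_singleton_iff.2 (h.cz q).symm, zV⟩,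
        mem_centralizer_singleton_iff.2 (h.cz x).symm⟩)) fun e => all q hq qV (e.ge
          ⟨⟨mem_centralizer_singleton_iff.2 (mul_assoc q q q), q2 q hq⟩, mul_mem qx qx⟩))
    have h5 := card_le_of_le (inf_le_inf_right (centralizer {x})
      (inf_le_right : centralizer {q} ⊓ V ≤ V))
    have h6 := card_dvd_of_le (inf_le_left : centralizer {q} ⊓ V ⊓ centralizer {x} ≤ _)
    have h7 := card_dvd_of_le (inf_le_left : V ⊓ centralizer {x} ≤ V)
    rw [c8] at m3 h6
    rw [cV] at m2 h7
    rw [h.cZ] at h4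
    have h8 : V ≤ centralizer {x} := (eq_of_le_of_card_ge inf_le_left (by
      unfold Nat.ModEq at m2 m3
      rcases pow_cases h7 with e | e | e | e | e <;>
      rcases pow_cases (h6.trans (by norm_num)) with e' | e' | e' | e' | e' <;>
      omega)).ge.trans inf_le_right
    refine yC (hN _ inferInstance fun k => ?_)
    have := Q.orderOf_dvd_natCard (k fun v hv => mem_centralizer_singleton_iff.1 (h8 hv))
    rw [hx, cQ'] at this
    omega
  refine ⟨Q, nQ, pQ, cQ', ⟨zQ, h.z1, h.zz, fun x _ => (h.cz x).symm, fun x _ e => h.mZ.1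
    (ZQ fun g hg => (e g hg).symm), fun x hx => h.mZ.1 (sQ x hx), fun s hs t ht => ?_, ?_⟩, cen, hN⟩
  · have : (t * s)⁻¹ * (s * t) ∈ zpowers z := by
      have e : ∀ g ∈ Q, π g⁻¹ = π g := fun g hg => by
        rw [map_inv]
        exact inv_eq_of_mul_eq_one_right (by rw [← map_mul]; exact kπ.2 (sQ g hg))
      rw [← kπ, map_mul, mul_inv_rev, map_mul, e s hs, e t ht, ← map_mul, ← map_mul]
      exact kπ.2 (sQ _ (mul_mem hs ht))
    rcases h.mZ.1 this with k | k
    · exact Or.inl (inv_mul_eq_one.1 k).symm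
    · exact Or.inr (inv_mul_eq_iff_eq_mul.1 k)
  · by_contra! k
    have := card_le_of_le (le_trans (fun q hq g hg => k g hg q hq : Q ≤ centralizer (Q : Set H)) ZQ)
    rw [h.cZ] at this
    omega

end Hy

open H45.EX in
theorem jobL24 : JobL24.{u} := by
  intro G _ _ z χ D
  have := Fact.mk Nat.prime_two
  have := Fact.mk (by norm_num : Nat.Prime 7)
  have zH : z ∈ centralizer {z} := mem_centralizer_singleton_iff.2 rfl
  obtain ⟨y, hy⟩ := exists_prime_orderOf_dvd_card' (G := centralizer ({z} : Set G)) 7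
    (by rw [D.cz]; norm_num)
  have oy : orderOf (y : G) = 7 := by rw [orderOf_coe, hy]
  obtain ⟨c1, c2⟩ := D.c7 y oy
  have zz : z * z = 1 := by rw [← pow_two, ← D.oz, pow_orderOf_eq_one]
  have yz : (y : G) * z = z * y := mem_centralizer_singleton_iff.1 y.2
  have hz : centralizer {(y : G)} = centralizer (zpowers (y : G) : Set G) := by
    rw [zpowers_eq_closure, centralizer_closure]
  have hle : centralizer {(y : G)} ≤ normalizer (zpowers (y : G) : Set G) :=
    hz ▸ centralizer_le_normalizer _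
  have nle : normalizer (zpowers (y : G) : Set G) ≤ normalizer (centralizer {(y : G)} : Set G) :=
    hz ▸ normalizer_le_normalizer_centralizer _
  have ni : ∀ g : G, g * y * g⁻¹ ≠ (y : G)⁻¹ := fun g h => by
    have hg : g ∈ normalizer (zpowers (y : G) : Set G) := mem_normalizer_of_cj_le (by
      rw [cj, MonoidHom.map_zpowers, zpowers_le]
      change g * y * g⁻¹ ∈ _
      rw [h]; exact inv_mem (mem_zpowers _))
    have := normal_subgroupOf_of_le_normalizer nle
    have h3 : ((centralizer {(y : G)}).subgroupOf (normalizer (zpowers (y : G) : Set G))).index = 3 := by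
      have h1 := H46.card_mul_relIndex hle
      rw [c1, c2, relIndex] at h1
      omega
    have h4 := ((centralizer {(y : G)}).subgroupOf _).pow_index_mem ⟨g, hg⟩
    rw [h3, mem_subgroupOf, mem_centralizer_singleton_iff, ← mul_inv_eq_iff_eq_mul] at h4
    have h5 : g * (y : G)⁻¹ * g⁻¹ = y := by rw [← conj_inv, h, inv_inv]
    have h6 : (y : G)⁻¹ = y :=
      calc (y : G)⁻¹ = g * (g * (g * y * g⁻¹) * g⁻¹) * g⁻¹ := by rw [h, h5, h]
        _ = g ^ 3 * y * (g ^ 3)⁻¹ := by simp only [pow_three, mul_inv_rev, mul_assoc]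
        _ = y := h4
    have : orderOf (y : G) ∣ 2 := orderOf_dvd_of_pow_eq_one (by rw [pow_two]; nth_rw 1 [← h6]; simp)
    rw [oy] at this; omega
  have zC : z ∈ centralizer {(y : G)} := mem_centralizer_singleton_iff.2 yz.symm
  have cy : centralizer {(y : G)} ⊓ centralizer {z} ≤ zpowers (y : G) ⊔ zpowers z := by
    have l1 : zpowers (y : G) ⊔ zpowers z ≤ centralizer {(y : G)} ⊓ centralizer {z} :=
      sup_le (zpowers_le.2 (mem_inf.2 ⟨mem_centralizer_singleton_iff.2 rfl, y.2⟩))
        (zpowers_le.2 (mem_inf.2 ⟨zC, zH⟩))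
    have d1 := (zpowers (y : G) ⊔ zpowers z).orderOf_dvd_natCard (mem_sup_left (mem_zpowers _))
    have d2 := (zpowers (y : G) ⊔ zpowers z).orderOf_dvd_natCard (mem_sup_right (mem_zpowers _))
    have d3 := card_dvd_of_le (inf_le_left : centralizer {(y : G)} ⊓ centralizer {z} ≤ _)
    have d4 : 0 < Nat.card (zpowers (y : G) ⊔ zpowers z : Subgroup G) := Nat.card_pos
    rw [oy] at d1
    rw [D.oz] at d2
    rw [c1] at d3
    refine (eq_of_le_of_card_ge l1 ?_).ge
    by_contra k
    have d5 := Nat.le_of_dvd (by norm_num) d3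
    have d6 := card_le_of_le l1
    have e : centralizer {(y : G)} ≤ centralizer {z} := by
      refine (eq_of_le_of_card_ge inf_le_left ?_).ge.trans inf_le_right
      rw [c1]
      have d7 := d1.trans (card_dvd_of_le l1)
      have d9 := d2.trans (card_dvd_of_le l1)
      have d8 : 14 < Nat.card (centralizer {(y : G)} ⊓ centralizer {z} : Subgroup G) := by omega
      generalize Nat.card (centralizer {(y : G)} ⊓ centralizer {z} : Subgroup G) = a at d3 d5 d7 d8 d9 ⊢
      interval_cases a <;> omega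
    have e2 : normalizer (zpowers (y : G) : Set G) ≤ centralizer {z} := fun g hg => by
      by_contra n
      have k1 := H98.conj_mem_of_mem_normalizer (nle hg) zC
      have k2 : g * z * g⁻¹ * (g * z * g⁻¹) = 1 := by rw [conj_mul, zz, mul_one, mul_inv_cancel]
      have k3 : zpowers z < zpowers z ⊔ zpowers (g * z * g⁻¹) := lt_of_le_of_ne le_sup_left fun e => by
        classical
        have := e.ge (mem_sup_right (mem_zpowers _))
        rw [mem_zpowers_iff_mem_range_orderOf, D.oz] at this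
        simp only [Finset.range_add_one, Finset.range_zero, Finset.image_insert, Finset.mem_insert,
          Finset.image_empty, Finset.notMem_empty, or_false, pow_one, pow_zero] at this
        rcases this with e | e
        · exact n (mem_centralizer_singleton_iff.2 (mul_inv_eq_iff_eq_mul.1 e))
        · have := D.oz
          rw [show z = 1 by simpa using e, orderOf_one] at this
          omega
      have k4 := two_mul_le k3
      have k5 := card_sup_le (A := zpowers z) k2 fun x hx => by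
        obtain ⟨n, rfl⟩ := hx
        exact Commute.zpow_left (mem_centralizer_singleton_iff.1 (e k1)).symm n
      have k6 := card_dvd_of_le (sup_le (zpowers_le.2 zC) (zpowers_le.2 k1))
      rw [Nat.card_zpowers, D.oz] at k4 k5
      rw [c1, le_antisymm k5 k4] at k6
      omega
    have := card_dvd_of_le e2
    rw [c2, D.cz] at this
    omega
  have H : Hy (⟨z, zH⟩ : centralizer ({z} : Set G)) y fun g => χ g := by
    refine ⟨D.cz, by rw [← orderOf_coe, D.oz], fun g => Subtype.ext (mem_centralizer_singleton_iff.1 g.2),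
      hy, fun g hg => ?_, fun g e => ni g (congrArg Subtype.val e), fun U hU => ?_, ?_,
      fun g => D.re g, D.one, D.xz, fun t ht => D.inv t (by rw [orderOf_coe, ht])⟩
    · have := cy ⟨mem_centralizer_singleton_iff.2 (congrArg Subtype.val
        (mem_centralizer_singleton_iff.1 hg)), g.2⟩
      rw [← mem_map_iff_mem (centralizer ({z} : Set G)).subtype_injective, Subgroup.map_sup,
        MonoidHom.map_zpowers, MonoidHom.map_zpowers]
      exact this
    · rw [← card_map_of_injective (centralizer ({z} : Set G)).subtype_injective]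
      refine D.rk _ (H29.S7.elem_of_sq ?_)
      rintro _ ⟨x, hx, rfl⟩
      rw [← map_mul, ← pow_two, hU.2 x hx, map_one]
    · obtain ⟨m, ρ, rfl⟩ := D.ch
      exact ⟨m, ρ.comp (Subgroup.subtype _), rfl⟩
  obtain ⟨Q, nQ, pQ, cQ, xs, cn, hN⟩ := H.main
  have e : pCore 2 (centralizer ({z} : Set G)) = Q := by
    rw [← pCoreOf_top]
    refine le_antisymm (by_contra fun k => ?_) (le_pCoreOf pQ le_top le_normalizer_of_normal)
    obtain ⟨j, hj⟩ := isPGroup_iff_forall.1 (isPGroup_pCoreOf (p := 2) ⊤) y (hN _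
      (normal_of_top_le_normalizer (self_le_normalizer_pCoreOf ⊤)) k)
    have := (by norm_num : Nat.Prime 7).dvd_of_dvd_pow (hy ▸ orderOf_dvd_of_pow_eq_one hj)
    omega
  have zQ : z ∈ O2C z := ⟨_, e ▸ xs.z_mem, rfl⟩
  refine ⟨⟨⟨zQ, fun k => xs.z_ne (Subtype.ext k), zz, ?_, ?_, ?_, ?_, ?_⟩, fun x hx => ?_, ?_⟩, ?_⟩
  · rintro _ ⟨x, -, rfl⟩
    exact (mem_centralizer_singleton_iff.1 x.2).symm
  · rintro _ ⟨x, hx, rfl⟩ k
    exact (xs.center x (e ▸ hx) fun g hg => Subtype.ext (k g ⟨g, e ▸ hg, rfl⟩)).imp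
      (congrArg Subtype.val) (congrArg Subtype.val)
  · rintro _ ⟨x, hx, rfl⟩
    exact (xs.sq x (e ▸ hx)).imp (congrArg Subtype.val) (congrArg Subtype.val)
  · rintro _ ⟨x, hx, rfl⟩ _ ⟨g, hg, rfl⟩
    exact (xs.comm x (e ▸ hx) g (e ▸ hg)).imp (congrArg Subtype.val) (congrArg Subtype.val)
  · obtain ⟨x, hx, g, hg, k⟩ := xs.nonab
    exact ⟨x, ⟨x, e ▸ hx, rfl⟩, g, ⟨g, e ▸ hg, rfl⟩, fun n => k (Subtype.ext n)⟩
  · exact ⟨⟨x, mem_centralizer_singleton_iff.2 (hx z zQ)⟩, e ▸ cn fun g hg =>
      Subtype.ext (hx g ⟨g, e ▸ hg, rfl⟩).symm, rfl⟩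
  · rintro c hc _ ⟨x, hx, rfl⟩
    exact ⟨_, e ▸ nQ.conj_mem x (e ▸ hx) ⟨c, mem_centralizer_singleton_iff.2 hc⟩, rfl⟩
  · rw [card_map_of_injective (centralizer ({z} : Set G)).subtype_injective, e, cQ]
    norm_num

end H30.L24
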