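import Cfsg.Agent.H41.LDSpec
import Cfsg.Agent.S0102
import Cfsg.Agent.S0243
import Cfsg.Agent.S2039
import Cfsg.Agent.S2086
import Cfsg.Agent.S2089
import Cfsg.Agent.S2092
import Cfsg.Agent.S2111
import Cfsg.Agent.S2112
import Cfsg.Agent.S2113

/-! LD5-ZC: no group of the list has a perfect central extension by a group of order divisible
by five. -/

set_option autoImplicit false

open Cfsg

namespace H30.LD

universe u

/-- The property to be shown for `Q`. -/
def NoFive (Q : Type u) [Group Q] : Prop :=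
  ∀ (Γ : Type u) [Group Γ] [Finite Γ] (π : Γ →* Q), Function.Surjective π →
    π.ker ≤ Subgroup.center Γ → commutator Γ = ⊤ → ¬ 5 ∣ Nat.card π.ker

theorem noFive_of_mult {Q : Type u} [Group Q] {G : Type} [Group G] (e : Q ≃* G) {A : Type}
    [CommGroup A] (hA : HasSchurMultiplier G A) (h5 : ¬ 5 ∣ Nat.card A) : NoFive Q := by
  intro Γ _ _ π hs hz hc h
  let f : Shrink.{0} Γ ≃* Γ := Shrink.mulEquiv
  haveI : Finite (Shrink.{0} Γ) := Finite.of_equiv _ f.symm.toEquiv
  let σ : Shrink.{0} Γ →* G := (e.toMonoidHom.comp π).comp f.toMonoidHom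
  have hmem : ∀ x, x ∈ σ.ker ↔ f x ∈ π.ker := by
    intro x
    simp only [σ, MonoidHom.mem_ker, MonoidHom.comp_apply, MulEquiv.coe_toMonoidHom]
    exact e.map_eq_one_iff
  have hst : IsStemExtension σ := by
    refine ⟨e.surjective.comp (hs.comp f.surjective), fun x hx => ?_, fun x _ => ?_⟩
    · rw [Subgroup.mem_center_iff]
      intro g
      apply f.injective
      rw [map_mul, map_mul]
      exact Subgroup.mem_center_iff.1 (hz ((hmem x).1 hx)) _
    · have h1 : (commutator Γ).map f.symm.toMonoidHom = commutator (Shrink.{0} Γ) := by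
        rw [commutator_def, commutator_def, Subgroup.map_commutator,
          Subgroup.map_top_of_surjective _ f.symm.surjective]
      rw [← h1, hc, Subgroup.map_top_of_surjective _ f.symm.surjective]
      trivial
  obtain ⟨ρ, hρ⟩ := hA.2 _ σ hst
  have h2 : Nat.card σ.ker = Nat.card π.ker :=
    Nat.card_congr (f.toEquiv.subtypeEquiv hmem)
  exact h5 (h.trans (h2 ▸ Subgroup.card_dvd_of_surjective ρ hρ))

theorem noFive_of_cyc {Q : Type u} [Group Q] {G : Type} [Group G] (e : Q ≃* G) {n : ℕ}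
    (hA : HasCyclicSchurMultiplier G n) (h5 : ¬ 5 ∣ n) : NoFive Q :=
  noFive_of_mult e hA (by rwa [Nat.card_congr (Multiplicative.toAdd (α := ZMod n)), Nat.card_zmod])

theorem noFive_of_card {Q : Type u} [Group Q] (h : ¬ 25 ∣ Nat.card Q) : NoFive Q := by
  intro Γ _ _ π hs hz hc
  haveI : Finite Q := Finite.of_surjective π hs
  haveI : Fact (Nat.Prime 5) := ⟨by norm_num⟩
  have hQ : commutator Q = ⊤ := by
    have h1 : (commutator Γ).map π = commutator Q := by
      rw [commutator_def, commutator_def, Subgroup.map_commutator,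
        Subgroup.map_top_of_surjective _ hs]
    rw [← h1, hc, Subgroup.map_top_of_surjective _ hs]
  refine Cfsg.Agent.S0102.result hQ (fun P => ?_) π hs hz hc
  obtain ⟨k, hk⟩ := IsPGroup.iff_card.1 P.isPGroup'
  have hd : Nat.card P ∣ Nat.card Q := Subgroup.card_subgroup_dvd_card _
  match k, hk with
  | 0, hk =>
    haveI : Subsingleton P := (Nat.card_eq_one_iff_unique.1 (by simpa using hk)).1
    infer_instance
  | 1, hk => exact isCyclic_of_prime_card (p := 5) (by simpa using hk)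
  | k + 2, hk =>
    exfalso
    apply h
    refine Dvd.dvd.trans ?_ hd
    rw [hk, pow_add]
    exact Dvd.intro_left _ rfl

theorem not_five_gcd {n m : ℕ} (h0 : 0 < n) (h : n < 5) : ¬ 5 ∣ Nat.gcd n m := fun h5 =>
  absurd (Nat.le_of_dvd h0 (h5.trans (Nat.gcd_dvd_left n m))) (by omega)

theorem noFive_psl {Q : Type u} [Group Q] {F : Type} [Field F] [Fintype F] {n : ℕ}
    (hn : n = 2 ∧ 4 ≤ Fintype.card F ∨ n = 3)
    (e : Q ≃* Matrix.ProjectiveSpecialLinearGroup (Fin n) F) : NoFive Q := by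
  have hn2 : 2 ≤ n := by omega
  by_cases hexc : (n, Fintype.card F) ∈
      ({(2, 4), (2, 9), (3, 2), (3, 4), (4, 2)} : Set (ℕ × ℕ))
  · apply noFive_of_card
    rw [Nat.card_congr e.toEquiv]
    have h := Cfsg.Agent.S0243.result (F := F) rfl n hn2
    simp only [Set.mem_insert_iff, Set.mem_singleton_iff, Prod.mk.injEq] at hexc
    generalize Fintype.card F = q at h hexc hn
    rcases hexc with ⟨rfl, rfl⟩ | ⟨rfl, rfl⟩ | ⟨rfl, rfl⟩ | ⟨rfl, rfl⟩ | ⟨rfl, rfl⟩
    · simp [Fin.prod_univ_succ] at h; omega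
    · simp [Fin.prod_univ_succ] at h; omega
    · simp [Fin.prod_univ_succ] at h; omega
    · simp [Fin.prod_univ_succ] at h; omega
    · omega
  · exact noFive_of_cyc e (Cfsg.Agent.S2086.result rfl n hn2 (by omega) hexc)
      (not_five_gcd (by omega) (by omega))

theorem jobZC : H41.LD.JobZC.{u} := by
  intro Γ _ _ Q _ π hs hz hc hQ
  suffices h : NoFive Q from h Γ π hs hz hc
  rcases hQ with ⟨F, _, _, h4, ⟨e⟩⟩ | ⟨F, _, _, ⟨e⟩⟩ | ⟨F, _, _, q, hq, h3, ⟨e⟩⟩ |
    ⟨F, _, _, h4, ⟨e⟩⟩ | ⟨⟨e⟩⟩ | h | ⟨F, _, _, m, hm, hF, ⟨e⟩⟩ | ⟨F, _, _, m, hm, hF, ⟨e⟩⟩ | ⟨⟨e⟩⟩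
  · exact noFive_psl (Or.inl ⟨rfl, h4⟩) e
  · exact noFive_psl (Or.inr rfl) e
  · refine noFive_of_cyc e (Cfsg.Agent.S2089.result 3 q hq le_rfl (by omega) (by simp))
      (not_five_gcd (by omega) (by omega))
  · exact noFive_of_cyc e (Cfsg.Agent.S2092.result rfl 2 le_rfl (by omega) (by omega))
      (not_five_gcd (by omega) (by omega))
  · apply noFive_of_card
    rw [Nat.card_congr e.toEquiv]
    have h := two_mul_nat_card_alternatingGroup (α := Fin 7)
    rw [Nat.card_perm, Nat.card_fin, show Nat.factorial 7 = 5040 from rfl] at h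
    omega
  · apply noFive_of_card
    rw [h.2]; norm_num
  · rcases Nat.lt_or_ge m 2 with h2 | h2
    · obtain rfl : m = 1 := by omega
      refine noFive_of_mult e (Cfsg.Agent.S2112.result hF) ?_
      rw [Nat.card_congr (Multiplicative.toAdd (α := ZMod 2 × ZMod 2)), Nat.card_prod,
        Nat.card_zmod]; norm_num
    · exact noFive_of_cyc e (Cfsg.Agent.S2111.result h2 hF) (by norm_num)
  · exact noFive_of_cyc e (Cfsg.Agent.S2113.result hm hF) (by norm_num)
  · exact noFive_of_cyc e Cfsg.Agent.S2039.result (by norm_num)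

end H30.LD
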