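import Cfsg.Agent.H85.DZTr

/-! DZ, narrow type Z: the end of the case with `d`.  Letters `a u v t s y Y e E`; `S` has order
`512`, `H x 7` is Sylow in `C(u)`, `u ∉ X` by transfer, `A ⊓ X` is self-centralizing in `S ⊓ X`. -/

set_option autoImplicit false
set_option linter.unusedSectionVars false

namespace H30.NZ

open Subgroup Cfsg H14 H98 H1.Gold H31.S2 H85.FZ H49.D8 H62.FZ H85.DZ H85.En

universe u

variable {G : Type u} [Group G] [Finite G] {t v s u a σ ρ g n : G} {X K : Subgroup G}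
  {T : Tb} {L : List ℕ} {x : ℕ → G} {c k j : ℕ}

theorem memH (M : Md T L x) (hk : k ≤ T.n) (hc : c < 2 ^ T.n) : E x T.n c ∈ H x k ↔ c < 2 ^ k := by
  refine ⟨fun h => ?_, fun h => E_mono x h hk ▸ E_mem x k c⟩
  obtain ⟨d, h1, h2⟩ := E_surj M.P M.wf hk h
  rwa [(M.inj hc (h1.trans_le (Nat.pow_le_pow_right two_pos hk))).1 (h2.trans (E_mono x h1 hk).symm)]

/-- The class of `c` under the letters `< k` has at least `j` elements. -/
def big (L : List ℕ) (k j c : ℕ) : Bool :=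
  forceL ((orb L c (lts k)).take j) fun l => l.length == j && decide l.Nodup

theorem big_le (M : Md T L x) (hk : k ≤ T.n) (hc : c < 2 ^ T.n) (h : big L k j c = true)
    (hK : K ≤ H x k ⊓ cen1 (E x T.n c)) : j * Nat.card K ≤ 2 ^ k := by
  classical
  simp only [big, forceL_eq, Bool.and_eq_true, beq_iff_eq, decide_eq_true_eq] at h
  have key := fun d (hd : d ∈ ((orb L c (lts k)).take j).toFinset) => M.orb (K := H x k) hc
    (fun g hg => by
      obtain ⟨i, hi, rfl⟩ := List.mem_map.1 hg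
      have hi := List.mem_range.1 hi
      exact ⟨Nat.pow_lt_pow_right one_lt_two (by omega), by rw [E_pow x (by omega)]; exact x_mem hi⟩)
    (List.mem_of_mem_take (List.mem_toFinset.1 hd))
  choose h1 r h2 h3 using key
  rw [← h.1, ← List.toFinset_card_of_nodup h.2, ← Nat.card_eq_finsetCard, ← Nat.card_prod,
    ← M.P.card M.wf hk (M.I.mono hk)]
  refine Nat.card_le_card_of_injective
    (fun p => (⟨r p.1 p.1.2 * p.2, mul_mem (h2 _ _) (hK p.2.2).1⟩ : H x k)) fun p q e => ?_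
  have e : r p.1 p.1.2 * p.2 = r q.1 q.1.2 * q.2 := congrArg Subtype.val e
  have k : ∀ (y : G) (w : K), y * w * E x T.n c * (y * w)⁻¹ = y * E x T.n c * y⁻¹ := fun y w => by
    rw [mul_assoc y, mem_cen1.1 (hK w.2).2]; group
  have e1 : p.1 = q.1 := Subtype.ext ((M.inj (h1 _ p.1.2) (h1 _ q.1.2)).1 (by
    rw [h3 _ p.1.2, h3 _ q.1.2, ← k _ p.2, e, k]))
  rw [e1, mul_right_inj] at e
  exact Prod.ext e1 (Subtype.ext e)

def sq1 (L : List ℕ) (c : ℕ) : Bool := Nat.beq (mul L c c) 0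

/-- The facts about `S`. -/
def test (L : List ℕ) : Bool :=
  allB 9 (fun c => cm L c 2 == decide (c < 2 ^ 7)) &&
  force (cls L 9 [8, 9]) (fun m =>
    allB 7 fun c => !(sq1 L c && cm L c 4) || decide (c < 2 ^ 3) || tb m c) &&
  allB 9 (fun c => !sq1 L c || decide (c < 2 ^ 3) ||
    big L 9 5 c && (decide (2 ^ 7 ≤ c) || big L 7 3 c)) &&
  [3, 131, 11, 139].any (fun b => muOK L 9 (par b) && [1, 2, 5, 6].all (par b)) &&
  force (cls L 9 [2]) (fun m => [1, 2, 5, 6].all (tb m)) &&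
  allB 9 (fun c => !(cm L c 4 && cm L c 9) || decide (c < 2 ^ 4)) &&
  cnt 9 (fun c => decide (c < 2 ^ 7) && cm L c 4) == 64 &&
  (List.range 9).all fun i => force (2 ^ i) fun g => cm L g 3 && sq1 L g &&
    allB 3 fun c => decide (mul L g (mul L c g) < 2 ^ 3)

theorem fin {l : List G} (M : Md T L (val (a :: u :: v :: t :: s :: l))) (hn : T.n = 9)
    (h : H85.DZ.Nar t v s u a σ ρ) (ta : ¬ IsConj t (t * a)) (hX : AS X t) (k : test L = true) :
    SectionalPRankLE 2 4 X := by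
  simp only [test, Bool.and_eq_true, allB_iff, force_eq, Bool.or_eq_true, Bool.not_eq_true',
    decide_eq_true_eq, beq_iff_eq, List.all_eq_true, List.any_eq_true, List.mem_range] at k
  obtain ⟨⟨⟨⟨⟨⟨⟨k1, k2⟩, k3⟩, b, -, k4, k4'⟩, k5⟩, k6⟩, k7⟩, k8⟩ := k
  have H3 : H (val (a :: u :: v :: t :: s :: l)) 3 = cl [a, u, v] := H_val _ _
  have H4 : H (val (a :: u :: v :: t :: s :: l)) 4 = cl [a, u, v, t] := H_val _ _
  have H5 : H (val (a :: u :: v :: t :: s :: l)) 5 = cl [a, u, v, t, s] := H_val _ _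
  have ev : ∀ c ∈ [1, 2, 3, 4, 7, 8, 9], E (val (a :: u :: v :: t :: s :: l)) 9 c =
      [1, a, u, u * a, v, 1, 1, v * (u * a), t, t * a].getD c 1 := by
    simp [E, Nat.testBit]
  obtain ⟨e1, e2, e3, e4, e7, e8, e9⟩ : _ ∧ _ ∧ _ ∧ _ ∧ _ ∧ _ ∧ _ := by simpa using ev
  generalize val (a :: u :: v :: t :: s :: l) = x at *
  have cmi : ∀ {c d}, c < 2 ^ 9 → d < 2 ^ 9 →
      (cm L c d = true ↔ E x 9 c * E x 9 d = E x 9 d * E x 9 c) := hn ▸ cm_iff M
  have sqi : ∀ {c}, c < 2 ^ 9 → (sq1 L c = true ↔ E x 9 c * E x 9 c = 1) := hn ▸ M.sq_iff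
  have sj : ∀ {g}, g ∈ H x 9 → ∃ c < 2 ^ 9, g = E x 9 c := hn ▸ M.surj
  have mH : ∀ {k c}, k ≤ 9 → c < 2 ^ 9 → (E x 9 c ∈ H x k ↔ c < 2 ^ k) := hn ▸ memH M
  have bg : ∀ {k j c} {K : Subgroup G}, k ≤ 9 → c < 2 ^ 9 → big L k j c = true →
      K ≤ H x k ⊓ cen1 (E x 9 c) → j * Nat.card K ≤ 2 ^ k := hn ▸ big_le M
  have cs : ∀ {R c}, R.all (· < 2 ^ 9) = true → tb (cls L 9 R) c = true →
      ∃ r ∈ R, ∃ h ∈ H x 9, E x 9 c = h * E x 9 r * h⁻¹ := hn ▸ M.cls le_rfl
  have mu : ∀ c {d}, d < 2 ^ 9 → mul L c d < 2 ^ 9 ∧ E x 9 (mul L c d) = E x 9 c * E x 9 d :=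
    fun c _ hd => (hn ▸ M.mul) hd c
  have cd : ∀ k ≤ 9, Nat.card (H x k) = 2 ^ k := fun k hk => M.P.card M.wf (hn ▸ hk) (M.I.mono (hn ▸ hk))
  have p2 : ∀ k ≤ 9, IsPGroup 2 (H x k) := fun k hk => IsPGroup.of_card (cd k hk)
  have l79 : H x 7 ≤ H x 9 := H_mono (by decide)
  have cu : ∀ g ∈ H x 9, g * u = u * g ↔ g ∈ H x 7 := fun g hg => by
    obtain ⟨c, hc, rfl⟩ := sj hg
    rw [← e2, ← cmi hc (by decide), k1 c hc, decide_eq_true_eq, mH (by decide) hc]
  have lt : ∀ i < 9, 2 ^ i < 2 ^ 9 := fun i hi => Nat.pow_lt_pow_right one_lt_two hi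
  have Sz : H x 9 ≤ cen1 (u * a) := H_le fun i hi => mem_cen1.2 (by
    rw [← e3, ← E_pow x hi, ← cmi (lt i hi) (by decide)]; exact (k8 i hi).1.1)
  have SA : H x 9 ≤ nor (cl [a, u, v]) := H_le fun i hi => mem_normalizer_fintype fun y hy => by
    rw [← H3] at hy ⊢
    obtain ⟨c, hc, rfl⟩ := sj (H_mono (by decide) hy)
    have m := mu c (lt i hi)
    rw [← E_pow x hi, inv_eq_of_mul_eq_one_right ((sqi (lt i hi)).1 (k8 i hi).1.2), mul_assoc, ← m.2,
      ← (mu _ m.1).2]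
    exact (mH (by decide) (mu _ m.1).1).2 ((k8 i hi).2 c ((mH (by decide) hc).1 hy))
  have Gu : H x 7 ≤ cen1 u := fun g hg => mem_cen1.2 ((cu g (l79 hg)).2 hg)
  have m3 : cl [a, u, v] ≤ cl [a, u, v, t] := cl_mono (by simp)
  have mt : t ∈ cl [a, u, v, t] := mem_cl (by simp)
  have T7 : cl [a, u, v, t, s] ≤ H x 7 := H5 ▸ H_mono (by decide)
  have A7 : cl [a, u, v, t] ≤ H x 7 := H4 ▸ H_mono (by decide)
  have sy : IsSyl 2 (H x 7) (cen1 u) := by
    by_contra hs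
    obtain ⟨n, n1, n2, n3, n4⟩ := ext_of_not_syl (p2 7 (by decide)) Gu hs
    have c64 : Nat.card ↥(H x 7 ⊓ cen1 v) = 64 := by
      rw [← k7, ← hn]
      refine M.card_eq (inf_le_left.trans (hn ▸ l79)) fun c hc => ?_
      rw [hn] at hc ⊢
      rw [Bool.and_eq_true, decide_eq_true_eq, cmi hc (by decide), e4, mem_inf, mem_cen1, mH (by decide) hc]
    have nA : n ∈ nor (cl [a, u, v]) := mem_normalizer_of_cj_le (cj_le_iff.2 (cl_le.2 fun w hw => by
      have w7 := conj_mem_of_mem_normalizer n2 (A7 (m3 (mem_cl hw)))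
      obtain ⟨c, hc, ec⟩ := sj (l79 w7)
      rw [mem_cj, inv_inv, ec, ← H3, mH (by decide) hc]
      refine ((k3 c hc).resolve_right fun e => ?_).resolve_left (by
        rw [Bool.not_eq_false, sqi hc, ← ec, conj_mul, h.toTr.A_sq (m3 (mem_cl hw))]; simp)
      have := bg (K := cj n (H x 7 ⊓ cen1 v)) (by decide) hc (e.2.resolve_left (by
        rw [not_le, ← mH (by decide) hc, ← ec]; exact w7)) (le_inf (cj_le_of_le inf_le_left n2) (by
          rw [← ec, ← cj_cen1]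
          refine cj_mono _ fun g hg => ?_
          simp only [List.mem_cons, List.not_mem_nil, or_false] at hw
          rcases hw with rfl | rfl | rfl
          · have := mem_cen1.1 (Sz (l79 hg.1))
            rw [← mul_assoc, mem_cen1.1 (Gu hg.1), mul_assoc, mul_assoc, mul_right_inj] at this
            exact mem_cen1.2 this
          exacts [Gu hg.1, hg.2]))
      rw [card_cj, c64] at this
      omega))
    have w7 := conj_mem_of_mem_normalizer n2 (A7 mt)
    obtain ⟨c, hc, ec⟩ := sj (l79 w7)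
    have ct : IsConj t (E x 9 c) := isConj_iff.2 ⟨n, ec⟩
    rcases k2 c ((mH (by decide) hc).1 (ec ▸ w7)) with (e | e) | e
    · rw [(sqi hc).2 (by rw [← ec, conj_mul, h.tt]; simp), (cmi hc (by decide)).2 (by
        have := h.toTr.A_comm mt (m3 (conj_mem_of_mem_normalizer' nA (mem_cl (y := v) (by simp))))
        rw [← ec, e4]
        calc n * t * n⁻¹ * v = n * (t * (n⁻¹ * v * n)) * n⁻¹ := by group
          _ = _ := by rw [this]; group)] at e
      exact absurd e (by decide)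
    · exact h.toBase.notD (H3 ▸ (mH (by decide) hc).2 e) ct
    obtain ⟨r, hr, g, g1, g2⟩ := cs (by decide) e
    simp only [List.mem_cons, List.not_mem_nil, or_false] at hr
    rcases hr with rfl | rfl
    swap
    · exact ta (ct.trans (isConj_iff.2 ⟨g, by rw [g2, e9]⟩).symm)
    rw [← ec, e8] at g2
    have c1 : g⁻¹ * n * t = t * (g⁻¹ * n) := by
      calc g⁻¹ * n * t = g⁻¹ * (n * t * n⁻¹) * n := by group
        _ = _ := by rw [g2]; group
    have c2 : g⁻¹ * n ∈ nor (cl [a, u, v, t]) := mem_normalizer_of_cj_le (cj_le_iff.2 (cl_le.2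
      fun w hw => mem_cj.2 (by
        rw [inv_inv]
        rcases List.mem_append.1 (show w ∈ [a, u, v] ++ [t] from hw) with hw | hw
        · exact m3 (conj_mem_of_mem_normalizer (mul_mem (inv_mem (SA g1)) nA) (mem_cl hw))
        · rwa [List.mem_singleton.1 hw, c1, mul_inv_cancel_right])))
    have g7 := (cu g g1).1 (by
      have := (nA_fix h.toLc c1 c2).1
      calc g * u = g * (g⁻¹ * n * u * (g⁻¹ * n)⁻¹) := by rw [this]
        _ = n * u * n⁻¹ * g := by group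
        _ = _ := by rw [mem_cen1.1 n1, mul_inv_cancel_right])
    exact n3 ((mul_mem_cancel_left (inv_mem g7)).1 (T7 (two h.toLc (isPGroup_ext (p2 7 (by decide)) n2 n4)
      (T7.trans le_sup_right) (mul_mem (mem_sup_right (inv_mem g7)) (mem_sup_left (mem_zpowers n))) c1 c2)))
  have uz : ¬ IsConj u (u * a) := fun e => by
    obtain ⟨g, e⟩ := isConj_iff.1 e
    have := (sy.cj g).card_le (p2 9 le_rfl) (by rwa [cj_cen1, e])
    rw [card_cj, cd 9 le_rfl, cd 7 (by decide)] at this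
    omega
  have zv : IsConj (u * a) v := isConj_iff.2 ⟨σ, by
    rw [← conj_mul, h.A.σu, h.A.σa, ← h.uv, ← mul_assoc, h.uu, one_mul]⟩
  have u7 : u ∈ H x 7 := A7 (mem_cl (by simp))
  have U : ∀ g, cj g (H x 7) ≤ H x 9 → ∃ c ∈ [1, 2, 5, 6], g * u * g⁻¹ = E x 9 c := fun g hg => by
    obtain ⟨c, hc, ec⟩ := sj (hg (conj_mem_cj u7))
    have cc : IsConj u (E x 9 c) := isConj_iff.2 ⟨g, ec⟩
    have := ((k3 c hc).resolve_right fun e => by
      have := bg le_rfl hc e.1 (le_inf hg (by rw [← ec, ← cj_cen1]; exact cj_mono _ Gu))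
      rw [card_cj, cd 7 (by decide)] at this
      omega).resolve_left (by rw [Bool.not_eq_false, sqi hc, ← ec, conj_mul, h.uu]; simp)
    refine ⟨c, ?_, ec⟩
    interval_cases c
    · exact absurd (isConj_one_left.1 (E_zero x 9 ▸ cc)) fun e =>
        h.pres.ne h.ind (w := [1]) (w' := []) rfl (by simpa using e)
    any_goals decide
    exacts [(uz (e3 ▸ cc)).elim, (uz ((e4 ▸ cc).trans zv.symm)).elim,
      (uz (((e7 ▸ cc).trans (isConj_iff.2 ⟨σ, h.A.σv⟩).symm).trans zv.symm)).elim]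
  have cl2 : ∀ c ∈ [1, 2, 5, 6], ∃ r ∈ H x 9, E x 9 c = r * u * r⁻¹ := fun c hc => by
    obtain ⟨r, hr, e⟩ := cs (by decide) (k5 c hc)
    rwa [List.mem_singleton.1 hr, e2] at e
  have hS : IsSyl 2 (H x 9) ⊤ := syl_of (x := u) (p2 9 le_rfl) (by
    rwa [sy.eq_of_le ((p2 9 le_rfl).to_le inf_le_left) (le_inf l79 Gu) inf_le_right])
    fun n hn _ => by
      obtain ⟨c, hc, e⟩ := U n (cj_le_of_le l79 hn)
      exact e ▸ cl2 c hc
  obtain ⟨W, W1, W2⟩ := H85.DZ.mu M (φ := par b) (hn ▸ k4)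
  rw [hn] at W1 W2
  have uX : u ∉ X := tr_out hX hS W1 h.uu (p2 7 (by decide)) u7 Gu fun g hg => by
    obtain ⟨c, hc, e⟩ := U g hg
    rw [e, W2 c ((by decide : ∀ c ∈ [1, 2, 5, 6], c < 2 ^ 9) c hc), k4' c hc]
    decide
  have aX : a ∉ X := by
    obtain ⟨r, -, e⟩ := cl2 1 (by simp)
    rwa [← as_conj hX (isConj_iff.2 ⟨r, e.symm.trans e1⟩)]
  have mX := as_mul hX h.tt
  refine sr8X hX hS (E₈ := cl [a, u, v, t] ⊓ X) (inf_le_inf_right _ (A7.trans l79))
    (fun e he => h.toTr.A_sq he.1) ?_ fun g hg => ⟨?_, hg.1.2⟩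
  · have : X.relIndex (cl [a, u, v, t]) = 2 := index_eq_two_iff'.2 ⟨⟨u, mem_cl (by simp)⟩, fun y => by
      rw [mem_subgroupOf, mem_subgroupOf, coe_mul, mX]; by_cases (y : G) ∈ X <;> simp [*]⟩
    have e := (X.subgroupOf (cl [a, u, v, t])).index_mul_card
    rw [h.cardA, ← inf_subgroupOf_left, Nat.card_congr (subgroupOfEquivOfLe inf_le_left).toEquiv,
      inf_subgroupOf_left, show (X.subgroupOf _).index = 2 from this] at e
    omega
  · obtain ⟨c, hc, rfl⟩ := sj hg.1.1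
    refine H4.le ((mH (by decide) hc).2 ((k6 c hc).resolve_left ?_))
    rw [(cmi hc (by decide)).2 (e4 ▸ mem_cen_iff.1 hg.2 v ⟨mem_cl (by simp),
      (as_conj hX zv).1 ((mX _ _).2 (iff_of_false uX aX))⟩), (cmi hc (by decide)).2
      (e9 ▸ mem_cen_iff.1 hg.2 _ ⟨mul_mem mt (mem_cl (by simp)),
        (mX _ _).2 (iff_of_false (as_out hX uX) aX)⟩)]
    decide

end H30.NZ
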