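import Cfsg.Agent.H30.NZ1
import Cfsg.Agent.H30.DZL
import Cfsg.Agent.H62.FZN2

/-! DZ, narrow type Z: extension by an involution, the tables of the case with `d`. -/

set_option autoImplicit false
set_option linter.unusedSectionVars false

namespace H30.NZ

open Subgroup Cfsg H14 H98 H1.Gold H31.S2 H85.FZ H49.D8 H62.FZ H85.DZ H85.En H62.FZ.NZ

universe u

variable {G : Type u} [Group G] [Finite G] {t v s u a σ ρ g g' y Y X d : G} {N : Subgroup G}
  {T : Tb} {x : ℕ → G} {S J q : List ℕ} {f f' : List (ℕ × List ℕ)}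

theorem act_nor (P : Pres T x) (A : Act x g S f) (h : ok T S S f = true) : g ∈ nor (cl (S.map x)) :=
  mem_normalizer_of_cj_le (cj_le_iff.2 (cl_le.2 fun y hy => mem_cj.2 (by
    obtain ⟨r, hr, rfl⟩ := List.mem_map.1 hy
    rw [inv_inv, A r hr, ← P.W_col]
    exact W_mem_of fun i hi => mem_cl (List.mem_map_of_mem
      (of_decide_eq_true (List.all_eq_true.1 (List.all_eq_true.1 h r hr) i hi))))))

theorem act_cen (P : Pres T x) (A : Act x g S f) (A' : Act x g' S f') (h : agree T S f f' = true) :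
    g'⁻¹ * g ∈ cen (cl (S.map x)) :=
  le_cen1_iff.1 (cl_le.2 fun y hy => mem_cen1.2 (by
    obtain ⟨r, hr, rfl⟩ := List.mem_map.1 hy
    calc x r * (g'⁻¹ * g) = g'⁻¹ * (g' * x r * g'⁻¹) * g := by group
      _ = _ := by rw [A' r hr, ← act_agree P A h r hr]; group))

theorem act_mul_cen (A : Act x g S f) (h : g' ∈ cen (cl (S.map x))) : Act x (g * g') S f :=
  fun r hr => by
    rw [← A r hr, mul_assoc g, mem_cen_iff.1 h _ (mem_cl (List.mem_map_of_mem hr))]; group

theorem act_inv' (P : Pres T x) (A : Act x g S f) (h1 : ok T S S f' = true)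
    (h : (S.all fun r => T.same (app f (T.col (app f' [r]))) [r]) = true) : Act x g⁻¹ S f' :=
  fun r hr => by
    have := (A.w (List.all_eq_true.1 h1 r hr)).trans (P.W_eq (List.all_eq_true.1 h r hr))
    rw [W_cons, W_nil, mul_one, P.W_col] at this
    rw [← this]; group

def agv (T : Tb) (S : List ℕ) (f f' : List (ℕ × List ℕ)) : Bool :=
  S.all fun r => T.eqv (app f [r]) (app f' [r])

theorem agv_of (P : Pres T x) (I : Ind x T.n) (A : Act x g S f) (A' : Act x g S f') :
    agv T S f f' = true := List.all_eq_true.2 fun r hr => P.eqv I ((A r hr).symm.trans (A' r hr))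

/-- `f` is an automorphism with square the conjugation by `q`. -/
def cons (T : Tb) (f : List (ℕ × List ℕ)) (q : List ℕ) : Bool :=
  !(List.range T.n).all (fun r => (app f [r]).all (· ∈ List.range T.n)) ||
  (List.range T.n).reverse.all fun s => T.eqv (app f [s, s]) (app f (T.sq s)) &&
    T.eqv (app f (app f [s]) ++ q) (q ++ [s]) &&
    (List.range s).all fun r => T.eqv (app f [r, s]) (app f (s :: T.cj s r))

theorem cons_of (P : Pres T x) (I : Ind x T.n) (wf : T.wf = true) (A : Act x g (List.range T.n) f)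
    (hq : g * g = W x q) : cons T f q = true := by
  simp only [Tb.wf, List.all_eq_true, List.mem_range, Bool.and_eq_true, decide_eq_true_eq] at wf
  have k : ∀ {w : List ℕ}, (∀ r ∈ w, r < T.n) → W x (app f w) = g * W x w * g⁻¹ := fun hw =>
    (A.w (List.all_eq_true.2 fun r hr => decide_eq_true (List.mem_range.2 (hw r hr)))).symm
  rw [cons, Bool.or_eq_true, Bool.not_eq_true', ← Bool.not_eq_true]
  refine or_not_of_imp (fun h => ?_) |>.symm
  simp only [List.all_eq_true, List.mem_reverse, List.mem_range, Bool.and_eq_true]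
  refine fun s hs => ⟨⟨P.eqv I ?_, P.eqv I ?_⟩, fun r hr => P.eqv I ?_⟩
  · rw [k (by simpa using hs), k fun r hr => ((wf s hs).1 r hr).trans hs, ← P.sq s hs]; simp
  · have hs := List.mem_range.2 hs
    rw [W_append, ← A.w (List.all_eq_true.1 h s hs), ← A s hs, W_append, ← hq]
    simp [mul_assoc]
  · rw [k (by simpa using ⟨hr.trans hs, hs⟩), k (List.forall_mem_cons.2
      ⟨hs, fun i hi => ((wf s hs).2 r hr i hi).trans hs⟩), W_cons _ s, ← P.cj s hs r hr]; simp

def chkE (T : Tb) (S J : List ℕ) (f ws : List (ℕ × List ℕ)) : Bool :=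
  T.wf && [0, 1, 2, 3].all (· ∈ S) && S.all (· < T.n) && ok T S S f &&
  (List.range T.n).all (fun j => (j ∈ S || j ∈ J) && ok T S S (inn S [j])) &&
  J.all fun j => j < T.n && (app ws [j]).all (· < T.n) &&
    agree T S (cp T S (cp T S f (inn S [j])) f) (inn S (app ws [j]))

/-- An involution that normalizes the group modulo the centralizer of the letters `S` can be
adjusted so that it normalizes the group. -/
theorem ext1 (h : Lc t v s u a σ ρ) {l : List G} (P : Pres T (val (a :: u :: v :: t :: l)))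
    (hs : ∀ s, T.sq s = []) (gg : g * g = 1) (A : Act (val (a :: u :: v :: t :: l)) g S f)
    (k : chkE T S J f f' = true) : ∃ e, e * e = 1 ∧ Act (val (a :: u :: v :: t :: l)) e S f ∧
      ∀ j ∈ J, ∃ w ∈ subs 4, e * val (a :: u :: v :: t :: l) j * e⁻¹ =
        W (val (a :: u :: v :: t :: l)) (app f' [j] ++ w) := by
  simp only [chkE, Bool.and_eq_true, List.all_eq_true, decide_eq_true_eq, Bool.or_eq_true,
    List.mem_range] at k
  obtain ⟨⟨⟨⟨⟨wf, k0⟩, k1⟩, k2⟩, k3⟩, k4⟩ := k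
  have AQ : cl [a, u, v, t] ≤ cl (S.map (val (a :: u :: v :: t :: l))) :=
    cl_mono (l := [0, 1, 2, 3].map (val (a :: u :: v :: t :: l))) (List.map_subset _ k0)
  have mA := fun g => P.mem_cl (g := g) wf 4 (k1 3 (k0 3 (by simp)))
  generalize val (a :: u :: v :: t :: l) = x at P A AQ mA ⊢
  have ai : ∀ j < T.n, Act x (x j) S (inn S [j]) := fun j hj => by
    simpa using act_inn P hs (w := [j]) (by simpa using hj) S
  have key : ∀ g, g * g = 1 → Act x g S f → ∀ j ∈ J,
      (W x (app f' [j]))⁻¹ * (g * x j * g⁻¹) ∈ cen (cl (S.map x)) := fun g gg A j hj => by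
    rw [inv_eq_of_mul_eq_one_right gg]
    exact act_cen P (act_cp P (act_cp P A (ai j (k4 j hj).1.1) (k3 j (k4 j hj).1.1).2) A k2)
      (act_inn P hs (List.all_eq_true.2 fun r hr => decide_eq_true ((k4 j hj).1.2 r hr)) S) (k4 j hj).2
  have wH : ∀ j ∈ J, W x (app f' [j]) ∈ H x T.n := fun j hj => W_mem_of fun r hr =>
    x_mem ((k4 j hj).1.2 r hr)
  have QH : cl (S.map x) ≤ H x T.n := cl_le.2 fun y hy => by
    obtain ⟨r, hr, rfl⟩ := List.mem_map.1 hy
    exact x_mem (k1 r hr)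
  have HQ : H x T.n ≤ nor (cl (S.map x)) := H_le fun j hj => act_nor P (ai j hj) (k3 j hj).2
  have H2 := P.isPGroup wf le_rfl
  have gQ := act_nor P A k2
  have st : St (cl (S.map x)) (H x T.n ⊔ cen (cl (S.map x))) := ⟨H2.to_le QH, le_sup_right,
    sup_le HQ (centralizer_le_normalizer _), fun g hg ho => res_sup_le_right H2
      (le_normalizer_centralizer HQ) (mem_res_of_coprime hg (H30.DZ.cop2 ho))⟩
  obtain ⟨c, hc, e⟩ := H30.DZ.st_adj (H30.DZ.st_ext st gQ (k := 1) (mem_normalizer_of_cj_le (by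
      rw [cj_sup, cj_centralizer, cj_eq_self gQ]
      refine sup_le (cj_le_iff.2 (H_le fun j hj => mem_cj.2 ?_)) le_sup_right
      rw [inv_inv]
      rcases (k3 j hj).1 with e | e
      · exact mem_sup_left (QH (conj_mem_of_mem_normalizer gQ (mem_cl (List.mem_map_of_mem e))))
      · simpa using mul_mem (mem_sup_left (wH j e)) (mem_sup_right (key g gg A j e))))
    (by simp [pow_two, gg])) H2 (isPGroup_zpowers (k := 1) (by simp [pow_two, gg]))
    (le_sup_left.trans le_sup_left) le_sup_right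
  have ee := conj_sq (g := c) gg
  have A' : Act x (c * g * c⁻¹) S f := fun r hr => by
    have m := mem_cl (l := S.map x) (List.mem_map_of_mem hr)
    rw [← act_mul_cen A (inv_mem hc) r hr, ← mul_right_inj c⁻¹, mem_cen_iff.1 (inv_mem hc) _
      (conj_mem_of_mem_normalizer (mul_mem gQ (centralizer_le_normalizer _ (inv_mem hc))) m)]
    group
  refine ⟨_, ee, A', fun j hj => ?_⟩
  have m : c * g * c⁻¹ ∈ H x T.n ⊔ cj c (zpowers g) := mem_sup_right (conj_mem_cj (mem_zpowers g))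
  obtain ⟨w, hw, e'⟩ := mA _ (ca2m h e (mul_mem (mem_sup_left (inv_mem (wH j hj))) (mul_mem (mul_mem m
    (mem_sup_left (x_mem (k4 j hj).1.1))) (inv_mem m))) (centralizer_le AQ (key _ ee A' j hj)))
  exact ⟨w, hw, by rw [W_append, ← e', mul_inv_cancel_left]⟩

/-! ### The tables -/

def fw (w : List ℕ) : List (ℕ × List ℕ) := (5, w) :: fd
def fD (k : Bool) := fw (5 :: ow (!k) [1, 0])
def fwi (b : Bool) (w : List ℕ) := cp tbN R6 (fw w) (inn R6 (ow b [3]))
def fn1 (k b : Bool) (w : List ℕ) := cp tbN R6 (fX true k) (fwi b w)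
def fn2 (k b : Bool) (w : List ℕ) := cp tbN R6 (fw w) (fn1 k b w)
def fn3 (k b : Bool) (w : List ℕ) := cp tbN R6 (gY true k) (fn2 k b w)

theorem key2 : ∀ k b : Bool, ∀ w ∈ subs 6, cons tbN (fw w) (ow b [3]) = true →
    (ok tbN R6 R6 (fwi b w) && ok tbN R6 R6 (fn1 k b w) && ok tbN R6 R6 (fn2 k b w) &&
      tbN.same (app (fn3 k b w) [3]) [3]) = true ∧ ∀ r ∈ subs 5,
      agv tbN R6 (fn3 k b w) (inn R6 r) = true → b = false ∧ ∃ i, agree tbN R6 (fwi i w) (fD k) = true := by
  decide +kernel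

/-- The action of `X d X` on `P`. -/
def f1 (k : Bool) : List (ℕ × List ℕ) := [(0, [1]), (1, [0]), (3, [5, 2, 1] ++ ow (!k) [0]),
  (4, [5, 4, 3, 2] ++ ow k [0]), (5, [3, 2] ++ ow (!k) [1] ++ [0])]
def al (k j : Bool) : List ℕ := bif k then bif j then [0] else [1] else ow j [1, 0]
def f8 (k : Bool) (α : List ℕ) := (6, [6, 5, 3] ++ α) :: f1 k
def T8 (k j : Bool) : Tb := (T7 k).ext (f8 k (al k j))
def gσi (k : Bool) : List (ℕ × List ℕ) := (6, [5]) :: (5, [6, 5, 3, 2] ++ ow k [1]) :: sgi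
/-- The action of `σ e σ⁻¹` on `A ⟨y, Y⟩`. -/
def f2 (k j : Bool) : List (ℕ × List ℕ) := [(0, [2, 0]), (1, [2, 1]), (3, [6, bif k then 2 else 1, 0]),
  (5, [6, 5, 3] ++ ow j [2] ++ ow (!k) [1] ++ [0]), (6, 3 :: ow (!k) [1] ++ [0])]
def ws (j : Bool) : List (ℕ × List ℕ) := [(7, 7 :: ow (!j) [6, 5]), (4, 7 :: ow j [6] ++ [5, 4])]
def f9 (k j : Bool) (β γ : List ℕ) := (7, app (ws j) [7] ++ β) :: (4, app (ws j) [4] ++ γ) :: f2 k j

theorem key8 : ∀ k : Bool, (agree tbN R6 (cp tbN R6 (cp tbN R6 (fX true k) (fD k)) (fX true k)) (f1 k) &&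
    chkE (T7 k) R6 [6] (f1 k) [(6, [6, 5, 3])]) = true ∧
    ∀ α ∈ subs 4, cons (T7 k) (f8 k α) [] = true → ∃ j, α = al k j := by decide +kernel

theorem key8' : ∀ k j : Bool, (agree (T8 k j) SR (cp (T8 k j) SR (cp (T8 k j) SR (gσ k) (f8 k (al k j)))
    (gσi k)) (f2 k j) && chkE (T8 k j) SR [7, 4] (f2 k j) (ws j)) = true ∧
    ∀ w ∈ subs 8, (T8 k j).eqv (w ++ [1] ++ w.reverse) [2, 1] = false := by decide +kernel

theorem key9 (k j : Bool) : ∀ β ∈ subs 4, ∀ γ ∈ subs 4, cons (T8 k j) (f9 k j β γ) [] = true →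
    H85.En.run ((T8 k j).ext (f9 k j β γ)) test = true := by
  cases k <;> cases j <;> decide +kernel

end H30.NZ
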