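/- ON2 tower (row S2201): `JobRed` (blueprints/ON2.md). -/
import Cfsg.Agent.H89.ON2Spec
import Cfsg.Agent.H5.ThompsonFpf
import Cfsg.Agent.H2.MinNormal
import Cfsg.Agent.H2.CoreFree

set_option autoImplicit false

open MulAction Cfsg Subgroup H89.K H98 H89.ON2
open scoped commutatorElement

universe u

namespace H30.ON2

variable {G Ω : Type u} [Group G] [Finite G] [MulAction G Ω] {N : Ω → Subgroup G} {a b : Ω} {M : Subgroup G}

/-- a proper invariant subgroup of `N a` -/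
def Pi (N : Ω → Subgroup G) (a : Ω) (M : Subgroup G) : Prop :=
  M ≤ N a ∧ stabilizer G a ≤ normalizer (M : Set G) ∧ M ≠ N a

omit [Finite G] in
theorem Pi.cj (h : TI N) (k : Pi N a M) (g : G) : Pi N (g • a) (cj g M) := by
  refine ⟨h.cj_N g a ▸ cj_mono g k.1, fun x hx => ?_, fun e => k.2.2 (cj_inj.1 (e.trans (h.cj_N g a).symm))⟩
  rw [← cj_normalizer, mem_cj]
  exact k.2.1 (by rw [mem_stabilizer_iff, mul_smul, mul_smul, mem_stabilizer_iff.1 hx, inv_smul_smul])

omit [Finite G] in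
theorem Pi.reg (h : Min N) (k : Pi N a M) (hab : a ≠ b) {u : G} (hu : u ∈ M) (hb : u • b = b) : u = 1 := by
  by_contra e
  exact k.2.2 (h.min M hab k.1 k.2.1 fun z => e (mem_bot.1 (z ▸ (⟨hu, hb⟩ : u ∈ M ⊓ stabilizer G b))))

omit [Finite G] in
theorem Pi.fpf (h : Min N) (k : Pi N a M) (hab : a ≠ b) {l : G} (hl : l ∈ X N b a) (h1 : l ≠ 1) {u : G}
    (hu : u ∈ M) (e : u * l = l * u) : u = 1 :=
  k.reg h hab hu ((h.cent hab hl h1 (k.1 hu)).1 e)

theorem exists_l (h : TI N) (hab : a ≠ b) {p : ℕ} (hp : p.Prime) (hd : p ∣ Nat.card (X N a b)) :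
    ∃ l ∈ X N b a, l ≠ 1 ∧ orderOf l = p := by
  have : Fact p.Prime := ⟨hp⟩
  rw [h.card_X hab hab.symm] at hd
  obtain ⟨l, hl⟩ := exists_prime_orderOf_dvd_card' p hd
  have e : orderOf (l : G) = p := by rw [orderOf_coe, hl]
  exact ⟨l, l.2, fun z => hp.one_lt.ne' (by rw [← e, z, orderOf_one]), e⟩

theorem exists_p (h : TI N) (hab : a ≠ b) : ∃ p : ℕ, p.Prime ∧ p ∣ Nat.card (X N a b) :=
  Nat.exists_prime_and_dvd fun e => h.ne hab (card_eq_one.1 e)

omit [Finite G] in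
theorem exists_other (h : TI N) (a : Ω) : ∃ b, a ≠ b := by
  obtain ⟨x, y, -, hxy, -⟩ := h.t2.big
  by_cases e : a = x
  exacts [⟨y, e ▸ hxy⟩, ⟨x, e⟩]

theorem Pi.nil (h : Min N) (k : Pi N a M) : Group.IsNilpotent M := by
  obtain ⟨b, hab⟩ := exists_other h.toTI a
  obtain ⟨p, hp, hd⟩ := exists_p h.toTI hab
  obtain ⟨l, hl, h1, e⟩ := exists_l h.toTI hab hp hd
  exact H5.isNilpotent_of_fpf_elem (e ▸ hp) (k.2.1 hl.2) (eq_bot_iff.2 fun u hu =>
    k.fpf h hab hl h1 hu.1 (mem_centralizer_singleton_iff.1 hu.2))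

theorem Pi.cop (h : Min N) (k : Pi N a M) (hab : a ≠ b) : (Nat.card M).Coprime (Nat.card (X N a b)) := by
  refine Nat.coprime_of_dvd fun p hp h1 h2 => ?_
  have : Fact p.Prime := ⟨hp⟩
  obtain ⟨l, hl, l1, e⟩ := exists_l h.toTI hab hp h2
  have m := H2.card_modEq_card_inf_centralizer (q := p) (Q := zpowers l) (K := M)
    (IsPGroup.of_card (n := 1) (by rw [Nat.card_zpowers, e, pow_one])) (zpowers_le.2 (k.2.1 hl.2))
  rw [show M ⊓ centralizer (zpowers l : Set G) = ⊥ from eq_bot_iff.2 fun u hu =>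
    k.fpf h hab hl l1 hu.1 (hu.2 l (mem_zpowers l)).symm, card_bot] at m
  exact hp.one_lt.ne' (Nat.dvd_one.1 ((m.dvd_iff dvd_rfl).1 h1))

theorem nor_inf_cen {S A B : Subgroup G} (hA : S ≤ normalizer (A : Set G)) (hB : S ≤ normalizer (B : Set G)) :
    S ≤ normalizer ((A ⊓ centralizer (B : Set G) : Subgroup G) : Set G) := fun g hg =>
  cj_eq_self_iff.1 (by rw [cj_inf, cj_centralizer, cj_eq_self (hA hg), cj_eq_self (hB hg)])

theorem nnil (h : Min N) (a : Ω) : ¬ Group.IsNilpotent (N a) := fun hn => by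
  obtain ⟨b, hab⟩ := exists_other h.toTI a
  obtain ⟨p, hp, hd⟩ := exists_p h.toTI hab
  have : Fact p.Prime := ⟨hp⟩
  have k : Pi N a (N a ⊓ centralizer (N a : Set G)) := ⟨inf_le_left, nor_inf_cen (h.stab_le a) (h.stab_le a),
    fun e => by
      obtain ⟨x, hx, y, hy, ne⟩ := h.nab a
      exact ne ((e.ge hy).2 x hx)⟩
  obtain ⟨P⟩ : Nonempty (Sylow p (N a)) := inferInstance
  obtain ⟨⟨z, hz, hc⟩, z1⟩ := ne_bot_iff_exists_ne_one.1 (H2.inf_center_ne_bot_of_isNilpotent (P : Subgroup (N a))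
    (P.ne_bot_of_dvd_card (hd.trans (card_dvd_of_le inf_le_left))))
  obtain ⟨n, e⟩ := (IsPGroup.iff_orderOf.1 P.isPGroup') ⟨z, hz⟩
  rw [← orderOf_coe, ← orderOf_coe] at e
  have d : orderOf (z : G) ∣ Nat.card (N a ⊓ centralizer (N a : Set G) : Subgroup G) :=
    orderOf_dvd_natCard _ ⟨z.2, fun x hx => congrArg Subtype.val (mem_center_iff.1 hc ⟨x, hx⟩)⟩
  rcases n with _ | n
  · exact z1 (Subtype.ext (Subtype.ext (orderOf_eq_one_iff.1 e)))
  · exact hp.one_lt.ne' (Nat.eq_one_of_dvd_coprimes (k.cop h hab) ((e ▸ dvd_pow_self p n.succ_ne_zero).trans d) hd)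

theorem pi_sSup (h : Min N) (a : Ω) : Pi N a (sSup {M | Pi N a M}) := by
  refine ⟨sSup_le fun _ k => k.1, fun g hg => mem_normalizer_fintype fun u hu => ?_, fun e => nnil h a ?_⟩
  · have : cj g (sSup {M | Pi N a M}) ≤ sSup {M | Pi N a M} := cj_le_iff.2 (sSup_le fun M k =>
      cj_le_iff.1 (le_sSup (by simpa [mem_stabilizer_iff.1 hg] using Pi.cj h.toTI k g)))
    exact this ⟨u, hu, rfl⟩
  · have : N a ≤ (fittingSubgroup (N a)).map (N a).subtype := e.ge.trans (sSup_le fun M k => by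
      have := k.nil h
      have := H2.isNilpotent_subgroupOf M (N a)
      have : (M.subgroupOf (N a)).Normal :=
        ⟨fun x hx g => (mem_normalizer_iff.1 (k.2.1 (h.le_stab a g.2)) x).1 hx⟩
      rw [← map_subgroupOf_eq_of_le k.1]
      exact map_mono (H2.le_fitting _))
    have t : (⊤ : Subgroup (N a)) ≤ fittingSubgroup (N a) := fun x _ => by
      obtain ⟨y, hy, e⟩ := this x.2
      exact (Subtype.ext e : y = x) ▸ hy
    have := H2.isNilpotent_of_le_fitting t
    exact nilpotent_of_mulEquiv topEquiv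

theorem jobRed : JobRed.{u} := by
  intro G Ω _ _ _ N h
  have k := pi_sSup h
  have mx : ∀ (a : Ω) (M : Subgroup G), M ≤ N a → stabilizer G a ≤ normalizer (M : Set G) →
      M = N a ∨ M ≤ sSup {M | Pi N a M} := fun a M h1 h2 =>
    (em (M = N a)).imp_right fun e => le_sSup ⟨h1, h2, e⟩
  refine ⟨fun a => sSup {M | Pi N a M}, h, fun a => (k a).1, fun g a u hu => ?_, fun a => (k a).nil h,
    fun hb u hu => (k _).reg h hb.symm hu, fun hab => (k _).cop h hab, mx, nnil h, fun a => ?_⟩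
  · exact (le_sSup (Pi.cj h.toTI (k a) g) : cj g _ ≤ sSup {M | Pi N (g • a) M}) ⟨u, hu, rfl⟩
  · refine (mx a _ inf_le_left (nor_inf_cen (h.stab_le a) (k a).2.1)).symm.imp_right fun e => ?_
    have c := e.ge.trans inf_le_right
    refine ⟨c, (mx a ⁅N a, N a⁆ (commutator_le_self _) fun g hg => cj_eq_self_iff.1 (by
      rw [cj_commutator, cj_eq_self (h.stab_le a hg)])).resolve_right fun d => nnil h a ?_⟩
    refine Subgroup.isNilpotent_of_ker_le_center (Abelianization.of (G := N a)) fun x hx => mem_center_iff.2 fun y => ?_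
    rw [Abelianization.ker_of] at hx
    have := mem_map_of_mem (N a).subtype hx
    rw [commutator_def, map_commutator, ← MonoidHom.range_eq_map, range_subtype] at this
    exact Subtype.ext (c y.2 _ (d this)).symm

end H30.ON2
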