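/- Ore tower, characteristic two: `JobW` (blueprints/ORE2.md). -/
import Cfsg.Agent.H93.OrS

set_option autoImplicit false
set_option linter.unusedSimpArgs false

namespace H30.Or
open H56 H60 H93.O2 H93.FS H93.Or QuadraticMap Module Matrix

universe u

variable {F V : Type*} [Field F] [AddCommGroup V] [Module F V] [FiniteDimensional F V]
  {Q : QuadraticForm F V} {n : ℕ} {b : Fin n → V}

theorem exists_sp (hQ : Q.polarBilin.Nondegenerate) {Γ Γ' M : Matrix (Fin n) (Fin n) F}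
    (hΓ : ∀ i j, polar Q (b i) (b j) = Γ i j) (i1 : Γ * Γ' = 1) (hM : Mᵀ * Γ * M = Γ) :
    (∀ y, ∃ c y', (∀ i, polar Q (b i) y' = 0) ∧ y = Fintype.linearCombination F b c + y') ∧
    ∃ x : Sp Q, ∀ c y', (∀ i, polar Q (b i) y' = 0) →
      x • (Fintype.linearCombination F b c + y') = Fintype.linearCombination F b (M *ᵥ c) + y' := by
  set φ := Fintype.linearCombination F b
  let ψ : V →ₗ[F] (Fin n → F) := LinearMap.pi fun k => Q.polarBilin (b k)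
  have h1 : ∀ c y, polar Q (φ c) y = c ⬝ᵥ ψ y := fun c y => by
    rw [← polarBilin_apply_apply]
    simp only [φ, Fintype.linearCombination_apply, map_sum, map_smul, LinearMap.sum_apply,
      LinearMap.smul_apply]
    rfl
  have h2 : ∀ c, ψ (φ c) = Γ *ᵥ c := fun c => funext fun k => by
    simp [φ, ψ, Fintype.linearCombination_apply, map_sum, hΓ, mulVec, dotProduct, mul_comm]
  have h3 : ∀ {y}, (∀ i, polar Q (b i) y = 0) ↔ ψ y = 0 := fun {y} => (funext_iff (f := ψ y) (g := 0)).symm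
  have dec : ∀ y, ∃ c y', ψ y' = 0 ∧ y = φ c + y' := fun y =>
    ⟨Γ' *ᵥ ψ y, y - φ (Γ' *ᵥ ψ y), by rw [map_sub, h2, mulVec_mulVec, i1, one_mulVec, sub_self], by simp⟩
  let f : V →ₗ[F] V := LinearMap.id + φ ∘ₗ ((M - 1) * Γ').mulVecLin ∘ₗ ψ
  have hf : ∀ c y', ψ y' = 0 → f (φ c + y') = φ (M *ᵥ c) + y' := fun c y' e => by
    have : f (φ c + y') = φ c + y' + φ (((M - 1) * Γ') *ᵥ ψ (φ c + y')) := rfl
    rw [this, map_add, e, add_zero, h2, mulVec_mulVec, mul_assoc, mul_eq_one_comm.1 i1, mul_one, sub_mulVec,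
      one_mulVec, map_sub]
    abel
  have pol : ∀ c y d z, ψ y = 0 → ψ z = 0 → polar Q (φ c + y) (φ d + z) = c ⬝ᵥ Γ *ᵥ d + polar Q y z :=
    fun c y d z hy hz => by
      rw [polar_add_left, h1, map_add, hz, h2, add_zero, polar_add_right, polar_comm Q y, h1, hy,
        dotProduct_zero, zero_add]
  refine ⟨fun y => by simpa only [h3] using dec y, H54.isomOfLin hQ f fun u v => ?_,
    fun c y' e => hf c y' (h3.1 e)⟩
  obtain ⟨c, y, hy, rfl⟩ := dec u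
  obtain ⟨d, z, hz, rfl⟩ := dec v
  rw [hf c y hy, hf d z hz, polarBilin_apply_apply, polarBilin_apply_apply, pol _ _ _ _ hy hz,
    pol _ _ _ _ hy hz, ← vecMul_transpose, ← dotProduct_mulVec, mulVec_mulVec, mulVec_mulVec, hM]

theorem gen (hQ : Q.polarBilin.Nondegenerate) {g : O Q} {Γ Γ' G X H : Matrix (Fin n) (Fin n) F}
    (hΓ : ∀ i j, polar Q (b i) (b j) = Γ i j) (hG : ∀ j, g (b j) = ∑ i, G i j • b i) (i1 : Γ * Γ' = 1)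
    (hX : Xᵀ * Γ * X = Γ) (hH : Hᵀ * Γ * H = Γ) (e : G * (H * X) = X * H) {S : Set V}
    (hS : ∀ y, (∀ v ∈ S, polar Q v y = 0) ↔ ∀ i, polar Q (b i) y = 0) : CmS S g := fun hg => by
  obtain ⟨dec, x, hx⟩ := exists_sp hQ hΓ i1 hX
  obtain ⟨-, h, hh⟩ := exists_sp hQ hΓ i1 hH
  have gφ : ∀ c, g (Fintype.linearCombination F b c) = Fintype.linearCombination F b (G *ᵥ c) := fun c => by
    change g.lin _ = _
    simp only [Fintype.linearCombination_apply, map_sum, map_smul, O.lin_apply, hG, Finset.smul_sum, mulVec,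
      dotProduct, Finset.sum_smul, smul_smul, mul_comm]
    exact Finset.sum_comm
  refine ⟨x, h, ?_, fun y hy => ⟨by simpa using hx 0 y ((hS y).1 hy), by simpa using hh 0 y ((hS y).1 hy)⟩⟩
  rw [eq_mul_inv_iff_mul_eq, eq_mul_inv_iff_mul_eq]
  refine Subtype.ext (LinearEquiv.ext fun y => ?_)
  obtain ⟨c, z, hz, rfl⟩ := dec y
  change (inc Q g * h * x) • (_ + z) = (x * h) • (_ + z)
  rw [mul_smul, mul_smul, mul_smul, hx c z hz, hh _ z hz, hh c z hz, hx _ z hz, inc_smul, map_add, gφ,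
    hg z ((hS z).2 hz), mulVec_mulVec, mulVec_mulVec, mulVec_mulVec, mul_assoc, e]

/-- the matrices over the prime field -/
def Wt (Γ G : Matrix (Fin 6) (Fin 6) (ZMod 2)) : Prop := ∃ Γ' X H : Matrix (Fin 6) (Fin 6) (ZMod 2),
  Γ * Γ' = 1 ∧ Xᵀ * Γ * X = Γ ∧ Hᵀ * Γ * H = Γ ∧ G * (H * X) = X * H

theorem gen2 (ι : ZMod 2 →+* F) (hQ : Q.polarBilin.Nondegenerate) {g : O Q} {b : Fin 6 → V}
    {Γ G : Matrix (Fin 6) (Fin 6) (ZMod 2)} (w : Wt Γ G) (hΓ : ∀ i j, polar Q (b i) (b j) = ι (Γ i j))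
    (hG : ∀ j, g (b j) = ∑ i, ι (G i j) • b i) {S : Set V}
    (hS : ∀ y, (∀ v ∈ S, polar Q v y = 0) ↔ ∀ i, polar Q (b i) y = 0) : CmS S g := by
  obtain ⟨Γ', X, H, h1, h2, h3, h4⟩ := w
  have tr : ∀ M : Matrix (Fin 6) (Fin 6) (ZMod 2), (ι.mapMatrix M)ᵀ = ι.mapMatrix Mᵀ := fun _ => rfl
  exact gen hQ (Γ := ι.mapMatrix Γ) (Γ' := ι.mapMatrix Γ') (G := ι.mapMatrix G) (X := ι.mapMatrix X)
    (H := ι.mapMatrix H) hΓ hG (by rw [← map_mul, h1, map_one]) (by rw [tr, ← map_mul, ← map_mul, h2])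
    (by rw [tr, ← map_mul, ← map_mul, h3]) (by rw [← map_mul, ← map_mul, ← map_mul, h4]) hS

/-- the Gram matrix in the cyclic case -/
def Γc (c β γ : ZMod 2) : Matrix (Fin 6) (Fin 6) (ZMod 2) :=
  !![0,1,0,0,0,0; 1,0,0,0,0,0; 0,0,0,β,γ,c*γ; 0,0,β,0,β,γ; 0,0,γ,β,0,β; 0,0,c*γ,γ,β,0]
/-- the element in the cyclic case -/
def Gc (c : ZMod 2) : Matrix (Fin 6) (Fin 6) (ZMod 2) :=
  !![1,1,0,0,0,0; 0,1,0,0,0,0; 0,0,0,0,0,1; 0,0,1,0,0,c; 0,0,0,1,0,1; 0,0,0,0,1,c]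

theorem w010 : Wt (Γc 0 1 0) (Gc 0) :=
  ⟨!![0,1,0,0,0,0; 1,0,0,0,0,0; 0,0,0,1,0,1; 0,0,1,0,0,0; 0,0,0,0,0,1; 0,0,1,0,1,0],
    !![0,1,0,0,0,1; 0,0,1,0,0,0; 0,1,0,0,0,0; 1,0,0,0,1,0; 0,1,1,1,1,1; 1,1,0,1,1,1],
    !![0,0,0,0,1,1; 1,0,0,0,1,0; 0,0,1,1,1,0; 1,1,0,1,1,1; 1,0,1,1,1,0; 0,0,0,1,0,0], by decide +kernel⟩
theorem w001 : Wt (Γc 0 0 1) (Gc 0) :=
  ⟨!![0,1,0,0,0,0; 1,0,0,0,0,0; 0,0,0,0,1,0; 0,0,0,0,0,1; 0,0,1,0,0,0; 0,0,0,1,0,0],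
    !![0,1,0,1,1,1; 1,1,0,1,0,1; 1,1,1,0,0,0; 1,1,1,1,0,1; 1,0,0,1,0,0; 1,0,0,1,1,0],
    !![0,1,0,0,0,1; 1,0,0,0,0,1; 0,0,1,0,1,1; 1,1,0,1,1,1; 0,0,0,0,1,0; 1,1,0,1,1,0], by decide +kernel⟩
theorem w110 : Wt (Γc 1 1 0) (Gc 1) :=
  ⟨!![0,1,0,0,0,0; 1,0,0,0,0,0; 0,0,0,1,0,1; 0,0,1,0,0,0; 0,0,0,0,0,1; 0,0,1,0,1,0],
    !![1,0,1,1,0,1; 0,1,1,1,1,0; 1,1,1,0,1,0; 0,0,1,1,0,1; 0,0,0,0,1,1; 1,0,1,0,0,0],
    !![0,0,1,1,1,1; 1,0,1,1,0,0; 1,0,0,0,0,0; 1,1,0,0,0,1; 1,0,0,1,1,1; 0,1,1,0,0,0], by decide +kernel⟩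
theorem w101 : Wt (Γc 1 0 1) (Gc 1) :=
  ⟨!![0,1,0,0,0,0; 1,0,0,0,0,0; 0,0,0,0,1,0; 0,0,0,0,1,1; 0,0,1,1,0,0; 0,0,0,1,0,0],
    !![0,0,1,0,1,0; 1,0,0,1,0,0; 1,0,0,0,0,0; 1,0,1,0,1,1; 1,1,0,0,0,1; 1,0,1,1,0,0],
    !![1,1,1,0,0,1; 1,1,1,1,0,1; 1,1,1,1,1,1; 1,1,0,0,0,0; 0,1,0,1,0,0; 0,1,0,0,1,1], by decide +kernel⟩
theorem w111 : Wt (Γc 1 1 1) (Gc 1) :=
  ⟨!![0,1,0,0,0,0; 1,0,0,0,0,0; 0,0,0,1,1,1; 0,0,1,0,1,1; 0,0,1,1,0,1; 0,0,1,1,1,0],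
    !![0,0,1,0,1,1; 1,1,0,1,0,0; 0,1,1,0,1,1; 1,0,0,0,1,0; 1,1,0,0,0,0; 1,0,0,0,0,1],
    !![1,0,0,0,1,0; 0,1,0,0,1,0; 0,0,0,1,0,1; 1,1,0,1,0,0; 0,0,1,1,0,0; 1,1,0,1,1,0], by decide +kernel⟩
theorem wOm : Wt !![0,1,0,0,0,0; 1,0,0,0,0,0; 0,0,0,1,0,0; 0,0,1,0,0,0; 0,0,0,0,0,1; 0,0,0,0,1,0]
    !![1,1,0,0,0,0; 0,1,0,0,0,0; 0,0,0,1,0,0; 0,0,1,1,0,0; 0,0,0,0,0,1; 0,0,0,0,1,1] :=
  ⟨!![0,1,0,0,0,0; 1,0,0,0,0,0; 0,0,0,1,0,0; 0,0,1,0,0,0; 0,0,0,0,0,1; 0,0,0,0,1,0],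
    !![0,0,1,1,1,1; 0,0,1,1,1,0; 1,1,1,0,0,1; 0,1,1,0,0,1; 1,0,0,1,0,1; 1,0,1,1,0,0],
    !![0,0,1,1,1,0; 0,1,1,1,1,1; 0,1,0,0,0,0; 1,1,1,1,1,0; 0,0,1,0,0,1; 0,0,0,1,0,1], by decide +kernel⟩
theorem wT : Wt !![0,1,0,0,0,0; 1,0,0,0,0,0; 0,0,0,1,0,0; 0,0,1,0,0,0; 0,0,0,0,0,1; 0,0,0,0,1,0]
    !![1,1,0,0,0,0; 0,1,0,0,0,0; 0,0,1,1,0,0; 0,0,0,1,0,0; 0,0,0,0,1,1; 0,0,0,0,0,1] :=
  ⟨!![0,1,0,0,0,0; 1,0,0,0,0,0; 0,0,0,1,0,0; 0,0,1,0,0,0; 0,0,0,0,0,1; 0,0,0,0,1,0],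
    !![1,0,1,0,1,0; 0,1,0,0,0,0; 0,0,0,0,1,0; 0,0,1,1,1,1; 0,1,1,1,0,0; 0,0,1,0,1,0],
    !![1,0,0,1,1,0; 1,1,1,1,0,1; 0,0,0,1,1,0; 1,1,1,1,0,0; 1,0,0,1,0,0; 1,0,1,0,0,1], by decide +kernel⟩

theorem wc (c β γ : ZMod 2) : Wt (Γc c β γ) (Gc c) ∨ (c = 0 ∧ β = γ) ∨ (β = 0 ∧ γ = 0) := by
  have h : ∀ x : ZMod 2, x = 0 ∨ x = 1 := by decide
  rcases h c with rfl | rfl <;> rcases h β with rfl | rfl <;> rcases h γ with rfl | rfl <;>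
    simp [w010, w001, w110, w101, w111]

theorem jobW : JobW.{u} := by
  intro F V _ _ _ _ _ _ Q hQ h2 g a b t
  let ι := ZMod.castHom (dvd_refl 2) F
  have sur : Function.Surjective ι :=
    ((Nat.bijective_iff_injective_and_card ι).2 ⟨ι.injective, by rw [h2, Nat.card_zmod]⟩).2
  have al : ∀ v, polar Q v v = 0 := polar_self2 CharTwo.two_eq_zero
  have cm : ∀ {u v : V} {r : F}, polar Q u v = r → polar Q v u = r := fun e => (polar_comm _ _ _).trans e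
  refine ⟨fun x c e ne nd p => ?_, fun x x' o o' p p' => ?_, fun a' b' a'' b'' t' t'' p p' => ?_⟩
  · obtain ⟨c, rfl⟩ := sur c
    obtain ⟨β, h1⟩ := sur (polar Q x (g x))
    obtain ⟨γ, h2⟩ := sur (polar Q x (g (g x)))
    replace h1 := h1.symm
    replace h2 := h2.symm
    have h3 : polar Q (g x) (g (g x)) = ι β := (g.map_polar _ _).trans h1
    have h4 : polar Q (g (g x)) (g (g (g x))) = ι β := (g.map_polar _ _).trans h3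
    have h5 : polar Q (g x) (g (g (g x))) = ι γ := (g.map_polar _ _).trans h2
    have h6 : polar Q x (g (g (g x))) = ι c * ι γ := by
      rw [← g.map_polar, e]
      simp only [polar_add_right, polar_smul_right, al, cm h1, h3, h5, smul_eq_mul]
      grind
    have m : ∀ v ∈ ({x, g x, g (g x), g (g (g x))} : Set V),
        v ∈ Submodule.span F ({x, g x, g (g x), g (g (g x))} : Set V) := fun v hv => Submodule.subset_span hv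
    rcases wc c β γ with w | ⟨rfl, rfl⟩ | ⟨rfl, rfl⟩
    · simp only [Pp, List.forall_mem_cons, List.not_mem_nil, false_imp_iff, implies_true, and_true] at p
      obtain ⟨⟨p1, p2, p3, p4⟩, p5, p6, p7, p8⟩ := p
      refine gen2 ι hQ (b := ![a, b, x, g x, g (g x), g (g (g x))]) w (fun i j => ?_) (fun j => ?_)
        fun y => by simp [Fin.forall_fin_succ]
      · fin_cases i <;> fin_cases j <;> simp [Γc, al, t.ab, cm t.ab, h1, h2, h3, h4, h5, h6, cm h1, cm h2,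
          cm h3, cm h4, cm h5, cm h6, p1, p2, p3, p4, p5, p6, p7, p8, cm p1, cm p2, cm p3, cm p4, cm p5, cm p6,
          cm p7, cm p8]
      · fin_cases j <;> simp [Gc, Fin.sum_univ_succ, t.ga, t.gb, e, add_assoc, add_comm a]
    · refine (ne (nd _ (add_mem (add_mem (m _ (by simp)) (m _ (by simp))) (m _ (by simp)))
        (mem_perp_span.2 ?_))).elim
      simp only [Set.forall_mem_insert, Set.mem_singleton_iff, forall_eq, polar_add_right, al, h1, h2, h3, cm h1,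
        cm h2, cm h3, cm h4, cm h5, cm h6, map_zero]
      grind
    · have := nd x (m _ (by simp)) (mem_perp_span.2 (by simp [al, cm h1, cm h2, cm h6]))
      exact (ne (by simp [this])).elim
  · simp only [Pp, List.forall_mem_cons, List.not_mem_nil, false_imp_iff, implies_true, and_true] at p p'
    obtain ⟨⟨p1, p2, p3, p4⟩, p5, p6, p7, p8⟩ := p
    obtain ⟨⟨q1, q2⟩, q3, q4⟩ := p'
    refine gen2 ι hQ (b := ![a, b, x, g x, x', g x']) wOm (fun i j => ?_) (fun j => ?_)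
      fun y => by simp [Fin.forall_fin_succ]
    · fin_cases i <;> fin_cases j <;> simp [al, t.ab, cm t.ab, o.b, cm o.b, o'.b, cm o'.b, q1, q2, q3, q4,
        cm q1, cm q2, cm q3, cm q4, p1, p2, p3, p4, p5, p6, p7, p8, cm p1, cm p2, cm p3, cm p4, cm p5, cm p6,
        cm p7, cm p8]
    · fin_cases j <;> simp [Fin.sum_univ_succ, t.ga, t.gb, o.gg, o'.gg, add_comm]
  · simp only [Pp, List.forall_mem_cons, List.not_mem_nil, false_imp_iff, implies_true, and_true] at p p'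
    obtain ⟨⟨p1, p2, p3, p4⟩, p5, p6, p7, p8⟩ := p
    obtain ⟨⟨q1, q2⟩, q3, q4⟩ := p'
    refine gen2 ι hQ (b := ![a, b, a', b', a'', b'']) wT (fun i j => ?_) (fun j => ?_)
      fun y => by simp [Fin.forall_fin_succ]
    · fin_cases i <;> fin_cases j <;> simp [al, t.ab, cm t.ab, t'.ab, cm t'.ab, t''.ab, cm t''.ab, q1, q2, q3,
        q4, cm q1, cm q2, cm q3, cm q4, p1, p2, p3, p4, p5, p6, p7, p8, cm p1, cm p2, cm p3, cm p4, cm p5,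
        cm p6, cm p7, cm p8]
    · fin_cases j <;> simp [Fin.sum_univ_succ, t.ga, t.gb, t'.ga, t'.gb, t''.ga, t''.gb, add_comm]

end H30.Or
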