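import Cfsg.Agent.H59.U5FX
import Cfsg.Agent.H59.U5FW
import Cfsg.Agent.H59.U5FQ

/-! Tower SP, slot PH5, part 1: explicit elements of `SU₅` for the antidiagonal form. -/

set_option autoImplicit false
set_option linter.all false

namespace H30.PH5

open H59.UV Matrix Subgroup

theorem mul5 {R : Type} [CommRing R] (a00 a01 a02 a03 a04 a10 a11 a12 a13 a14 a20 a21 a22 a23 a24 a30 a31 a32 a33 a34 a40 a41 a42 a43 a44
    b00 b01 b02 b03 b04 b10 b11 b12 b13 b14 b20 b21 b22 b23 b24 b30 b31 b32 b33 b34 b40 b41 b42 b43 b44 : R) :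
    !![a00, a01, a02, a03, a04;
      a10, a11, a12, a13, a14;
      a20, a21, a22, a23, a24;
      a30, a31, a32, a33, a34;
      a40, a41, a42, a43, a44] *
    !![b00, b01, b02, b03, b04;
      b10, b11, b12, b13, b14;
      b20, b21, b22, b23, b24;
      b30, b31, b32, b33, b34;
      b40, b41, b42, b43, b44] =
    !![a00 * b00 + a01 * b10 + a02 * b20 + a03 * b30 + a04 * b40, a00 * b01 + a01 * b11 + a02 * b21 + a03 * b31 + a04 * b41, a00 * b02 + a01 * b12 + a02 * b22 + a03 * b32 + a04 * b42, a00 * b03 + a01 * b13 + a02 * b23 + a03 * b33 + a04 * b43, a00 * b04 + a01 * b14 + a02 * b24 + a03 * b34 + a04 * b44;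
      a10 * b00 + a11 * b10 + a12 * b20 + a13 * b30 + a14 * b40, a10 * b01 + a11 * b11 + a12 * b21 + a13 * b31 + a14 * b41, a10 * b02 + a11 * b12 + a12 * b22 + a13 * b32 + a14 * b42, a10 * b03 + a11 * b13 + a12 * b23 + a13 * b33 + a14 * b43, a10 * b04 + a11 * b14 + a12 * b24 + a13 * b34 + a14 * b44;
      a20 * b00 + a21 * b10 + a22 * b20 + a23 * b30 + a24 * b40, a20 * b01 + a21 * b11 + a22 * b21 + a23 * b31 + a24 * b41, a20 * b02 + a21 * b12 + a22 * b22 + a23 * b32 + a24 * b42, a20 * b03 + a21 * b13 + a22 * b23 + a23 * b33 + a24 * b43, a20 * b04 + a21 * b14 + a22 * b24 + a23 * b34 + a24 * b44;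
      a30 * b00 + a31 * b10 + a32 * b20 + a33 * b30 + a34 * b40, a30 * b01 + a31 * b11 + a32 * b21 + a33 * b31 + a34 * b41, a30 * b02 + a31 * b12 + a32 * b22 + a33 * b32 + a34 * b42, a30 * b03 + a31 * b13 + a32 * b23 + a33 * b33 + a34 * b43, a30 * b04 + a31 * b14 + a32 * b24 + a33 * b34 + a34 * b44;
      a40 * b00 + a41 * b10 + a42 * b20 + a43 * b30 + a44 * b40, a40 * b01 + a41 * b11 + a42 * b21 + a43 * b31 + a44 * b41, a40 * b02 + a41 * b12 + a42 * b22 + a43 * b32 + a44 * b42, a40 * b03 + a41 * b13 + a42 * b23 + a43 * b33 + a44 * b43, a40 * b04 + a41 * b14 + a42 * b24 + a43 * b34 + a44 * b44] := by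
  ext i j; fin_cases i <;> fin_cases j <;> simp [mul_apply, Fin.sum_univ_five]

theorem ext5 {R : Type} {a00 a01 a02 a03 a04 a10 a11 a12 a13 a14 a20 a21 a22 a23 a24 a30 a31 a32 a33 a34 a40 a41 a42 a43 a44
    b00 b01 b02 b03 b04 b10 b11 b12 b13 b14 b20 b21 b22 b23 b24 b30 b31 b32 b33 b34 b40 b41 b42 b43 b44 : R} :
    !![a00, a01, a02, a03, a04;
      a10, a11, a12, a13, a14;
      a20, a21, a22, a23, a24;
      a30, a31, a32, a33, a34;
      a40, a41, a42, a43, a44] =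
    !![b00, b01, b02, b03, b04;
      b10, b11, b12, b13, b14;
      b20, b21, b22, b23, b24;
      b30, b31, b32, b33, b34;
      b40, b41, b42, b43, b44] ↔
    (a00 = b00 ∧ a01 = b01 ∧ a02 = b02 ∧ a03 = b03 ∧ a04 = b04) ∧ (a10 = b10 ∧ a11 = b11 ∧ a12 = b12 ∧ a13 = b13 ∧ a14 = b14) ∧ (a20 = b20 ∧ a21 = b21 ∧ a22 = b22 ∧ a23 = b23 ∧ a24 = b24) ∧ (a30 = b30 ∧ a31 = b31 ∧ a32 = b32 ∧ a33 = b33 ∧ a34 = b34) ∧ (a40 = b40 ∧ a41 = b41 ∧ a42 = b42 ∧ a43 = b43 ∧ a44 = b44) := by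
  refine ⟨fun h => ?_, ?_⟩
  · have := fun i j => congrFun (congrFun h i) j
    exact ⟨⟨this 0 0, this 0 1, this 0 2, this 0 3, this 0 4⟩, ⟨this 1 0, this 1 1, this 1 2, this 1 3, this 1 4⟩, ⟨this 2 0, this 2 1, this 2 2, this 2 3, this 2 4⟩, ⟨this 3 0, this 3 1, this 3 2, this 3 3, this 3 4⟩, ⟨this 4 0, this 4 1, this 4 2, this 4 3, this 4 4⟩⟩
  · rintro ⟨⟨rfl, rfl, rfl, rfl, rfl⟩, ⟨rfl, rfl, rfl, rfl, rfl⟩, ⟨rfl, rfl, rfl, rfl, rfl⟩, ⟨rfl, rfl, rfl, rfl, rfl⟩, ⟨rfl, rfl, rfl, rfl, rfl⟩⟩; rfl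

theorem ct5 {R : Type} [Star R] (a00 a01 a02 a03 a04 a10 a11 a12 a13 a14 a20 a21 a22 a23 a24 a30 a31 a32 a33 a34 a40 a41 a42 a43 a44 : R) :
    (of fun i j : Fin (4 + 1) => star ((!![a00, a01, a02, a03, a04;
      a10, a11, a12, a13, a14;
      a20, a21, a22, a23, a24;
      a30, a31, a32, a33, a34;
      a40, a41, a42, a43, a44] : Matrix (Fin (4 + 1)) (Fin (4 + 1)) R) j.rev i.rev)) =
    !![star a44, star a34, star a24, star a14, star a04;
      star a43, star a33, star a23, star a13, star a03;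
      star a42, star a32, star a22, star a12, star a02;
      star a41, star a31, star a21, star a11, star a01;
      star a40, star a30, star a20, star a10, star a00] := by
  ext i j; fin_cases i <;> fin_cases j <;> rfl

theorem mv5 {R : Type} [CommRing R] (a00 a01 a02 a03 a04 a10 a11 a12 a13 a14 a20 a21 a22 a23 a24 a30 a31 a32 a33 a34 a40 a41 a42 a43 a44 v0 v1 v2 v3 v4 : R) :
    !![a00, a01, a02, a03, a04;
      a10, a11, a12, a13, a14;
      a20, a21, a22, a23, a24;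
      a30, a31, a32, a33, a34;
      a40, a41, a42, a43, a44] *ᵥ ![v0, v1, v2, v3, v4] =
    ![a00 * v0 + a01 * v1 + a02 * v2 + a03 * v3 + a04 * v4, a10 * v0 + a11 * v1 + a12 * v2 + a13 * v3 + a14 * v4, a20 * v0 + a21 * v1 + a22 * v2 + a23 * v3 + a24 * v4, a30 * v0 + a31 * v1 + a32 * v2 + a33 * v3 + a34 * v4, a40 * v0 + a41 * v1 + a42 * v2 + a43 * v3 + a44 * v4] := by
  ext i; fin_cases i <;> simp [mulVec, dotProduct, Fin.sum_univ_five]

theorem one5 {R : Type} [CommRing R] : (1 : Matrix (Fin (4 + 1)) (Fin (4 + 1)) R) =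
    !![1, 0, 0, 0, 0;
      0, 1, 0, 0, 0;
      0, 0, 1, 0, 0;
      0, 0, 0, 1, 0;
      0, 0, 0, 0, 1] := by
  ext i j; fin_cases i <;> fin_cases j <;> rfl

theorem dg5 {R : Type} [CommRing R] (d : Fin (4 + 1) → R) : diagonal d =
    !![d 0, 0, 0, 0, 0;
      0, d 1, 0, 0, 0;
      0, 0, d 2, 0, 0;
      0, 0, 0, d 3, 0;
      0, 0, 0, 0, d 4] := by
  ext i j; fin_cases i <;> fin_cases j <;> rfl

/-- the 25 entries -/
macro "ent5" : tactic => `(tactic| (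
  rw [ext5]
  simp only [star_add, star_mul', star_star, star_one, star_zero, star_inv₀]
  refine ⟨⟨?_, ?_, ?_, ?_, ?_⟩, ⟨?_, ?_, ?_, ?_, ?_⟩, ⟨?_, ?_, ?_, ?_, ?_⟩, ⟨?_, ?_, ?_, ?_, ?_⟩,
    ?_, ?_, ?_, ?_, ?_⟩ <;> grind))

variable {K : Type} [Field K] [StarRing K] [CharP K 2]

/-- the element of `X` with a given matrix -/
def mkX (M : Matrix (Fin (4 + 1)) (Fin (4 + 1)) K) (h : M.det = 1)
    (h' : M * (of fun i j => star (M j.rev i.rev)) = 1) : XU 4 K := ⟨⟨M, h⟩, mem_XU_iff.2 h'⟩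

theorem det_of_sq {M : Matrix (Fin (4 + 1)) (Fin (4 + 1)) K} (h : M * M = 1) : M.det = 1 := by
  have h2 := congrArg det h
  rw [det_mul, det_one] at h2
  have h3 : (M.det + 1) ^ 2 = 0 := by linear_combination h2 + (M.det + 1) * two0 K
  linear_combination (pow_eq_zero_iff (by decide)).1 h3 - two0 K

/-- the unitriangular matrices -/
def mU (a v p w s r : K) : Matrix (Fin (4 + 1)) (Fin (4 + 1)) K :=
  !![1, a, w + a * v, r + a * p, s + a * (v * star w + star r);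
    0, 1, v, p, v * star w + star r;
    0, 0, 1, star v, star w;
    0, 0, 0, 1, star a;
    0, 0, 0, 0, 1]

theorem mU_tri (a v p w s r : K) : (mU a v p w s r).BlockTriangular id := by
  intro i j h
  fin_cases i <;> fin_cases j <;> first | rfl | exact absurd h (by decide)

theorem mU_det (a v p w s r : K) : (mU a v p w s r).det = 1 := by
  rw [det_of_upperTriangular (mU_tri a v p w s r), Fin.prod_univ_five]
  simp [mU]

def uX (a v p w s r : K) (hp : p + star p = v * star v) (hs : s + star s = w * star w) : XU 4 K :=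
  mkX (mU a v p w s r) (mU_det ..) (by
    have := two0 K
    rw [mU, ct5, mul5, one5]
    ent5)

variable (K)

def nA : XU 4 K := mkX !![0, 1, 0, 0, 0; 1, 0, 0, 0, 0; 0, 0, 1, 0, 0; 0, 0, 0, 0, 1; 0, 0, 0, 1, 0]
  (det_of_sq (by rw [mul5, one5]; simp)) (by rw [ct5, mul5, one5]; simp)

def nB : XU 4 K := mkX !![1, 0, 0, 0, 0; 0, 0, 0, 1, 0; 0, 0, 1, 0, 0; 0, 1, 0, 0, 0; 0, 0, 0, 0, 1]
  (det_of_sq (by rw [mul5, one5]; simp)) (by rw [ct5, mul5, one5]; simp)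

/-- upper triangular matrices -/
def Bm : Subgroup (XU 4 K) where
  carrier := {g | (mt g).BlockTriangular id}
  mul_mem' := fun h h' => BlockTriangular.mul h h'
  one_mem' := blockTriangular_one
  inv_mem' := fun {g} h i j e => by
    rw [inv_apply, show mt g j.rev i.rev = 0 from h (Fin.rev_lt_rev.2 e), star_zero]

/-- diagonal matrices -/
def Hm : Subgroup (XU 4 K) where
  carrier := {g | ∃ d, mt g = diagonal d}
  mul_mem' := by
    rintro g h ⟨d, e⟩ ⟨d', e'⟩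
    exact ⟨_, by rw [mt_mul, e, e', diagonal_mul_diagonal]⟩
  one_mem' := ⟨1, by rw [mt_one]; exact diagonal_one.symm⟩
  inv_mem' := by
    rintro g ⟨d, e⟩
    refine ⟨fun i => star (d i.rev), Matrix.ext fun i j => ?_⟩
    rw [inv_apply, e, diagonal_apply, diagonal_apply]
    by_cases h : i = j
    · simp [h]
    · rw [if_neg h, if_neg (fun e => h (Fin.rev_inj.1 e).symm), star_zero]

variable {K}

theorem mt_nA : mt (nA K) =
    !![0, 1, 0, 0, 0; 1, 0, 0, 0, 0; 0, 0, 1, 0, 0; 0, 0, 0, 0, 1; 0, 0, 0, 1, 0] := rfl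
theorem mt_nB : mt (nB K) =
    !![1, 0, 0, 0, 0; 0, 0, 0, 1, 0; 0, 0, 1, 0, 0; 0, 1, 0, 0, 0; 0, 0, 0, 0, 1] := rfl
theorem mt_uX (a v p w s r : K) (hp hs) : mt (uX a v p w s r hp hs) = mU a v p w s r := rfl

theorem nA_sq : nA K * nA K = 1 := X_ext (by rw [mt_mul, mt_nA, mul5, mt_one, one5]; simp)
theorem nB_sq : nB K * nB K = 1 := X_ext (by rw [mt_mul, mt_nB, mul5, mt_one, one5]; simp)
theorem nA_inv : (nA K)⁻¹ = nA K := inv_eq_of_mul_eq_one_left nA_sq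
theorem nB_inv : (nB K)⁻¹ = nB K := inv_eq_of_mul_eq_one_left nB_sq
theorem mt_w0 : mt (nA K * nB K * nA K * nB K) =
    !![0, 0, 0, 0, 1; 0, 0, 0, 1, 0; 0, 0, 1, 0, 0; 0, 1, 0, 0, 0; 1, 0, 0, 0, 0] := by
  simp only [mt_mul, mt_nA, mt_nB, mul5]; simp
theorem braid : nA K * nB K * nA K * nB K = nB K * nA K * nB K * nA K := X_ext (by
  rw [mt_w0]; simp only [mt_mul, mt_nA, mt_nB, mul5]; simp)
theorem w0_inv : (nA K * nB K * nA K * nB K)⁻¹ = nA K * nB K * nA K * nB K := by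
  rw [_root_.mul_inv_rev, _root_.mul_inv_rev, _root_.mul_inv_rev, nA_inv, nB_inv, braid]
  simp only [mul_assoc]

theorem mU_mul {a v p w s r a' v' p' w' s' r' : K} (hp : p + star p = v * star v) :
    mU a v p w s r * mU a' v' p' w' s' r' =
    mU (a + a') (v + v') (p + p' + v * star v') (a' * v + w + w')
      (a' * star a' * p + s + a' * v * star w + s' + (a' * v + w) * star w' +
        (r * star a' + star r * a'))
      (a' * p + r + r' + (a' * v + w) * star v') := by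
  have := two0 K
  rw [mU, mU, mU, mul5]
  ent5

theorem nA_mU (v p w s r : K) :
    mt (nA K) * mU 0 v p w s r * mt (nA K) = mU 0 w s v p (star r + v * star w) := by
  have := two0 K
  rw [mt_nA, mU, mU, mul5, mul5]
  ent5

theorem nB_mU (a w s r : K) :
    mt (nB K) * mU a 0 0 w s r * mt (nB K) = mU r 0 0 w (s + (a * star r + star a * r)) a := by
  have := two0 K
  rw [mt_nB, mU, mU, mul5, mul5]
  ent5

theorem dg_rel {g : XU 4 K} {d : Fin (4 + 1) → K} (e : mt g = diagonal d) (i : Fin (4 + 1)) :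
    d i * star (d i.rev) = 1 := by
  have h : mt (g * g⁻¹) i i = 1 := by rw [mul_inv_cancel, mt_one, one_apply_eq]
  rwa [mt_mul, e, diagonal_mul, inv_apply, e, diagonal_apply_eq] at h

theorem dg_mU {d : Fin (4 + 1) → K} (h : ∀ i, d i * star (d i.rev) = 1) (a v p w s r : K) :
    diagonal d * mU a v p w s r =
      mU (d 0 * star (d 3) * a) (d 1 * star (d 2) * v) (d 1 * star (d 1) * p) (d 0 * star (d 2) * w)
        (d 0 * star (d 0) * s) (d 0 * star (d 1) * r) * diagonal d := by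
  have h0 : d 0 * star (d 4) = 1 := h 0
  have h1 : d 1 * star (d 3) = 1 := h 1
  have h2 : d 2 * star (d 2) = 1 := h 2
  have h3 : d 3 * star (d 1) = 1 := h 3
  have h4 : d 4 * star (d 0) = 1 := h 4
  rw [dg5, mU, mU, mul5, mul5]
  ent5

/-- a diagonal element -/
def dX (d0 d1 d2 d3 d4 : K) (h0 : d0 * star d4 = 1) (h1 : d1 * star d3 = 1) (h2 : d2 * star d2 = 1)
    (h : d0 * d1 * d2 * d3 * d4 = 1) : XU 4 K :=
  mkX (diagonal ![d0, d1, d2, d3, d4]) (by rw [det_diagonal, Fin.prod_univ_five]; exact h) (by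
    have h3 := congrArg star h1
    have h4 := congrArg star h0
    rw [star_mul', star_star, star_one, mul_comm] at h3 h4
    rw [dg5, ct5, mul5, one5]
    simp [h0, h1, h2, h3, h4])

theorem mt_dX (d0 d1 d2 d3 d4 : K) (h0 h1 h2 h) : mt (dX d0 d1 d2 d3 d4 h0 h1 h2 h) =
    !![d0, 0, 0, 0, 0; 0, d1, 0, 0, 0; 0, 0, d2, 0, 0; 0, 0, 0, d3, 0; 0, 0, 0, 0, d4] := dg5 _

theorem rel_a {a : K} (h : a ≠ 0) : ∃ g ∈ Hm K, mt (nA K) * mU a 0 0 0 0 0 * mt (nA K) =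
    mU a⁻¹ 0 0 0 0 0 * mt (nA K) * mt g * mU a⁻¹ 0 0 0 0 0 := by
  have := two0 K
  have h' : star a ≠ 0 := star_ne_zero.2 h
  refine ⟨dX a a⁻¹ 1 (star a) (star a)⁻¹ (by simp [h]) (by simp [h]) (by simp) (by simp [h, h']),
    ⟨_, rfl⟩, ?_⟩
  rw [mt_dX, mt_nA, mU, mU, mul5, mul5, mul5, mul5, mul5]
  ent5

theorem rel_b {v p : K} (hp : p + star p = v * star v) (h : p ≠ 0) :
    ∃ g ∈ Hm K, mt (nB K) * mU 0 v p 0 0 0 * mt (nB K) =
      mU 0 (v * (star p)⁻¹) p⁻¹ 0 0 0 * mt (nB K) * mt g * mU 0 (v * p⁻¹) p⁻¹ 0 0 0 := by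
  have := two0 K
  have h' : star p ≠ 0 := star_ne_zero.2 h
  refine ⟨dX 1 p (star p * p⁻¹) (star p)⁻¹ 1 (by simp) (by simp [h]) (by simp; field_simp)
    (by field_simp), ⟨_, rfl⟩, ?_⟩
  rw [mt_dX, mt_nB, mU, mU, mU, mul5, mul5, mul5, mul5, mul5]
  ent5

theorem Hm_le : Hm K ≤ Bm K := by
  rintro g ⟨d, e⟩
  change (mt g).BlockTriangular id
  rw [e]; exact blockTriangular_diagonal d

theorem nA_Hm {g : XU 4 K} (h : g ∈ Hm K) : nA K * g * (nA K)⁻¹ ∈ Hm K := by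
  obtain ⟨d, e⟩ := h
  refine ⟨![d 1, d 0, d 2, d 4, d 3], ?_⟩
  rw [nA_inv, mt_mul, mt_mul, e, mt_nA, dg5, dg5, mul5, mul5]; simp

theorem nB_Hm {g : XU 4 K} (h : g ∈ Hm K) : nB K * g * (nB K)⁻¹ ∈ Hm K := by
  obtain ⟨d, e⟩ := h
  refine ⟨![d 0, d 3, d 2, d 1, d 4], ?_⟩
  rw [nB_inv, mt_mul, mt_mul, e, mt_nB, dg5, dg5, mul5, mul5]; simp

theorem w0_mU {a v p w s r : K} (h : (mt (nA K * nB K * nA K * nB K) * mU a v p w s r *
    mt (nA K * nB K * nA K * nB K)).BlockTriangular id) : mU a v p w s r = 1 := by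
  rw [mt_w0, mU, mul5, mul5] at h
  have h1 := @h 4 3 (by decide)
  have h2 := @h 3 2 (by decide)
  have h3 := @h 3 1 (by decide)
  have h4 := @h 4 2 (by decide)
  have h5 := @h 4 1 (by decide)
  have h6 := @h 4 0 (by decide)
  simp at h1 h2 h3 h4 h5 h6
  simp only [h1, zero_mul, add_zero] at h4 h5 h6
  rw [one5, mU]; simp [h1, h2, h3, h4, h5, h6]

theorem TT_e0 (c : K) : mt (TT (c • ev 0) : XU 4 K) = mU 0 0 0 0 (nm c) 0 := by
  have h : Iso (c • ev 0 : Vn 4 K) := (ev_iso (by decide)).smul c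
  rw [mt_EE (ok_zero h (star_one K)), mE]
  ext i j
  fin_cases i <;> fin_cases j <;> simp [op_apply, ev_apply, mU, one_apply]

theorem gen [Finite K] [Hf K] (H : Subgroup (XU 4 K)) (hU : ∀ a v p w s r hp hs, uX a v p w s r hp hs ∈ H)
    (hA : nA K ∈ H) (hB : nB K ∈ H) : H = ⊤ := by
  haveI : Par 4 K := ⟨rfl⟩
  have := two0 K
  have k : ∀ g ∈ H, ∀ v : Vn 4 K, Iso v → TT (ac g v) ∈ H → TT v ∈ H := fun g hg v hv h => by
    rw [TT, ← Tc_conj hv (star_one K)] at h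
    simpa [mul_assoc] using H.mul_mem (H.mul_mem (H.inv_mem hg) h) hg
  have k0 : ∀ c : K, TT ![c, 0, 0, 0, 0] ∈ H := fun c => by
    have e : (![c, 0, 0, 0, 0] : Vn 4 K) = c • ev 0 := by
      ext i; fin_cases i <;> simp [ev_apply]
    rw [e, show TT (c • ev 0) = uX 0 0 0 0 (nm c) 0 (by simp) (by rw [star_nm, CharTwo.add_self_eq_zero]; simp) from
      X_ext (TT_e0 c)]
    exact hU ..
  have iso : ∀ v0 v1 v2 v3 v4 : K, Iso (![v0, v1, v2, v3, v4] : Vn 4 K) ↔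
      v0 * star v4 + v1 * star v3 + v2 * star v2 + v3 * star v1 + v4 * star v0 = 0 := by
    intro v0 v1 v2 v3 v4
    rw [Iso, hf, Fin.sum_univ_five]; rfl
  have k4 : ∀ v0 v1 v2 v3 v4 : K, v4 ≠ 0 → Iso (![v0, v1, v2, v3, v4] : Vn 4 K) →
      TT ![v0, v1, v2, v3, v4] ∈ H := fun v0 v1 v2 v3 v4 h4 hv => by
    have h4' : star v4 ≠ 0 := star_ne_zero.2 h4
    have hv' := (iso ..).1 hv
    let g := uX (star (v3 * v4⁻¹)) 0 0 (star (v2 * v4⁻¹))
      (v0 * v4⁻¹ + star (v3 * v4⁻¹) * (v1 * v4⁻¹)) (star (v1 * v4⁻¹)) (by simp) (by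
        simp only [star_add, star_mul', star_star, star_inv₀]; grind)
    have e : ac g (ac (nA K * nB K * nA K * nB K) ![v4, 0, 0, 0, 0]) = ![v0, v1, v2, v3, v4] := by
      rw [ac, ac, mt_w0, mt_uX, mU, mv5, mv5]
      simp only [star_star, Matrix.vecCons_inj, and_true]
      grind
    have hg : g * (nA K * nB K * nA K * nB K) ∈ H :=
      H.mul_mem (hU ..) (H.mul_mem (H.mul_mem (H.mul_mem hA hB) hA) hB)
    refine k _ (H.inv_mem hg) _ hv ?_
    rw [← e, ← ac_mul g, ac_inv_ac]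
    exact k0 _
  have k3 : ∀ v0 v1 v2 v3 v4 : K, v3 ≠ 0 → Iso (![v0, v1, v2, v3, v4] : Vn 4 K) →
      TT ![v0, v1, v2, v3, v4] ∈ H := fun v0 v1 v2 v3 v4 h3 hv => by
    have e : ac (nA K) ![v0, v1, v2, v3, v4] = ![v1, v0, v2, v4, v3] := by
      rw [ac, mt_nA, mv5]; simp
    exact k _ hA _ hv (by rw [e]; exact k4 _ _ _ _ _ h3 (e ▸ hv.ac _))
  refine H59.UM5.genT H fun v hv => ?_
  obtain ⟨v0, v1, v2, v3, v4, rfl⟩ : ∃ v0 v1 v2 v3 v4, v = ![v0, v1, v2, v3, v4] :=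
    ⟨v 0, v 1, v 2, v 3, v 4, by ext i; fin_cases i <;> rfl⟩
  by_cases h4 : v4 = 0
  swap
  · exact k4 _ _ _ _ _ h4 hv
  by_cases h3 : v3 = 0
  swap
  · exact k3 _ _ _ _ _ h3 hv
  by_cases h1 : v1 = 0
  · have h2 : v2 = 0 := by simpa [h3, h4] using (iso ..).1 hv
    rw [h1, h2, h3, h4]; exact k0 _
  · have e : ac (nB K) ![v0, v1, v2, v3, v4] = ![v0, v3, v2, v1, v4] := by
      rw [ac, mt_nB, mv5]; simp
    exact k _ hB _ hv (by rw [e]; exact k3 _ _ _ _ _ h1 (e ▸ hv.ac _))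

/-- A simple quotient of `X`. -/
theorem lie_of {G : Type*} [Group G] [Finite K] [Hf K] (ψ : XU 4 K →* G) (h1 : ψ.range ≠ ⊥)
    (h2 : ψ.range ⊓ centralizer (ψ.range : Set G) = ⊥) : Cfsg.IsLieTypeChar 2 ψ.range := by
  haveI : Par 4 K := ⟨rfl⟩
  haveI : FQ K := H59.UV.jobFQ 4 K
  haveI := Fintype.ofFinite K
  obtain ⟨-, e, -⟩ := H59.UVX.exists_iso (n := 4) (K := K)
  have hperf := H59.UVX.perf_congr e H59.UVX.su_perf
  have hs := H59.isSimpleGroup_PSU (H59.UVX.hF (K := K)) (n := 4 + 1) (by omega) (by omega)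
  let f := QuotientGroup.congr _ _ e (H59.UVX.map_center e)
  haveI : IsSimpleGroup (XU 4 K ⧸ center (XU 4 K)) := f.isSimpleGroup
  have hk : ψ.ker = center (XU 4 K) := by
    refine le_antisymm ((H59.UVX.nrm_of hperf _ inferInstance).resolve_right fun h => h1 ?_)
      fun z hz => ?_
    · rw [eq_bot_iff]
      rintro _ ⟨x, rfl⟩
      exact h.ge (mem_top x)
    · refine mem_bot.1 (h2.le ⟨⟨z, rfl⟩, ?_⟩)
      rintro _ ⟨x, rfl⟩
      rw [← map_mul, ← map_mul, mem_center_iff.1 hz]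
  exact .inr (.inr (.inl ⟨K, inferInstance, inferInstance, inferInstance, 4 + 1, qK K,
    H59.UVX.hF, by omega, by omega, ⟨(QuotientGroup.quotientKerEquivRange ψ).symm.trans
      ((QuotientGroup.quotientMulEquivOfEq hk).trans f)⟩⟩))

end H30.PH5
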