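import Cfsg.Agent.H74.RESpec

/-! Tower NF (S1308), chapter RE: job FIN. -/

set_option autoImplicit false

namespace H30.REFin

open Cfsg Subgroup H14 H98 H1.Gold H31.S2 H14.GC H14.FE H14.NF
open scoped commutatorElement

universe u

theorem fin : H74.RE.FIN.{u} := by
  intro G _ _ K hfour hsol hR
  obtain ⟨z, hz, -, -, hzi, -⟩ := hfour
  haveI : Fact (Nat.Prime 2) := ⟨Nat.prime_two⟩
  refine ⟨z, hz, orderOf_eq_prime (by rw [pow_two]; exact hzi.2) hzi.1, ?_, fun S => Or.inl ?_⟩
  · exact Group.isSolvable_of_isSolvable_injective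
      (f := inclusion (inf_le_right : centralizer ({z} : Set G) ⊓ centralizer (K : Set G) ≤ _))
      (inclusion_injective _)
  · have hp : IsPGroup 2 ((S : Subgroup ↥(centralizer ({z} : Set G) ⊓ centralizer (K : Set G))).map
        (centralizer ({z} : Set G) ⊓ centralizer (K : Set G)).subtype) := S.isPGroup'.map _
    obtain ⟨R, hRs, hle⟩ := exists_isSyl_le hp ((map_subtype_le _).trans inf_le_right)
    have hel := hR R hRs
    have h2 : ∀ x : (S : Subgroup ↥(centralizer ({z} : Set G) ⊓ centralizer (K : Set G))),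
        x * x = 1 := fun x =>
      Subtype.ext (Subtype.ext (hel _ (hle ⟨x.1, x.2, rfl⟩)))
    refine ⟨⟨⟨fun a b => ?_⟩⟩, fun a ha => ?_⟩
    · have ha : a⁻¹ = a := inv_eq_of_mul_eq_one_right (h2 a)
      have hb : b⁻¹ = b := inv_eq_of_mul_eq_one_right (h2 b)
      have hab : (a * b)⁻¹ = a * b := inv_eq_of_mul_eq_one_right (h2 (a * b))
      rw [← hab, mul_inv_rev, ha, hb]
    · rw [pow_two]
      exact congrArg Subtype.val (h2 ⟨a, ha⟩)

end H30.REFin
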