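/- RF tower (row S5262): `JobG1` and `JobN1` (blueprints/RF.md). -/
import Cfsg.Agent.H90.RFKit2
import Cfsg.Agent.H66.ParT2

set_option autoImplicit false
set_option linter.unusedSectionVars false
set_option linter.unusedSimpArgs false

open Subgroup H63.Oc H90.RF H66.Par H19.ParTY

universe v

namespace H30.RF

/-- a fixed-point-free surjection has no fixed point on the central quotient -/
theorem center_of_fpf {H : Type*} [Group H] [Finite H] (φ : H →* H) (hφ : MonoidHom.FixedPointFree φ)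
    (hs : Function.Surjective φ) {t : H} (h : t / φ t ∈ center H) : t ∈ center H := by
  let ψ : center H →* center H := (φ.comp (center H).subtype).codRestrict _ fun z =>
    mem_center_iff.2 fun g => by
      obtain ⟨g, rfl⟩ := hs g
      change φ g * φ z = φ z * φ g
      rw [← map_mul, mem_center_iff.1 z.2, map_mul]
  have hψ : MonoidHom.FixedPointFree ψ := fun z e => Subtype.ext (hφ z (congrArg Subtype.val e))
  obtain ⟨z, hz⟩ := hψ.commutatorMap_surjective ⟨_, h⟩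
  have : z.1 = t := hφ.commutatorMap_injective (congrArg Subtype.val hz)
  exact this ▸ z.2

variable {K : Type v} [Field K] [CharP K 2] {T : TF K} {Y0 Y8 Y1 : Subgroup (Equiv.Perm (Co T))}

/-- a matrix induced on `W` -/
def Mx (Y1 : Subgroup (Equiv.Perm (Co T))) (a b c d : K) : Prop :=
  ∃ α ∈ Y1, ∀ s r, α (ww T s r) = ww T (a * s + b * r) (c * s + d * r)

theorem Mx.mul {a b c d a' b' c' d' x y z w : K} (h : Mx Y1 a b c d) (k : Mx Y1 a' b' c' d')
    (e1 : x = a * a' + b * c') (e2 : y = a * b' + b * d') (e3 : z = c * a' + d * c')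
    (e4 : w = c * b' + d * d') : Mx Y1 x y z w := by
  obtain ⟨α, hα, e⟩ := h
  obtain ⟨β, hβ, e'⟩ := k
  refine ⟨α * β, mul_mem hα hβ, fun s r => ?_⟩
  rw [Equiv.Perm.mul_apply, e', e, e1, e2, e3, e4]
  congr 1 <;> ring

theorem ww_Q1 (s r : K) : ww T s r ∈ sQ1 T := rfl

theorem inn1 (t : Tri T Y0 Y8 Y1) (s : Co T) : ∃ α ∈ Y1, ∀ c ∈ sQ1 T, α c = s * c * s⁻¹ := by
  obtain ⟨y, hy, e⟩ := t.inn s
  obtain ⟨α, hα, e'⟩ := t.res1 y hy
  exact ⟨α, hα, fun c hc => (e' c hc).trans (e c)⟩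

theorem lower (t : Tri T Y0 Y8 Y1) (x : K) : Mx Y1 1 0 x 1 := by
  obtain ⟨α, hα, e⟩ := inn1 t (x1 T x)
  refine ⟨α, hα, fun s r => ?_⟩
  rw [e _ (ww_Q1 s r), x1_ww]
  congr 1 <;> ring

theorem upper (A : A1 T) (t : Tri T Y0 Y8 Y1) (h : ∃ α ∈ Y1, ¬ Pr α (sZ T)) (x : K) : Mx Y1 1 x 0 1 := by
  obtain ⟨α, hα, np⟩ := h
  obtain ⟨-, -, φ, a, b, c, d, e⟩ := A α (t.l1.au α hα)
  have b0 : b ≠ 0 := fun b0 => np fun z hz => by
    rw [H14.Oc.eq_x4 hz]
    change α (ww T 0 _) ∈ _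
    rw [e, b0]
    simp [mem_sZ, ww]
  obtain ⟨β, hβ, f⟩ := lower t (d / b)
  obtain ⟨c', e'⟩ : ∃ c', ∀ s r, (β * α) (ww T s r) = ww T (a * φ s + b * φ r) (c' * φ s) :=
    ⟨c + d / b * a, fun s r => by
      rw [Equiv.Perm.mul_apply, e, f]
      congr 1
      · ring
      · field_simp
        grind⟩
  have hγ := mul_mem hβ hα
  generalize β * α = γ at e' hγ
  have c0 : c' ≠ 0 := fun c0 => by
    have k := e' 1 (φ.symm (a / b))
    rw [c0, RingEquiv.apply_symm_apply, map_one, show a * 1 + b * (a / b) = 0 by field_simp; grind,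
      zero_mul] at k
    have := congrArg Co.a6 ((t.l1.au γ hγ).inj _ (ww_Q1 _ _) (k.trans (by ext <;> simp [ww])))
    simp [ww] at this
  obtain ⟨δ, hδ, g⟩ := lower t (φ.symm (x * c' / b))
  refine ⟨γ * δ * γ⁻¹, mul_mem (mul_mem hγ hδ) (inv_mem hγ), fun s r => ?_⟩
  have k : γ⁻¹ (ww T s r) = ww T (φ.symm (r / c')) (φ.symm ((s + a * (r / c')) / b)) := by
    rw [Equiv.Perm.inv_eq_iff_eq, e']
    simp only [RingEquiv.apply_symm_apply]
    congr 1 <;> field_simp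
    grind
  rw [Equiv.Perm.mul_apply, Equiv.Perm.mul_apply, k, g, e']
  simp only [map_add, map_mul, RingEquiv.apply_symm_apply, map_zero, map_one]
  congr 1 <;> field_simp <;> grind

theorem jobG1 : JobG1.{v} := by
  intro K _ _ _ T A Y0 Y8 Y1 t h
  have L := lower t
  have U := upper A t h
  have sw : Mx Y1 0 1 1 0 := ((L 1).mul (U 1) rfl rfl rfl rfl).mul (L 1) (by grind) (by grind) (by grind)
    (by grind)
  refine ⟨sw.imp fun α k => ⟨k.1, fun s r => by simpa using k.2 s r⟩, fun a => ?_⟩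
  have a0 := a.ne_zero
  have i : (a : K)⁻¹ * a = 1 := inv_mul_cancel₀ a0
  have n : Mx Y1 0 (a : K)⁻¹ a 0 := ((U (a : K)⁻¹).mul (L a) rfl rfl rfl rfl).mul (U (a : K)⁻¹) (by grind)
    (by grind) (by grind) (by grind)
  obtain ⟨α, hα, e⟩ := n.mul sw rfl rfl rfl rfl
  exact ⟨α, hα, fun r => (e 0 r).trans (by ext <;> simp [ww, x4])⟩

variable [Finite K]

section N1
variable (t : Tri T Y0 Y8 Y1) {u : Kˣ} (hu : (u : K) ≠ 1) {k : Equiv.Perm (Co T)} (hk : k ∈ Y1)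
  (ek : ∀ c ∈ sQ1 T, k c = dg T 1 u c)
include t hu hk ek

theorem fpf_k : MonoidHom.FixedPointFree (t.l1.au k hk).toAut.toMonoidHom := fun c e =>
  Subtype.ext (fpf u hu c.2 ((ek _ c.2).symm.trans (congrArg Subtype.val e)))

theorem one_k {x : Equiv.Perm (Co T)} (hx : x ∈ Y1) (h1 : ∀ s r, x (ww T s r) = ww T s r)
    (h2 : Commute k x) : x = 1 := by
  obtain ⟨s, hs, e⟩ := t.rad1 x hx fun c hc => by rw [eq_ww hc, h1]
  have ak := t.l1.au k hk
  have z : (⟨s, hs⟩ : sQ1 T)⁻¹ ∈ center (sQ1 T) := by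
    refine center_of_fpf _ (fpf_k t hu hk ek) ak.toAut.surjective (mem_center_iff.2 fun d => ?_)
    obtain ⟨c, hc, f⟩ := ak.sur d d.2
    have q := congrArg (fun y : Equiv.Perm (Co T) => y c) h2
    simp only [Equiv.Perm.mul_apply] at q
    rw [e c hc, ak.conj hs hc, f, e _ d.2] at q
    rw [map_inv, div_inv_eq_mul]
    have : d.1 * (s⁻¹ * k s) = s⁻¹ * k s * d.1 :=
      calc _ = s⁻¹ * (s * d * s⁻¹) * k s := by group
        _ = _ := by rw [← q]; group
    have b : ((t.l1.au k hk).toAut.toMonoidHom ⟨s, hs⟩ : Co T) = k s := rfl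
    refine Subtype.ext ?_
    simpa only [coe_mul, coe_inv, b] using this
  refine t.l1.ext hx (one_mem _) fun c hc => ?_
  have := congrArg Subtype.val (mem_center_iff.1 (inv_mem_iff.1 z) ⟨c, hc⟩)
  rw [e c hc, Equiv.Perm.one_apply, mul_inv_eq_iff_eq_mul]
  exact this.symm

theorem fix_k {g : Equiv.Perm (Co T)} (hg : g ∈ Y1) (sw : ∀ s r, g (ww T s r) = ww T r s) :
    ∃ n ∈ Y1, (∀ s r, n (ww T s r) = ww T r s) ∧ Commute k n := by
  have ak := t.l1.au k hk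
  have kw : ∀ s r, k (ww T s r) = ww T (chi4 T 1 u * s) (chi4 T 1 u * r) := fun s r => by
    rw [ek _ (ww_Q1 s r), dg_ww]; simp [chi4, chi6]
  have hx := mul_mem (inv_mem (mul_mem hg hk)) (mul_mem hk hg)
  obtain ⟨v, hv, e⟩ := t.rad1 _ hx fun c hc => by
    rw [eq_ww hc, Equiv.Perm.mul_apply, Equiv.Perm.inv_eq_iff_eq, Equiv.Perm.mul_apply,
      Equiv.Perm.mul_apply, sw, kw, kw, sw]
  obtain ⟨c, hc⟩ := (fpf_k t hu hk ek).commutatorMap_surjective ⟨k v, ak.mem v hv⟩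
  have hc' : c.1 * (k c)⁻¹ = k v := by rw [← div_eq_mul_inv]; exact congrArg Subtype.val hc
  obtain ⟨ι, hι, f⟩ := inn1 t c.1
  refine ⟨g * ι, mul_mem hg hι, fun s r => ?_, t.l1.ext (mul_mem hk (mul_mem hg hι))
    (mul_mem (mul_mem hg hι) hk) fun d hd => ?_⟩
  · rw [Equiv.Perm.mul_apply, f _ (ww_Q1 s r), q1_ww c.2, mul_inv_cancel_right, sw]
  · have m := nrm_Q1 c.1 hd
    have q := e _ m
    rw [Equiv.Perm.mul_apply, Equiv.Perm.inv_eq_iff_eq] at q
    simp only [Equiv.Perm.mul_apply] at q ⊢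
    rw [f d hd, q, f _ (ak.mem d hd), ak.conj hv m, ak.conj c.2 hd, ← hc']
    congr 1
    group

end N1

theorem jobN1 : JobN1.{v} := by
  intro K _ _ _ T ⟨a, a0, a1⟩ _ Φ Y0 Y8 Y1 t G S
  have H : ∀ p : Kˣ × Kˣ, ∃ α ∈ Y1, ∀ c ∈ sQ1 T, α c = dg T p.1 p.2 c := fun p => by
    obtain ⟨α, hα, e⟩ := t.res1 (au_dg (T := T) p).toTop.toEquiv
      ((S _).2 ⟨1, p, 1, one_mem _, fun c => by rw [sd_one, one_mul, inv_one, mul_one]; rfl⟩)
    exact ⟨α, hα, e⟩
  choose h hh eh using H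
  set u := Units.mk0 a a0
  have hu : (u : K) ≠ 1 := a1
  obtain ⟨g, hg, sw⟩ := G.1
  obtain ⟨n, hn, nw, ck⟩ := fix_k t hu (hh (1, u)) (eh (1, u)) hg sw
  have an := t.l1.au n hn
  have dq : ∀ (p : Kˣ × Kˣ), ∀ c ∈ sQ1 T, dg T p.1 p.2 c ∈ sQ1 T := fun p c hc =>
    eh p c hc ▸ (t.l1.au _ (hh p)).mem c hc
  have ch : ∀ p, Commute (h (1, u)) (h p) := fun p =>
    t.l1.ext (mul_mem (hh _) (hh _)) (mul_mem (hh _) (hh _)) fun c hc => by
      simp only [Equiv.Perm.mul_apply]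
      rw [eh p c hc, eh _ c hc, eh _ _ (dq p c hc), eh _ _ (dq _ c hc), dg_dg, dg_dg, mul_comm,
        mul_comm (p.2 : K)]
  have nh : ∀ p, h (w1 p) * n = n * h p := fun p => by
    refine inv_mul_eq_one.1 (one_k t hu (hh (1, u)) (eh (1, u))
      (mul_mem (inv_mem (mul_mem (hh _) hn)) (mul_mem hn (hh _))) (fun s r => ?_)
      ((((ch _).mul_right ck).inv_right).mul_right (ck.mul_right (ch p))))
    have s0 := (map_ne_zero T.σ).2 p.1.ne_zero
    have s1 := (map_ne_zero T.σ).2 p.2.ne_zero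
    rw [Equiv.Perm.mul_apply, Equiv.Perm.inv_eq_iff_eq, Equiv.Perm.mul_apply, Equiv.Perm.mul_apply, nw,
      eh _ _ (ww_Q1 _ _), eh _ _ (ww_Q1 _ _), dg_ww, dg_ww, nw]
    congr 2 <;> simp [w1, chi4, chi6] <;> field_simp
  have en : En (T := T) fun c => (n c).nu1 :=
    { mem := fun _ _ => rfl
      mul := fun c d hc hd => by rw [an.mul c hc d hd, nu1_mul (an.mem c hc) (an.mem d hd)]
      tor := fun a b c hc => by
        have q := congrArg (fun y : Equiv.Perm (Co T) => y c) (nh (a, b))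
        simp only [Equiv.Perm.mul_apply] at q
        rw [eh _ c hc, eh _ _ (an.mem c hc)] at q
        rw [← q, nu1_dg _ _ (an.mem c hc)]
        simp [w1]
      fw := fun s r => by rw [nw]; ext <;> simp [Co.nu1, ww] }
  refine ⟨n, hn, fun c hc => ?_⟩
  rw [← nu1_nu1 (an.mem c hc)]
  exact congrArg Co.nu1 (en.eq_id u hu c hc)

end H30.RF
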