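import Cfsg.Agent.H70.RRSpec

/-! Slot N of the tower for row S3530: the arithmetic of the five colours. -/

set_option autoImplicit false

namespace H30.Rr

open H70.RR

theorem pow_lcm {p k a b : ℕ} (hp : p.Prime) (h : p ^ k ∣ Nat.lcm a b) : p ^ k ∣ a ∨ p ^ k ∣ b := by
  rcases eq_or_ne a 0 with rfl | ha
  · exact .inl (dvd_zero _)
  rcases eq_or_ne b 0 with rfl | hb
  · exact .inr (dvd_zero _)
  rw [hp.pow_dvd_iff_le_factorization (Nat.lcm_ne_zero ha hb), Nat.factorization_lcm ha hb,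
    Finsupp.sup_apply, le_sup_iff] at h
  rwa [hp.pow_dvd_iff_le_factorization ha, hp.pow_dvd_iff_le_factorization hb]

/-- The colour of a maximal order. -/
def ka : Fin 6 → Fin 5 := ![0, 0, 1, 2, 3, 4]

variable {m : ℕ}

theorem mu_dvd (k : Fin 6) : mu m k ∣ 2 * col m (ka k) := by
  fin_cases k
  · show 6 ∣ 2 * 9; decide
  · show 9 ∣ 2 * 9; decide
  · exact dvd_rfl
  · exact dvd_rfl
  · exact dvd_mul_left _ _
  · exact dvd_mul_left _ _

theorem par (hm : 1 ≤ m) : ∃ r, 3 ^ (2 * m + 1) = 12 * r ^ 2 + 12 * r + 3 ∧ 1 ≤ r ∧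
    3 ^ (m + 1) = 6 * r + 3 ∧ col m 1 = 6 * r ^ 2 + 6 * r + 1 ∧ col m 2 = 3 * r ^ 2 + 3 * r + 1 ∧
    col m 3 = 12 * r ^ 2 + 6 * r + 1 ∧ col m 4 = 12 * r ^ 2 + 18 * r + 7 := by
  obtain ⟨r, hr⟩ : Odd (3 ^ m) := Odd.pow (by decide)
  have : 3 ^ 1 ≤ 3 ^ m := Nat.pow_le_pow_right (by decide) hm
  have h1 : 3 ^ (2 * m + 1) = 12 * r ^ 2 + 12 * r + 3 := by rw [pow_succ, pow_mul', hr]; ring
  have h2 : 3 ^ (m + 1) = 6 * r + 3 := by rw [pow_succ, hr]; ring
  refine ⟨r, h1, by omega, h2, ?_, ?_, ?_, ?_⟩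
  · show (3 ^ (2 * m + 1) - 1) / 2 = _
    omega
  · show (3 ^ (2 * m + 1) + 1) / 4 = _
    omega
  · show 3 ^ (2 * m + 1) - 3 ^ (m + 1) + 1 = _
    omega
  · show 3 ^ (2 * m + 1) + 3 ^ (m + 1) + 1 = _
    omega

/-- The relations between the colours and `q`. -/
theorem rel (hm : 1 ≤ m) : 2 * col m 1 + 1 = 3 ^ (2 * m + 1) ∧ 4 * col m 2 = 3 ^ (2 * m + 1) + 1 ∧
    col m 3 * col m 4 + 3 ^ (2 * m + 1) = 3 ^ (2 * m + 1) * 3 ^ (2 * m + 1) + 1 ∧
    col m 4 = col m 3 + 2 * 3 ^ (m + 1) := by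
  obtain ⟨r, h, -, h', h1, h2, h3, h4⟩ := par hm
  rw [h, h', h1, h2, h3, h4]
  exact ⟨by ring, by ring, by ring, by ring⟩

theorem small (hm : 1 ≤ m) {i : Fin 5} (hi : i ≠ 0) :
    ¬ 2 ∣ col m i ∧ ¬ 3 ∣ col m i ∧ ¬ 5 ∣ col m i ∧ 1 < col m i := by
  obtain ⟨r, -, hr, -, h1, h2, h3, h4⟩ := par hm
  have e2 : r ^ 2 % 2 = r % 2 := by
    rcases Nat.mod_two_eq_zero_or_one r with h | h <;> simp [Nat.pow_mod, h]
  have e5 : r ^ 2 % 5 = (r % 5) ^ 2 % 5 := Nat.pow_mod _ _ _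
  have h5 : r % 5 < 5 := Nat.mod_lt _ (by decide)
  generalize r ^ 2 = s at *
  have : col m i = 6 * s + 6 * r + 1 ∨ col m i = 3 * s + 3 * r + 1 ∨ col m i = 12 * s + 6 * r + 1 ∨
      col m i = 12 * s + 18 * r + 7 := by
    fin_cases i
    · exact absurd rfl hi
    · exact .inl h1
    · exact .inr (.inl h2)
    · exact .inr (.inr (.inl h3))
    · exact .inr (.inr (.inr h4))
  generalize col m i = c at *
  clear h1 h2 h3 h4
  generalize hv : r % 5 = v at *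
  interval_cases v <;> norm_num at e5 <;> omega

theorem cl_zero (p : ℕ) : Cl m 0 p ↔ p = 3 :=
  ⟨fun h => (Nat.prime_dvd_prime_iff_eq h.1 Nat.prime_three).1
    (h.1.dvd_of_dvd_pow (show p ∣ 3 ^ 2 from h.2)), fun h => h ▸ ⟨Nat.prime_three, show 3 ∣ 9 by decide⟩⟩

theorem big (hm : 1 ≤ m) {i : Fin 5} {p : ℕ} (hi : i ≠ 0) (h : Cl m i p) : 7 ≤ p := by
  obtain ⟨h2, h3, h5, -⟩ := small hm hi
  by_contra hp
  obtain ⟨h1, hd⟩ := h
  have : p < 7 := by omega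
  interval_cases p <;> first | contradiction | exact absurd h1 (by decide)

theorem odd_col (hm : 1 ≤ m) (i : Fin 5) : ¬ 2 ∣ col m i := by
  rcases eq_or_ne i 0 with rfl | hi
  · show ¬ 2 ∣ 9; decide
  · exact (small hm hi).1

theorem uniq_lt (hm : 1 ≤ m) {i j : Fin 5} {p : ℕ} (hi : Cl m i p) (hj : Cl m j p) : ¬ i < j := by
  intro hij
  have hj0 : j ≠ 0 := fun e => by simp [e] at hij
  have h7 := big hm hj0 hj
  rcases eq_or_ne i 0 with rfl | hi0
  · rw [cl_zero] at hi; omega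
  obtain ⟨h1, h2, h3, h4⟩ := rel hm
  obtain ⟨hp, a⟩ := hi
  obtain ⟨-, b⟩ := hj
  have fin : ∀ n, 0 < n → n < 7 → ¬ p ∣ n := fun n h0 h h' => by
    have := Nat.le_of_dvd h0 h'; omega
  have hA : p ∣ col m 1 → p ∣ col m 3 * col m 4 → False := fun x y => fin 1 (by decide) (by decide) (by
    have : col m 3 * col m 4 = col m 1 * (2 * 3 ^ (2 * m + 1)) + 1 := by
      rw [← h1] at h3 ⊢; nlinarith
    exact (Nat.dvd_add_right (x.mul_right _)).1 (this ▸ y))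
  have hB : p ∣ col m 2 → p ∣ col m 3 * col m 4 → False := fun x y => fin 3 (by decide) (by decide) (by
    have : col m 3 * col m 4 + col m 2 * 12 = col m 2 * (16 * col m 2) + 3 := by
      generalize 3 ^ (2 * m + 1) = q at *
      have : (4 * col m 2) * (4 * col m 2) = (q + 1) * (q + 1) := by rw [h2]
      nlinarith
    exact (Nat.dvd_add_right (x.mul_right _)).1 (this ▸ dvd_add y (x.mul_right _)))
  fin_cases i <;> fin_cases j <;> simp only [Fin.mk_lt_mk, Nat.lt_irrefl] at hij <;>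
    first | exact absurd rfl hi0 | omega | skip
  · have a' : p ∣ col m 1 := a
    have b' : p ∣ col m 2 := b
    have : col m 2 * 2 = col m 1 + 1 := by omega
    exact fin 1 (by decide) (by decide) ((Nat.dvd_add_right a').1 (this ▸ b'.mul_right _))
  · exact hA a (Dvd.dvd.mul_right b _)
  · exact hA a (Dvd.dvd.mul_left b _)
  · exact hB a (Dvd.dvd.mul_right b _)
  · exact hB a (Dvd.dvd.mul_left b _)
  · have a' : p ∣ col m 3 := a
    have b' : p ∣ col m 4 := b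
    rw [h4] at b'
    rcases (Nat.Prime.dvd_mul hp).1 ((Nat.dvd_add_right a').1 b') with h | h
    · exact fin 2 (by decide) (by decide) h
    · exact fin 3 (by decide) (by decide) (hp.dvd_of_dvd_pow h)

theorem uniq (hm : 1 ≤ m) {i j : Fin 5} {p : ℕ} (hi : Cl m i p) (hj : Cl m j p) : i = j :=
  le_antisymm (not_lt.1 (uniq_lt hm hj hi)) (not_lt.1 (uniq_lt hm hi hj))

theorem ne_two (hm : 1 ≤ m) {i : Fin 5} {p : ℕ} (h : Cl m i p) : p ≠ 2 :=
  fun e => odd_col hm i (e ▸ h.2)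

theorem cl_of_mu {p : ℕ} {k : Fin 6} (hp : p.Prime) (h : p ∣ mu m k) : p = 2 ∨ Cl m (ka k) p :=
  ((Nat.Prime.dvd_mul hp).1 (h.trans (mu_dvd k))).imp
    (Nat.prime_dvd_prime_iff_eq hp Nat.prime_two).1 fun h => ⟨hp, h⟩

theorem eq_ka (hm : 1 ≤ m) {i : Fin 5} {p : ℕ} {k : Fin 6} (h : Cl m i p) (hk : p ∣ mu m k) :
    i = ka k :=
  uniq hm h ((cl_of_mu h.1 hk).resolve_left (ne_two hm h))

theorem eq_ka2 (hm : 1 ≤ m) {i : Fin 5} {p : ℕ} {u v : Fin 6} (h : Cl m i p)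
    (hk : p ∣ Nat.lcm (mu m u) (mu m v)) : i = ka u ∨ i = ka v :=
  (h.1.dvd_or_dvd_of_dvd_lcm hk).imp (eq_ka hm h) (eq_ka hm h)

theorem om_pow {p k : ℕ} (hp : p.Prime) (h : Om m (p ^ k)) : ∃ u, p ^ k ∣ mu m u := by
  obtain ⟨u, v, h⟩ := h
  exact (pow_lcm hp h).elim (fun h => ⟨u, h⟩) fun h => ⟨v, h⟩

theorem no4 (hm : 1 ≤ m) : ¬ Om m 4 := fun h => by
  obtain ⟨u, h⟩ := om_pow (k := 2) Nat.prime_two h
  have := h.trans (mu_dvd u)
  have := odd_col hm (ka u)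
  omega

theorem no27 (hm : 1 ≤ m) : ¬ Om m 27 := fun h => by
  obtain ⟨u, h⟩ := om_pow (k := 3) Nat.prime_three h
  have h1 := h.trans (mu_dvd u)
  rcases eq_or_ne (ka u) 0 with e | e
  · rw [e] at h1
    exact absurd h1 (show ¬ 3 ^ 3 ∣ 2 * 9 by decide)
  · have := (small hm e).2.1
    omega

theorem two_mu (hm : 1 ≤ m) {u : Fin 6} (h : 2 ∣ mu m u) : u ≠ 1 ∧ ka u ≠ 3 ∧ ka u ≠ 4 := by
  fin_cases u
  · decide
  · exact absurd h (show ¬ 2 ∣ 9 by decide)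
  · decide
  · decide
  · exact absurd h (odd_col hm 3)
  · exact absurd h (odd_col hm 4)

theorem nine_mu (hm : 1 ≤ m) {u : Fin 6} (h : 3 ^ 2 ∣ mu m u) : u = 1 := by
  have h3 := eq_ka hm ((cl_zero 3).2 rfl) ((show 3 ∣ 3 ^ 2 by decide).trans h)
  fin_cases u
  · exact absurd h (show ¬ 3 ^ 2 ∣ 6 by decide)
  · rfl
  all_goals exact absurd h3 (by decide)

theorem qmod (N e : ℕ) (he : 0 < e) (h : 3 ^ (2 * e) % N = 1 % N) (m : ℕ) :
    ∃ c < e, 3 ^ (2 * m + 1) % N = 3 ^ (2 * c + 1) % N := by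
  refine ⟨m % e, Nat.mod_lt _ he, ?_⟩
  have : 2 * m + 1 = 2 * e * (m / e) + (2 * (m % e) + 1) := by
    have := Nat.div_add_mod m e
    nlinarith
  rw [this, pow_add, pow_mul]
  have h' : (3 ^ (2 * e)) ^ (m / e) ≡ 1 ^ (m / e) [MOD N] := Nat.ModEq.pow _ h
  have h'' := h'.mul_right (3 ^ (2 * (m % e) + 1))
  rwa [one_pow, one_mul] at h''

theorem clA (hm : 1 ≤ m) {s : ℕ} (hs : s.Prime) (h2 : s ≠ 2) :
    Cl m 1 s ↔ s ∣ 3 ^ (2 * m + 1) - 1 := by
  rw [← (rel hm).1, Nat.add_sub_cancel, hs.dvd_mul, Nat.prime_dvd_prime_iff_eq hs Nat.prime_two]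
  exact ⟨fun h => .inr h.2, fun h => ⟨hs, h.resolve_left h2⟩⟩

theorem clB (hm : 1 ≤ m) {s : ℕ} (hs : s.Prime) (h2 : s ≠ 2) :
    Cl m 2 s ↔ s ∣ 3 ^ (2 * m + 1) + 1 := by
  rw [← (rel hm).2.1, hs.dvd_mul]
  exact ⟨fun h => .inr h.2, fun h => ⟨hs, h.resolve_left fun h =>
    h2 ((Nat.prime_dvd_prime_iff_eq hs Nat.prime_two).1 (hs.dvd_of_dvd_pow (show s ∣ 2 ^ 2 from h)))⟩⟩

theorem clC {s : ℕ} (hs : s.Prime) : Cl m 3 s ∨ Cl m 4 s ↔ s ∣ col m 3 * col m 4 := by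
  rw [hs.dvd_mul]
  exact ⟨Or.imp And.right And.right, Or.imp (fun h => ⟨hs, h⟩) fun h => ⟨hs, h⟩⟩

theorem om_prime {s : ℕ} (hs : s.Prime) (h : Om m s) : s = 2 ∨ ∃ i, Cl m i s := by
  obtain ⟨u, h⟩ := om_pow (k := 1) hs (by rwa [pow_one])
  exact (cl_of_mu hs (by rwa [pow_one] at h)).imp id fun h => ⟨_, h⟩

theorem om_cases (hm : 1 ≤ m) {s : ℕ} (hs : s.Prime) (h3 : 3 < s) (h : Om m s) :
    s ∣ 3 ^ (2 * m + 1) - 1 ∨ s ∣ 3 ^ (2 * m + 1) + 1 ∨ s ∣ col m 3 * col m 4 := by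
  rcases om_prime hs h with e | ⟨i, h⟩
  · omega
  fin_cases i
  · have := (cl_zero s).1 h; omega
  · exact .inl ((clA hm hs (by omega)).1 h)
  · exact .inr (.inl ((clB hm hs (by omega)).1 h))
  · exact .inr (.inr ((clC hs).1 (.inl h)))
  · exact .inr (.inr ((clC hs).1 (.inr h)))

theorem seven (hm : 1 ≤ m) : ∃ i, i ≠ 0 ∧ i ≠ 1 ∧ Cl m i 7 := by
  have hp : Nat.Prime 7 := by decide
  have h3 := (rel hm).2.2.1
  have : 7 ∣ 3 ^ (2 * m + 1) + 1 ∨ 7 ∣ col m 3 * col m 4 := by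
    obtain ⟨c, hc, h⟩ := qmod 7 3 (by decide) (by decide) m
    generalize 3 ^ (2 * m + 1) = q at *
    have hq := Nat.mul_mod q q 7
    rw [h] at hq
    interval_cases c <;> norm_num at h hq <;> omega
  rcases this with h | h
  · exact ⟨2, by decide, by decide, (clB hm hp (by decide)).2 h⟩
  · rcases (clC hp).2 h with h | h
    exacts [⟨3, by decide, by decide, h⟩, ⟨4, by decide, by decide, h⟩]

theorem c13 (hm : 1 ≤ m) (h : Om m 13) : Cl m 1 13 ∧ Cl m 2 7 := by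
  have h1 := om_cases hm (by decide) (by decide) h
  have h3 := (rel hm).2.2.1
  rw [clA hm (by decide) (by decide), clB hm (by decide) (by decide)]
  obtain ⟨c, hc, h⟩ := qmod 91 3 (by decide) (by decide) m
  generalize 3 ^ (2 * m + 1) = q at *
  have hq := Nat.mul_mod q q 91
  rw [h] at hq
  interval_cases c <;> norm_num at h hq <;> omega

theorem c37 (hm : 1 ≤ m) (h : Om m 19) :
    (Cl m 2 19 ∧ Cl m 2 37) ∨ ((Cl m 3 19 ∨ Cl m 4 19) ∧ (Cl m 3 37 ∨ Cl m 4 37)) := by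
  have h1 := om_cases hm (by decide) (by decide) h
  have h3 := (rel hm).2.2.1
  rw [clB hm (by decide) (by decide), clB hm (by decide) (by decide), clC (by decide),
    clC (by decide)]
  obtain ⟨c, hc, h⟩ := qmod 703 9 (by decide) (by norm_num) m
  generalize 3 ^ (2 * m + 1) = q at *
  have hq := Nat.mul_mod q q 703
  rw [h] at hq
  interval_cases c <;> norm_num at h hq <;> omega

theorem jobN : JobN := fun m hm => {
  ex := fun i => by
    rcases eq_or_ne i 0 with rfl | hi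
    · exact ⟨3, (cl_zero 3).2 rfl⟩
    · exact Nat.exists_prime_and_dvd (small hm hi).2.2.2.ne'
  uniq := fun _ _ _ => uniq hm
  zero := cl_zero
  big := fun _ _ => big hm
  prime := fun _ => om_prime
  three := fun i j k a b c hij hik hjk ha hb hc ⟨u, v, h⟩ => by
    have h1 := eq_ka2 hm ha (((dvd_mul_right a b).mul_right c).trans h)
    have h2 := eq_ka2 hm hb (((dvd_mul_left b a).mul_right c).trans h)
    have h3 := eq_ka2 hm hc ((dvd_mul_left c _).trans h)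
    omega
  mono := fun i j a b k hij ha hb h =>
    hij ((eq_ka hm ha ((dvd_mul_right a b).trans h)).trans
      (eq_ka hm hb ((dvd_mul_left b a).trans h)).symm)
  no4 := no4 hm
  no27 := no27 hm
  cd := fun c d hc hd ⟨u, v, h⟩ => by
    have h1 := (Nat.prime_two.dvd_or_dvd_of_dvd_lcm (((dvd_mul_right 2 c).mul_right d).trans h)).imp
      (two_mu hm) (two_mu hm)
    have h2 := eq_ka2 hm hc (((dvd_mul_left c 2).mul_right d).trans h)
    have h3 := eq_ka2 hm hd ((dvd_mul_left d _).trans h)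
    omega
  n18 := fun c hc ⟨u, v, h⟩ => by
    have h1 := (Nat.prime_two.dvd_or_dvd_of_dvd_lcm
      (((show 2 ∣ 18 by decide).mul_right c).trans h)).imp (two_mu hm) (two_mu hm)
    have h2 := (pow_lcm Nat.prime_three (((show 3 ^ 2 ∣ 18 by decide).mul_right c).trans h)).imp
      (nine_mu hm) (nine_mu hm)
    have h3 := hc.imp (fun hc => eq_ka2 hm hc ((dvd_mul_left c _).trans h))
      fun hc => eq_ka2 hm hc ((dvd_mul_left c _).trans h)
    revert h1 h2 h3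
    clear h
    revert u v
    decide
  pow := fun s hs => by
    have h0 : col m 1 ≠ 0 := by have := (small hm (i := 1) (by decide)).2.2.2; omega
    have h1 : 1 ≤ (col m 1).factorization s := (hs.1.dvd_iff_one_le_factorization h0).1 hs.2
    refine ⟨(col m 1).factorization s - 1, ?_, fun h => ?_⟩
    · rw [Nat.sub_add_cancel h1]
      exact Nat.ordProj_dvd _ _
    · rw [Nat.sub_add_cancel h1] at h
      obtain ⟨u, h⟩ := om_pow hs.1 h
      have e := eq_ka hm hs ((dvd_pow_self s (Nat.succ_ne_zero _)).trans h)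
      have h2 := h.trans (mu_dvd u)
      rw [← e] at h2
      exact Nat.pow_succ_factorization_not_dvd h0 hs.1 (Nat.Coprime.dvd_of_dvd_mul_left
        (((Nat.coprime_primes hs.1 Nat.prime_two).2 (ne_two hm hs)).pow_left _) h2)
  d18 := fun n hn h => (Nat.dvd_iff_prime_pow_dvd_dvd 18 n).2 fun p k hp hk => by
    rcases Nat.eq_zero_or_pos k with rfl | h0
    · simp
    rcases h p hp ((dvd_pow_self p h0.ne').trans hk) with rfl | rfl
    · have : k < 2 := lt_of_not_ge fun h2 => no4 hm (hn.of_dvd ((pow_dvd_pow 2 h2).trans hk))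
      exact (pow_dvd_pow 2 (show k ≤ 1 by omega)).trans (by decide)
    · have : k < 3 := lt_of_not_ge fun h2 => no27 hm (hn.of_dvd ((pow_dvd_pow 3 h2).trans hk))
      exact (pow_dvd_pow 3 (show k ≤ 2 by omega)).trans (by decide)
  seven := seven hm
  clA := fun _ => clA hm
  clB := fun _ => clB hm
  c13 := c13 hm
  c37 := fun h _ => c37 hm h }

end H30.Rr
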