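/- Tower RV (S5207), Monster part: the invariant Sylow subgroup. -/
import Cfsg.Agent.H30.RvLA
import Cfsg.Agent.H18.WOrd2

set_option autoImplicit false
set_option linter.unusedSectionVars false
open Cfsg hiding pRank
open H46 Subgroup H7.GW

namespace H30.Rv

variable {G : Type} [Group G] [Finite G] {z x a b w : G}

theorem p13 : Nat.Prime 13 := by norm_num

theorem step {A B : Subgroup G} (hB : IsPGroup 13 B) (h : A ≤ B) (ne : ¬ B ≤ A) :
    13 * Nat.card A ∣ Nat.card B := by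
  obtain ⟨k, hk⟩ := IsPGroup.iff_card.1 hB
  have e := card_mul_relIndex h
  obtain ⟨i, -, hi⟩ := (Nat.dvd_prime_pow p13).1 (hk ▸ Dvd.intro_left _ e)
  rw [← e, mul_comm, hi]
  refine mul_dvd_mul_left _ (dvd_pow_self _ fun i0 => ne (relIndex_eq_one.1 ?_))
  rw [hi, i0, pow_zero]

theorem small {R : Subgroup G} (hR : IsPGroup 13 R) (h : ¬ 13 ^ 2 ∣ Nat.card R) {s : G} (hs : s ∈ R)
    (s1 : s ≠ 1) : R ≤ zpowers s := by
  by_contra k
  have h1 := step hR (zpowers_le.2 hs) k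
  have h2 := step (hR.to_le (zpowers_le.2 hs)) bot_le fun e => s1 (mem_bot.1 (e (mem_zpowers s)))
  rw [card_bot, mul_one] at h2
  exact h ((sq 13 ▸ mul_dvd_mul_left 13 h2).trans h1)

theorem pg_zp {p k : ℕ} {g : G} (h : g ^ p ^ k = 1) : IsPGroup p (zpowers g) := by
  rintro ⟨_, n, rfl⟩
  exact ⟨k, Subtype.ext (by
    change (g ^ n) ^ p ^ k = 1
    rw [← zpow_natCast, ← zpow_mul, mul_comm, zpow_mul, zpow_natCast, h, one_zpow])⟩

theorem cm_zp {c u : G} (h : c * x = x * c) (hu : u ∈ zpowers x) : c * u = u * c := by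
  obtain ⟨k, rfl⟩ := hu
  exact (Commute.zpow_right h k).eq

namespace Hyp0
variable (h : Hyp0 13 z x a b w)
include h

theorem zz : z * z = 1 := by rw [← sq, ← h.oz, pow_orderOf_eq_one]
theorem z1 : z ≠ 1 := fun e => by have := h.oz; rw [e, orderOf_one] at this; omega
theorem x1 : x ≠ 1 := fun e => by have := h.ox; rw [e, orderOf_one] at this; omega
theorem x13 : x ^ 13 = 1 := by rw [← h.ox, pow_orderOf_eq_one]
theorem za : z * a = a * z := by rw [← h.aa, mul_assoc]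
theorem zb : z * b = b * z := by rw [← h.bb, mul_assoc]
theorem zx : z * x = x * z := by rw [← h.aa, mul_assoc, h.ax, ← mul_assoc, h.ax, mul_assoc]
theorem abz : a * b = b * a * z := by
  have e : b * (a * b) = a := mul_left_cancel (a := a) (by rw [← mul_assoc, h.ab, h.aa])
  calc a * b = z * z * (a * b) := by rw [h.zz, one_mul]
    _ = z * (b * b) * (a * b) := by rw [h.bb]
    _ = z * b * (b * (a * b)) := by group
    _ = _ := by rw [e, h.zb, mul_assoc, h.za, mul_assoc]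
theorem baz : b * a = a * b * z := by rw [h.abz, mul_assoc, h.zz, mul_one]
theorem zw : z * w = w * z := by
  rcases h.wa with e | e
  · rw [← h.aa, mul_assoc, ← e, ← mul_assoc, ← e, mul_assoc]
  · calc z * w = a * (a * w) * (z * z) := by rw [h.zz, mul_one, ← mul_assoc, h.aa]
      _ = a * (a * w * z) * z := by group
      _ = a * w * (a * z) := by rw [← e]; group
      _ = a * w * z * a := by rw [← h.za]; group
      _ = _ := by rw [← e, mul_assoc, h.aa]

theorem twist {q : G} (qx : q * x = x * q) (qz : q * z = z * q) (qq : q * q = 1 ∨ q * q = z)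
    (wq : w * q = q * w ∨ w * q = q * w * z) (e1 : w * q * a = a * (w * q)) (e2 : w * q * b = b * (w * q)) :
    Hyp0 13 z x a b (w * q) := by
  refine { h with wx := ?_, wa := .inl e1, wb := .inl e2, ww := ?_ }
  · rw [mul_assoc w, qx, ← h.wx]; group
  · have k : w * q * (w * q) = w * w * (q * q) ∨ w * q * (w * q) = w * w * (q * q) * z := by
      refine wq.imp (fun e => ?_) fun e => ?_
      · rw [mul_assoc, ← mul_assoc q, ← e]; group
      · have : q * w = w * q * z := by rw [e, mul_assoc, h.zz, mul_one]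
        rw [mul_assoc, ← mul_assoc q, this, mul_assoc _ z, ← qz]; group
    rcases k with k | k <;> rcases h.ww with c | c <;> rcases qq with d | d <;> rw [k, c, d] <;>
      simp [h.zz]

theorem norm : ∃ w, Hyp0 13 z x a b w ∧ w * a = a * w ∧ w * b = b * w := by
  have za := h.za
  have zb := h.zb
  have zw := h.zw
  rcases h.wa with e | e <;> rcases h.wb with f | f
  · exact ⟨w, h, e, f⟩
  · have e1 : w * a * a = a * (w * a) := by rw [← mul_assoc, ← e]
    have e2 : w * a * b = b * (w * a) := by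
      rw [mul_assoc, h.abz, ← mul_assoc, ← mul_assoc, f, mul_assoc _ z, za, ← mul_assoc, mul_assoc _ z, h.zz]
      group
    exact ⟨_, h.twist h.ax za.symm (.inr h.aa) (.inl e) e1 e2, e1, e2⟩
  · have e1 : w * b * a = a * (w * b) := by
      rw [mul_assoc, h.baz, ← mul_assoc, ← mul_assoc, e, mul_assoc _ z, zb, ← mul_assoc, mul_assoc _ z, h.zz]
      group
    have e2 : w * b * b = b * (w * b) := by rw [← mul_assoc, ← f]
    exact ⟨_, h.twist h.bx zb.symm (.inr h.bb) (.inl f) e1 e2, e1, e2⟩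
  · have e1 : w * (a * b) * a = a * (w * (a * b)) := by
      calc w * (a * b) * a = w * a * (b * a) := by group
        _ = a * w * (z * a) * b * z := by rw [e, h.baz]; group
        _ = a * w * a * (z * b) * z := by rw [za]; group
        _ = a * w * a * b * (z * z) := by rw [zb]; group
        _ = _ := by rw [h.zz]; group
    have e2 : w * (a * b) * b = b * (w * (a * b)) := by
      calc w * (a * b) * b = w * b * a * (z * b) := by rw [h.abz]; group
        _ = b * w * (z * a) * b * z := by rw [f, zb]; group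
        _ = b * w * a * (z * b) * z := by rw [za]; group
        _ = b * w * a * b * (z * z) := by rw [zb]; group
        _ = _ := by rw [h.zz]; group
    have e3 : w * (a * b) = a * b * w := by
      calc w * (a * b) = a * w * (z * b) := by rw [← mul_assoc, e]; group
        _ = a * (w * b) * z := by rw [zb]; group
        _ = a * b * w * (z * z) := by rw [f]; group
        _ = _ := by rw [h.zz, mul_one]
    exact ⟨_, h.twist (by rw [mul_assoc, h.bx, ← mul_assoc, h.ax, mul_assoc])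
      (by rw [mul_assoc, ← zb, ← mul_assoc, ← za, mul_assoc]) (.inr h.ab) (.inl e3) e1 e2, e1, e2⟩

theorem pgx : IsPGroup 13 (zpowers x) := pg_zp (k := 1) (by rw [pow_one, h.x13])

theorem big : 13 ^ 2 ∣ Nat.card (Cent1 x) := by
  by_contra k
  obtain ⟨S, hS⟩ := h.pgx.exists_le_sylow
  have cS : Nat.card S = 13 ^ 3 := by rw [S.card_eq_multiplicity, h.syl]
  haveI : Nontrivial S := Finite.one_lt_card_iff_nontrivial.1 (by rw [cS]; norm_num)
  haveI := S.isPGroup'.center_nontrivial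
  obtain ⟨c, c1⟩ := exists_ne (1 : center S)
  have cc : ∀ s ∈ (S : Subgroup G), s * c.1.1 = c.1.1 * s := fun s hs =>
    congrArg Subtype.val (mem_center_iff.1 c.2 ⟨s, hs⟩)
  have xS := hS (mem_zpowers x)
  have := small (R := S ⊓ Cent1 x) S.isPGroup'.to_inf_left
    (fun d => k (d.trans (card_dvd_of_le inf_le_right))) (s := c.1.1)
    ⟨c.1.2, mem_cent1.2 (cc x xS).symm⟩ (fun e => c1 (Subtype.ext (Subtype.ext e))) ⟨xS, self_mem_cent1 x⟩
  refine k (dvd_trans ?_ (card_dvd_of_le (H := S) fun s hs => mem_cent1.2 (cm_zp (cc s hs) this)))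
  rw [cS]; norm_num

end Hyp0

/-- the invariant `13`-subgroup of `C(x)` -/
structure Cx (z x a b w : G) (P : Subgroup G) : Prop extends Hyp0 13 z x a b w where
  wa' : w * a = a * w
  wb' : w * b = b * w
  pg : IsPGroup 13 P
  xP : x ∈ P
  cen : P ≤ Cent1 x
  na : a ∈ Nrm P
  nb : b ∈ Nrm P
  nw : w ∈ Nrm P
  sq : 13 ^ 2 ∣ Nat.card P

theorem dvd_sq {m n : ℕ} (h : 13 ^ 3 ∣ m * n) (k : ¬ 13 ^ 2 ∣ n) : 13 ^ 2 ∣ m := by
  by_cases d : 13 ∣ n
  · obtain ⟨n, rfl⟩ := d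
    have c : ¬ 13 ∣ n := fun e => k (sq 13 ▸ mul_dvd_mul_left 13 e)
    refine (((Nat.Prime.coprime_iff_not_dvd p13).2 c).pow_left 2).dvd_of_dvd_mul_right
      (Nat.dvd_of_mul_dvd_mul_left (k := 13) (by norm_num) ?_)
    rwa [mul_left_comm] at h
  · exact (pow_dvd_pow 13 (by norm_num)).trans
      ((((Nat.Prime.coprime_iff_not_dvd p13).2 d).pow_left 3).dvd_of_dvd_mul_right h)

theorem exists_cx (h : Hyp0 13 z x a b w) (wa : w * a = a * w) (wb : w * b = b * w) :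
    ∃ P, Cx z x a b w P := by
  have zC : z ∈ Cent1 x := mem_cent1.2 h.zx
  have e := H18.WO.zstar_sup h.oz zC fun g hg hc =>
    (h.uniq _ (by rw [conj_mul, h.zz]; simp) (mem_cent1.1 (mul_mem (mul_mem hg zC) (inv_mem hg)))
      (mem_cent1.1 hc)).resolve_left fun k => h.z1 (by simpa using k)
  have p4 : ∀ {g : G}, g * g = 1 ∨ g * g = z → IsPGroup 2 (zpowers g) := fun {g} k => pg_zp (k := 2) (by
    rw [show g ^ 2 ^ 2 = g * g * (g * g) by norm_num [pow_succ, mul_assoc]]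
    rcases k with k | k <;> rw [k]
    exacts [one_mul 1, h.zz])
  have t1 : IsPGroup 2 (zpowers a ⊔ zpowers b : Subgroup G) :=
    (p4 (.inr h.aa)).to_sup_of_normal_left' (p4 (.inr h.bb)) (zpowers_le.2 (mem_nrm_of_cj_le (by
      rw [cj_zpowers, zpowers_le, h.baz, mul_assoc a, ← h.zb, ← mul_assoc, mul_inv_cancel_right, ← h.aa]
      exact mul_mem (mem_zpowers a) (mul_mem (mem_zpowers a) (mem_zpowers a)))))
  have t2 : IsPGroup 2 (zpowers a ⊔ zpowers b ⊔ zpowers w : Subgroup G) :=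
    t1.to_sup_of_normal_left' (p4 h.ww) (zpowers_le.2 (mem_nrm_of_cj_le (by
      rw [cj, Subgroup.map_sup]
      refine sup_le_sup ((cj_zpowers w a).trans ?_).le ((cj_zpowers w b).trans ?_).le
      · rw [wa, mul_inv_cancel_right]
      · rw [wb, mul_inv_cancel_right])))
  have le : ∀ {K : Subgroup G}, Cent1 x ≤ K → w ∈ K → zpowers a ⊔ zpowers b ⊔ zpowers w ≤ K :=
    fun k1 k2 => sup_le (sup_le (zpowers_le.2 (k1 (mem_cent1.2 h.ax))) (zpowers_le.2 (k1 (mem_cent1.2 h.bx))))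
      (zpowers_le.2 k2)
  have xO : zpowers x ≤ Od (Cent1 x) := le_Od (by rw [Nat.card_zpowers, h.ox]; decide)
    ⟨zpowers_le.2 (self_mem_cent1 x), cent1_le_nrm_zpowers x⟩
  obtain ⟨k, hk⟩ := IsPGroup.iff_card.1 t2
  haveI := t2.isNilpotent
  obtain ⟨P, hP, n, xP⟩ := coprime_Sylow_subset (p := 13) p13
    (nrm_piCoreOf _ (le le_nrm_self (mem_nrm_iff_cj.2 (by
      rw [cj_cent1, h.wx, ← cent_zpowers, zpowers_inv, cent_zpowers]))) :
      zpowers a ⊔ zpowers b ⊔ zpowers w ≤ Nrm (Od (Cent1 x)))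
    (by rw [hk]; exact (Nat.coprime_two_left.2 (odd_Od _)).pow_left k) (.inl inferInstance) xO h.pgx
    (le (cent1_le_nrm_zpowers x) (mem_nrm_iff_cj.2 (by rw [cj_zpowers, h.wx, zpowers_inv])))
  refine ⟨P, h, wa, wb, hP.isPGroup p13, xP (mem_zpowers x), hP.1.trans (Od_le _),
    n (mem_sup_left (mem_sup_left (mem_zpowers a))), n (mem_sup_left (mem_sup_right (mem_zpowers b))),
    n (mem_sup_right (mem_zpowers w)), ?_⟩
  have c := card_sup_mul_card_inf (H := Cent1 x ⊓ Cent1 z) (K := Od (Cent1 x))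
    (inf_le_left.trans (Od_normalIn _).2)
  rw [← e] at c
  have d : 13 ∣ Nat.card (Od (Cent1 x) ⊓ (Cent1 x ⊓ Cent1 z) : Subgroup G) := by
    rw [← h.ox, ← Nat.card_zpowers]
    exact card_dvd_of_le (le_inf xO (zpowers_le.2 ⟨self_mem_cent1 x, mem_cent1.2 h.zx.symm⟩))
  have f := dvd_sq (c ▸ (pow_succ 13 2 ▸ mul_dvd_mul h.big d))
    fun k => h.inv z h.oz (k.trans (card_dvd_of_le inf_le_right))
  rw [← card_mul_relIndex hP.1] at f
  exact (((Nat.Prime.coprime_iff_not_dvd p13).2 (hP.2.2 13 p13 rfl)).pow_left 2).dvd_of_dvd_mul_right f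

namespace Cx
variable {P : Subgroup G} (h : Cx z x a b w P) {s s' t t' v v' : G}
include h

theorem fixA (ht : orderOf t = 2) (hs : s ∈ P) (hs' : s' ∈ P) (e : s * t = t * s) (e' : s' * t = t * s')
    (s1 : s ≠ 1) : s' ∈ zpowers s :=
  small (R := P ⊓ Cent1 t) h.pg.to_inf_left (fun k => h.inv t ht (k.trans (card_dvd_of_le inf_le_right)))
    ⟨hs, mem_cent1.2 e⟩ s1 ⟨hs', mem_cent1.2 e'⟩

theorem nz : z ∈ Nrm P := h.aa ▸ mul_mem h.na h.na
theorem xle : zpowers x ≤ P := zpowers_le.2 h.xP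
theorem pw {u : G} (hu : u ∈ zpowers x) : u ^ 13 = 1 := by
  obtain ⟨k, rfl⟩ := hu
  rw [← zpow_natCast, ← zpow_mul, mul_comm, zpow_mul, zpow_natCast, h.x13, one_zpow]
theorem cm {u : G} (hu : u ∈ zpowers x) (hs : s ∈ P) : s * u = u * s := cm_zp (mem_cent1.1 (h.cen hs)) hu

theorem zfix (hs : s ∈ P) (e : z * s * z⁻¹ * s⁻¹ ∈ zpowers x) : s ∈ zpowers x := by
  obtain ⟨u, hu⟩ : ∃ u, z * s * z⁻¹ = u * s := ⟨z * s * z⁻¹ * s⁻¹, by group⟩
  rw [hu, mul_inv_cancel_right] at e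
  have k : u * u = 1 := by
    have : z * (z * s * z⁻¹) * z⁻¹ = s := by
      rw [← mul_assoc, ← mul_assoc, h.zz, one_mul, mul_assoc, ← mul_inv_rev, h.zz, inv_one, mul_one]
    rw [hu, ← mul_assoc, cm_zp h.zx e, mul_assoc u, mul_assoc u, hu, ← mul_assoc] at this
    exact mul_eq_right.1 this
  have u1 : u = 1 := by
    have := h.pw e
    rwa [show u ^ 13 = (u * u) ^ 6 * u by rw [← _root_.sq, ← pow_mul, ← pow_succ], k, one_pow, one_mul] at this
  rw [u1, one_mul, mul_inv_eq_iff_eq_mul] at hu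
  exact h.fixA h.oz h.xP hs h.zx.symm hu.symm h.x1

theorem cyc (hs : s ∈ P) (ha : a * s * a⁻¹ ∈ zpowers x ⊔ zpowers s)
    (hb : b * s * b⁻¹ ∈ zpowers x ⊔ zpowers s) : s ∈ zpowers x := by
  have n : zpowers s ≤ Nrm (zpowers x) := zpowers_le.2 (cent1_le_nrm_zpowers x (h.cen hs))
  obtain ⟨k, hk, _, ⟨i, rfl⟩, e⟩ := (mem_sup_of_nrm n).1 ha
  obtain ⟨l, hl, _, ⟨j, rfl⟩, f⟩ := (mem_sup_of_nrm n).1 hb
  have g : ∀ {c d k l : G} {i j : ℤ}, c * x = x * c → k ∈ zpowers x → l ∈ zpowers x →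
      c * s * c⁻¹ = k * s ^ i → d * s * d⁻¹ = l * s ^ j →
      c * d * s * (c * d)⁻¹ = l * k ^ j * s ^ (i * j) := by
    intro c d k l i j cx hk hl e f
    rw [show c * d * s * (c * d)⁻¹ = c * (d * s * d⁻¹) * c⁻¹ by group, f, ← mul_assoc, cm_zp cx hl,
      mul_assoc l, mul_assoc l, ← conj_zpow, e,
      (Commute.zpow_right (show Commute k s from (h.cm hk hs).symm) i).mul_zpow, ← zpow_mul, mul_assoc]
  have g1 := g h.ax hk hl e f
  have g2 := g h.bx hl hk f e
  refine h.zfix hs ?_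
  have : z * s * z⁻¹ * s⁻¹ = (b * a)⁻¹ * (l * k ^ j * (k * l ^ i)⁻¹) * (b * a) := by
    calc _ = (b * a)⁻¹ * (b * a * z * s * (b * a * z)⁻¹ * (b * a * s * (b * a)⁻¹)⁻¹) * (b * a) := by group
      _ = _ := by rw [← h.abz, g1, g2, mul_comm j i]; group
  rw [this]
  exact conj_mem_of_mem_nrm' (cent1_le_nrm_zpowers x (mul_mem (mem_cent1.2 h.bx) (mem_cent1.2 h.ax)))
    (mul_mem (mul_mem hl (zpow_mem hk j)) (inv_mem (mul_mem hk (zpow_mem hl i))))

theorem cardX : Nat.card (zpowers x) = 13 := by rw [Nat.card_zpowers, h.ox]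

theorem exs : ∃ s ∈ P, s ∉ zpowers x := by
  by_contra k
  push Not at k
  have := h.sq.trans (card_dvd_of_le k)
  rw [h.cardX] at this
  omega

theorem card3 : Nat.card P = 13 ^ 3 := by
  obtain ⟨k, hk⟩ := IsPGroup.iff_card.1 h.pg
  have k3 : k ≤ 3 := h.syl ▸ (p13.pow_dvd_iff_le_factorization Nat.card_pos.ne').1
    (hk ▸ card_subgroup_dvd_card P)
  obtain ⟨s, hs, sx⟩ := h.exs
  have le : zpowers x ⊔ zpowers s ≤ P := sup_le h.xle (zpowers_le.2 hs)
  have h1 := step (h.pg.to_le le) le_sup_left fun e => sx (e (mem_sup_right (mem_zpowers s)))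
  have h2 := step h.pg le fun e =>
    sx (h.cyc hs (e (conj_mem_of_mem_nrm h.na hs)) (e (conj_mem_of_mem_nrm h.nb hs)))
  have h3 := (mul_dvd_mul_left 13 h1).trans h2
  rw [h.cardX, hk] at h3
  have := (Nat.pow_dvd_pow_iff_le_right (show 1 < 13 by norm_num) (k := 3)).1 h3
  rw [hk, le_antisymm k3 this]

theorem comm (hs : s ∈ P) (hs' : s' ∈ P) : s * s' * s⁻¹ * s'⁻¹ ∈ zpowers x := by
  haveI : ((zpowers x).subgroupOf P).Normal :=
    (normal_subgroupOf_iff_le_normalizer h.xle).2 (h.cen.trans (cent1_le_nrm_zpowers x))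
  have c := card_eq_card_quotient_mul_card_subgroup ((zpowers x).subgroupOf P)
  rw [h.card3, Nat.card_congr (subgroupOfEquivOfLe h.xle).toEquiv, h.cardX] at c
  have k := (IsPGroup.isMulCommutative_of_card_eq_prime_sq (p := 13)
    (G := P ⧸ (zpowers x).subgroupOf P) (by omega)).is_comm.comm
  have := (QuotientGroup.eq_one_iff (N := (zpowers x).subgroupOf P)
    (⟨s, hs⟩ * ⟨s', hs'⟩ * ⟨s, hs⟩⁻¹ * ⟨s', hs'⟩⁻¹)).1 (by
      simp only [QuotientGroup.mk_mul, QuotientGroup.mk_inv]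
      rw [k (QuotientGroup.mk ⟨s, hs⟩)]; group)
  exact mem_subgroupOf.1 this

theorem zinv (hs : s ∈ P) : z * s * z⁻¹ * s ∈ zpowers x := by
  have k := conj_mem_of_mem_nrm h.nz hs
  refine h.zfix (mul_mem k hs) ?_
  convert h.comm hs k using 1
  rw [inv_eq_of_mul_eq_one_right h.zz]
  simp only [mul_inv_rev, inv_eq_of_mul_eq_one_right h.zz, ← mul_assoc, h.zz, one_mul]

theorem o2 (tt : t * t = 1) (tx : t * x * t⁻¹ = x⁻¹) : orderOf t = 2 :=
  orderOf_eq_prime (by rw [_root_.sq, tt]) fun e => by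
    rw [e, one_mul, inv_one, mul_one] at tx
    have := orderOf_dvd_of_pow_eq_one (show x ^ 2 = 1 by rw [_root_.sq]; exact mul_eq_one_iff_eq_inv.2 tx)
    rw [h.ox] at this; omega

omit h in
theorem invX (tx : t * x * t⁻¹ = x⁻¹) {u : G} (hu : u ∈ zpowers x) : t * u * t⁻¹ = u⁻¹ := by
  obtain ⟨k, rfl⟩ := hu
  rw [← conj_zpow, tx, inv_zpow]

theorem lift (tx : t * x * t⁻¹ = x⁻¹) (e : t * s * t⁻¹ * s⁻¹ ∈ zpowers x) :
    ∃ r ∈ zpowers x, r * s * t = t * (r * s) := by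
  obtain ⟨u, hu⟩ : ∃ u, t * s * t⁻¹ = u * s := ⟨t * s * t⁻¹ * s⁻¹, by group⟩
  rw [hu, mul_inv_cancel_right] at e
  refine ⟨u ^ 7, pow_mem e 7, ?_⟩
  rw [eq_comm, ← mul_inv_eq_iff_eq_mul, show t * (u ^ 7 * s) * t⁻¹ = t * u ^ 7 * t⁻¹ * (t * s * t⁻¹) by group,
    invX tx (pow_mem e 7), hu, ← mul_assoc, mul_left_inj, inv_mul_eq_iff_eq_mul, ← pow_add,
    show 7 + 7 = 13 + 1 from rfl, pow_succ, h.pw e, one_mul]

theorem fixv (tt : t * t = 1) (tn : t ∈ Nrm P) (tx : t * x * t⁻¹ = x⁻¹) (tz : z * t = t * z) :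
    ∃ v ∈ P, v ≠ 1 ∧ v * t = t * v := by
  by_contra k
  push Not at k
  have i : ∀ s ∈ P, t * s * t⁻¹ * s ∈ zpowers x := fun s hs => by
    have c := conj_mem_of_mem_nrm tn hs
    obtain ⟨r, hr, e⟩ := h.lift tx (s := t * s * t⁻¹ * s) (by
      convert h.comm hs c using 1
      rw [inv_eq_of_mul_eq_one_right tt]
      simp only [mul_inv_rev, inv_eq_of_mul_eq_one_right tt, ← mul_assoc, tt, one_mul])
    have : r * (t * s * t⁻¹ * s) = 1 := by_contra fun q => k _ (mul_mem (h.xle hr) (mul_mem c hs)) q e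
    rw [← inv_eq_of_mul_eq_one_right this]
    exact inv_mem hr
  have t1 : t * z * (t * z) = 1 := by
    rw [mul_assoc, ← mul_assoc z, tz, mul_assoc, h.zz, mul_one, tt]
  have t2 : t * z * x * (t * z)⁻¹ = x⁻¹ := by rw [mul_assoc t, h.zx, ← tx]; group
  have l : ∀ s ∈ P, ∃ r ∈ zpowers x, r * s * (t * z) = t * z * (r * s) := fun s hs => h.lift t2 (by
    rw [show t * z * s * (t * z)⁻¹ * s⁻¹ = t * (z * s * z⁻¹ * s) * t⁻¹ * (t * s⁻¹ * t⁻¹ * s⁻¹) by group,
      invX tx (h.zinv hs)]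
    exact mul_mem (inv_mem (h.zinv hs)) (i _ (inv_mem hs)))
  obtain ⟨s, hs, sx⟩ := h.exs
  obtain ⟨r, hr, e⟩ := l s hs
  have hv := mul_mem (h.xle hr) hs
  have v1 : r * s ∉ zpowers x := fun q => sx ((mul_mem_cancel_left hr).1 q)
  have m : ∀ s' ∈ P, s' ∈ zpowers x ⊔ zpowers (r * s) := fun s' hs' => by
    obtain ⟨r', hr', e'⟩ := l s' hs'
    exact (mul_mem_cancel_left (mem_sup_left hr')).1 (mem_sup_right (h.fixA (h.o2 t1 t2) hv
      (mul_mem (h.xle hr') hs') e e' fun q => v1 (q ▸ one_mem _)))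
  exact v1 (h.cyc hv (m _ (conj_mem_of_mem_nrm h.na hv)) (m _ (conj_mem_of_mem_nrm h.nb hv)))

theorem root (tt : t * t = 1) (tn : t ∈ Nrm P) (tx : t * x * t⁻¹ = x⁻¹) (tz : z * t = t * z) :
    ∃ v ∈ P, IsConj x v ∧ v * t = t * v ∧ v ∉ zpowers x := by
  obtain ⟨v, hv, v1, vt⟩ := h.fixv tt tn tx tz
  obtain ⟨g, hg⟩ := isConj_iff.1 (h.cj t tt tx)
  have pv := h.pg.to_le (zpowers_le.2 hv)
  have sy : IsSylowOf 13 (zpowers v) (Cent1 t) := isSylowOf_of_max p13 (zpowers_le.2 (mem_cent1.2 vt)) pv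
    fun R hR pR k => small pR (fun d => h.inv t (h.o2 tt tx) (d.trans (card_dvd_of_le hR)))
      (k (mem_zpowers v)) v1
  obtain ⟨c, -, hc⟩ := sylow_cj_le p13 sy (isPGroup_cj h.pgx g) (by
    rw [cj_zpowers, zpowers_le, mem_cent1, ← hg, conj_mul, conj_mul, h.zx])
  rw [cj_zpowers, cj_zpowers, zpowers_le] at hc
  have cj : IsConj x (c * (g * x * g⁻¹) * c⁻¹) := isConj_iff.2 ⟨c * g, by group⟩
  have ct := (cm_zp vt.symm hc).symm
  refine ⟨_, zpowers_le.2 hv hc, cj, ct, fun q => ?_⟩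
  have e := invX tx q
  rw [← ct, mul_inv_cancel_right] at e
  have := orderOf_dvd_of_pow_eq_one (show (c * (g * x * g⁻¹) * c⁻¹) ^ 2 = 1 by
    rw [_root_.sq]; exact mul_eq_one_iff_eq_inv.2 e)
  rw [show c * (g * x * g⁻¹) * c⁻¹ = MulAut.conj (c * g) x by rw [MulAut.conj_apply]; group,
    MulEquiv.orderOf_eq, h.ox] at this
  omega

theorem dist (tx : t * x * t⁻¹ = x⁻¹) (tx' : t' * x * t'⁻¹ = x⁻¹) (e : t * t' = z ∨ t * t' * (t * t') = z)
    (hv : v ∈ P) (vt : v * t = t * v) (hv' : v' ∈ P) (vt' : v' * t' = t' * v') (n : v' ∉ zpowers x) :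
    v' ∉ zpowers x ⊔ zpowers v := fun q => by
  obtain ⟨k, hk, y, hy, f⟩ := (mem_sup_of_nrm (zpowers_le.2 (cent1_le_nrm_zpowers x (h.cen hv)))).1 q
  have g : t * t' * v' * (t * t')⁻¹ = (k * k)⁻¹ * v' := by
    rw [mul_assoc t, ← vt', show t * (v' * t') * (t * t')⁻¹ = t * v' * t⁻¹ by group, f,
      show t * (k * y) * t⁻¹ = t * k * t⁻¹ * (t * y * t⁻¹) by group, invX tx hk, cm_zp vt.symm hy]
    group
  have m := inv_mem (mul_mem hk hk)
  refine n (h.zfix hv' ?_)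
  rcases e with e | e <;> rw [← e]
  · rwa [g, mul_inv_cancel_right]
  · rw [show t * t' * (t * t') * v' * (t * t' * (t * t'))⁻¹ =
      t * t' * (t * t' * v' * (t * t')⁻¹) * (t * t')⁻¹ by group, g,
      show t * t' * ((k * k)⁻¹ * v') * (t * t')⁻¹ =
        t * (t' * (k * k)⁻¹ * t'⁻¹) * t⁻¹ * (t * t' * v' * (t * t')⁻¹) by group, g, invX tx' m,
      invX tx (inv_mem m), ← mul_assoc, mul_inv_cancel_right]
    exact mul_mem (inv_mem (inv_mem m)) m

theorem wz : w * w = z := h.ww.resolve_left fun e => by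
  obtain ⟨v, hv, -, vt, n⟩ := h.root e h.nw h.wx h.zw
  have k : ∀ {c : G}, c ∈ Nrm P → w * c = c * w → c * v * c⁻¹ ∈ zpowers x ⊔ zpowers v := fun {c} hc cw =>
    mem_sup_right (h.fixA (h.o2 e h.wx) hv (conj_mem_of_mem_nrm hc hv) vt (by
      rw [← mul_assoc, ← mul_assoc, cw, mul_assoc c w, ← vt, mul_assoc, mul_assoc, mul_assoc, mul_assoc,
        mul_right_inj, mul_right_inj, inv_mul_eq_iff_eq_mul, ← mul_assoc, ← cw, mul_inv_cancel_right])
      fun q => n (q ▸ one_mem _))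
  exact n (h.cyc hv (k h.na h.wa') (k h.nb h.wb'))

end Cx

end H30.Rv
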