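/- Tower RV (S5207), Monster part: the uniform lemma. -/
import Cfsg.Agent.H30.RvU
import Cfsg.Agent.H9.Cube
import Cfsg.Agent.H9.ClassTwo

set_option autoImplicit false
set_option linter.unusedSectionVars false
open Cfsg hiding pRank
open H46 Subgroup
open scoped IsMulCommutative

namespace H30.Rv

variable {G : Type} [Group G] [Finite G] {z x a b w : G}

/-- conjugation on an elementary abelian subgroup as a linear representation -/
noncomputable def rep (P : Subgroup G) [IsMulCommutative P] [Module K (Additive P)] :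
    Nrm P →* Module.End K (Additive P) where
  toFun n := (MonoidHom.toAdditive (P.normalizerMonoidHom n).toMonoidHom).toZModLinearMap 13
  map_one' := by ext m; simp
  map_mul' n k := by ext m; simp

theorem rep_val (P : Subgroup G) [IsMulCommutative P] [Module K (Additive P)] (n : Nrm P) (m : Additive P) :
    ((rep P n m).toMul : G) = n * m.toMul * (n : G)⁻¹ := rfl

namespace Cx
variable {P : Subgroup G} (h : Cx z x a b w P) {s s' t t' v v' : G}
include h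

theorem twist {q : G} (qq : q * q = z) (qx : q * x = x * q) (wq : w * q = q * w) (qn : q ∈ Nrm P) :
    w * q * (w * q) = 1 ∧ w * q ∈ Nrm P ∧ w * q * x * (w * q)⁻¹ = x⁻¹ ∧ z * (w * q) = w * q * z := by
  refine ⟨?_, mul_mem h.nw qn, ?_, ?_⟩
  · rw [mul_assoc, ← mul_assoc q, ← wq, mul_assoc, qq, ← mul_assoc, h.wz, h.zz]
  · rw [mul_assoc w, qx, ← h.wx]; group
  · rw [← mul_assoc, h.zw, mul_assoc, mul_assoc, ← qq, mul_assoc]

theorem noncomm (S : Sylow 13 G) (hS : (S : Subgroup G) = P) (ex : ∀ s ∈ P, s ^ 13 = 1) {s t u e f g : G}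
    (hs : s * s = 1 ∧ s ∈ Nrm P ∧ s * x * s⁻¹ = x⁻¹ ∧ z * s = s * z)
    (ht : t * t = 1 ∧ t ∈ Nrm P ∧ t * x * t⁻¹ = x⁻¹ ∧ z * t = t * z)
    (hu : u * u = 1 ∧ u ∈ Nrm P ∧ u * x * u⁻¹ = x⁻¹ ∧ z * u = u * z)
    (e1 : t = s * z) (e2 : s * u * (s * u) = z) (ws : w * s = s * w) (wu : w * u = u * w)
    (he : e ∈ P ∧ IsConj x e ∧ e * s = s * e ∧ e ∉ zpowers x)
    (hf : f ∈ P ∧ IsConj x f ∧ f * t = t * f ∧ f ∉ zpowers x)
    (hg : g ∈ P ∧ IsConj x g ∧ g * u = u * g ∧ g ∉ zpowers x) : ¬ IsMulCommutative P := fun c => by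
  subst hS
  letI : Module K (Additive (S : Subgroup G)) := AddCommGroup.zmodModule fun m =>
    Additive.toMul.injective (Subtype.ext (ex _ m.toMul.2))
  have ext : ∀ {m m' : Additive (S : Subgroup G)}, (m.toMul : G) = m'.toMul → m = m' :=
    fun e => Additive.toMul.injective (Subtype.ext e)
  have cm : ∀ {p q : G}, p ∈ (S : Subgroup G) → q ∈ (S : Subgroup G) → p * q = q * p := fun hp hq =>
    congrArg Subtype.val (c.is_comm.comm ⟨_, hp⟩ ⟨_, hq⟩)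
  have sm : ∀ {m y : Additive (S : Subgroup G)}, (m.toMul : G) ∈ zpowers (y.toMul : G) →
      ∃ c : K, m = (2 * c) • y := by
    rintro m y ⟨k, hk⟩
    refine ⟨7 * (k : K), ?_⟩
    rw [← mul_assoc, two_seven, one_mul, Int.cast_smul_eq_zsmul]
    exact ext hk.symm
  have iv : ∀ {t v : G} (ht : t * t = 1 ∧ t ∈ Nrm (S : Subgroup G) ∧ t * x * t⁻¹ = x⁻¹ ∧ z * t = t * z)
      (hv : v ∈ (S : Subgroup G) ∧ IsConj x v ∧ v * t = t * v ∧ v ∉ zpowers x),
      rep (S : Subgroup G) ⟨t, ht.2.1⟩ (Additive.ofMul ⟨v, hv.1⟩) = Additive.ofMul ⟨v, hv.1⟩ ∧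
      (∀ m, ∃ c : K, rep (S : Subgroup G) ⟨t, ht.2.1⟩ m + m = (2 * c) • Additive.ofMul ⟨v, hv.1⟩) ∧
      (∃ n, rep (S : Subgroup G) n (Additive.ofMul ⟨x, h.xP⟩) = Additive.ofMul ⟨v, hv.1⟩) ∧
      rep (S : Subgroup G) ⟨t, ht.2.1⟩ (Additive.ofMul ⟨x, h.xP⟩) = -Additive.ofMul ⟨x, h.xP⟩ := by
    intro t v ht hv
    refine ⟨ext (mul_inv_eq_iff_eq_mul.2 hv.2.2.1.symm), fun m => sm ?_, ?_, ext ht.2.2.1⟩
    · have k := conj_mem_of_mem_nrm ht.2.1 m.toMul.2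
      change t * m.toMul * t⁻¹ * m.toMul ∈ zpowers v
      refine h.fixA (h.o2 ht.1 ht.2.2.1) hv.1 (mul_mem k m.toMul.2) hv.2.2.1 ?_
        fun q => hv.2.2.2 (q ▸ one_mem _)
      conv_rhs => rw [inv_eq_of_mul_eq_one_right ht.1, ← mul_assoc, ← mul_assoc, ← mul_assoc, ht.1, one_mul]
      rw [cm k m.toMul.2, inv_eq_of_mul_eq_one_right ht.1]
      simp only [mul_assoc, ht.1, mul_one]
    · obtain ⟨k, hk⟩ := isConj_iff.1 hv.2.1
      obtain ⟨n, hn, q⟩ := S.conj_eq_normalizer_conj_of_mem x k⁻¹ h.xP (by rw [inv_inv, hk]; exact hv.1)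
      exact ⟨⟨n⁻¹, inv_mem hn⟩, ext (by
        change n⁻¹ * x * n⁻¹⁻¹ = v
        rw [inv_inv, ← q, inv_inv, hk])⟩
  obtain ⟨a1, a2, a3, a4⟩ := iv hs he
  obtain ⟨b1, b2, b3, -⟩ := iv ht hf
  obtain ⟨c1, c2, c3, c4⟩ := iv hu hg
  refine la (φ := rep (S : Subgroup G)) (z := ⟨z, h.nz⟩) (w := ⟨w, h.nw⟩) (x := Additive.ofMul ⟨x, h.xP⟩)
    (fun n hn => ?_) (Subtype.ext hs.2.2.2)
    (Subtype.ext hu.2.2.2) (Subtype.ext e1) (Subtype.ext e2) (Subtype.ext ws)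
    (Subtype.ext (by change w * t = t * w; rw [e1, ← mul_assoc, ws, mul_assoc, ← h.zw, mul_assoc]))
    (Subtype.ext wu) (Subtype.ext h.wz) (fun q => h.x1 (congrArg (fun m => (m.toMul : G)) q))
    (ext (mul_inv_eq_iff_eq_mul.2 h.zx)) (ext h.wx) a4 c4 a1 b1 c1
    (fun m => sm (h.zinv m.toMul.2)) a2 b2 c2 a3 b3 c3
  obtain ⟨k, m, nd, e⟩ := Nat.exists_eq_pow_mul_and_not_dvd (orderOf_pos n).ne' 13 (by norm_num)
  have pg : IsPGroup 13 (zpowers ((n ^ m : Nrm (S : Subgroup G)) : G)) := pg_zp (k := k) (by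
    rw [← coe_pow, ← pow_mul, mul_comm, ← e, pow_orderOf_eq_one, coe_one])
  have ms : ((n ^ m : Nrm (S : Subgroup G)) : G) ∈ (S : Subgroup G) :=
    (pg.inf_normalizer_sylow S).le (⟨mem_zpowers _, (n ^ m).2⟩ : _ ∈ zpowers _ ⊓ Nrm (S : Subgroup G)) |>.2
  have k1 : rep (S : Subgroup G) n ^ m = 1 := by
    rw [← map_pow]
    exact LinearMap.ext fun y => ext (mul_inv_eq_iff_eq_mul.2 (cm ms y.toMul.2))
  have := pow_gcd_eq_one.2 ⟨hn, k1⟩
  rwa [(Nat.Prime.coprime_iff_not_dvd p13).2 nd, pow_one] at this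

theorem three : ∃ S : Sylow 13 G, Three 13 S := by
  have h1 := h.twist h.aa h.ax h.wa' h.na
  have h3 := h.twist h.bb h.bx h.wb' h.nb
  have h2 := h.twist (q := a * z) (by rw [mul_assoc, ← mul_assoc z, h.za, mul_assoc, h.zz, mul_one, h.aa])
    (by rw [mul_assoc, h.zx, ← mul_assoc, h.ax, mul_assoc])
    (by rw [← mul_assoc, h.wa', mul_assoc, ← h.zw, mul_assoc]) (mul_mem h.na h.nz)
  obtain ⟨e, he⟩ := h.root h1.1 h1.2.1 h1.2.2.1 h1.2.2.2
  obtain ⟨f, hf⟩ := h.root h2.1 h2.2.1 h2.2.2.1 h2.2.2.2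
  obtain ⟨g, hg⟩ := h.root h3.1 h3.2.1 h3.2.2.1 h3.2.2.2
  have zc : ∀ {q : G}, z * q = q * z → q * z * (q * z) = q * q := fun {q} k => by
    rw [mul_assoc, ← mul_assoc z, k, mul_assoc, h.zz, mul_one]
  have zab : z * (a * b) = a * b * z := by rw [← mul_assoc, h.za, mul_assoc, h.zb, mul_assoc]
  have p12 : w * a * (w * (a * z)) = z := by rw [← mul_assoc w a z, ← mul_assoc, h1.1, one_mul]
  have q13 : w * a * (w * b) = a * b * z := by
    rw [mul_assoc, ← mul_assoc a, ← h.wa', ← mul_assoc, ← mul_assoc, h.wz, mul_assoc, zab]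
  have p13' : w * a * (w * b) * (w * a * (w * b)) = z := by rw [q13, zc zab, h.ab]
  have p23 : w * (a * z) * (w * b) * (w * (a * z) * (w * b)) = z := by
    rw [show w * (a * z) * (w * b) = a * b by
      rw [← mul_assoc w a z, mul_assoc _ z, h3.2.2.2, ← mul_assoc, q13, mul_assoc, h.zz, mul_one], h.ab]
  have sw : ∀ {s t : G}, s * s = 1 → t * t = 1 → s * t = z ∨ s * t * (s * t) = z →
      t * s = z ∨ t * s * (t * s) = z := fun {s t} ss tt k => by
    have : t * s = (s * t)⁻¹ := by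
      rw [mul_inv_rev, inv_eq_of_mul_eq_one_right ss, inv_eq_of_mul_eq_one_right tt]
    rw [this, ← mul_inv_rev]
    exact k.imp (fun k => by rw [k, inv_eq_of_mul_eq_one_right h.zz])
      fun k => by rw [k, inv_eq_of_mul_eq_one_right h.zz]
  have d12 := h.dist h1.2.2.1 h2.2.2.1 (.inl p12) he.1 he.2.2.1 hf.1 hf.2.2.1 hf.2.2.2
  have d21 := h.dist h2.2.2.1 h1.2.2.1 (sw h1.1 h2.1 (.inl p12)) hf.1 hf.2.2.1 he.1 he.2.2.1 he.2.2.2
  have d13 := h.dist h1.2.2.1 h3.2.2.1 (.inr p13') he.1 he.2.2.1 hg.1 hg.2.2.1 hg.2.2.2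
  have d31 := h.dist h3.2.2.1 h1.2.2.1 (sw h1.1 h3.1 (.inr p13')) hg.1 hg.2.2.1 he.1 he.2.2.1 he.2.2.2
  have d23 := h.dist h2.2.2.1 h3.2.2.1 (.inr p23) hf.1 hf.2.2.1 hg.1 hg.2.2.1 hg.2.2.2
  have d32 := h.dist h3.2.2.1 h2.2.2.1 (sw h2.1 h3.1 (.inr p23)) hg.1 hg.2.2.1 hf.1 hf.2.2.1 hf.2.2.2
  have l1 : zpowers x ⊔ zpowers e ≤ P := sup_le h.xle (zpowers_le.2 he.1)
  have l2 : zpowers x ⊔ zpowers e ⊔ zpowers f ≤ P := sup_le l1 (zpowers_le.2 hf.1)
  have gen : P ≤ zpowers x ⊔ zpowers e ⊔ zpowers f := by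
    by_contra k
    have s1 := step (h.pg.to_le l1) le_sup_left fun q => he.2.2.2 (q (mem_sup_right (mem_zpowers e)))
    have s2 := step (h.pg.to_le l2) le_sup_left fun q => d12 (q (mem_sup_right (mem_zpowers f)))
    have s3 := (mul_dvd_mul_left 13 ((mul_dvd_mul_left 13 s1).trans s2)).trans (step h.pg l2 k)
    rw [h.cardX, h.card3] at s3
    omega
  have ex : ∀ s ∈ P, s ^ 13 = 1 := fun s hs => by
    have cp : ∀ {y : G}, IsConj x y → y ^ 13 = 1 := fun k => by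
      obtain ⟨c, rfl⟩ := isConj_iff.1 k
      rw [conj_pow, h.x13]; simp
    have hc : _root_.commutator P ≤ center P := by
      rw [_root_.commutator, commutator_le]
      exact fun p _ q _ => mem_center_iff.2 fun r => Subtype.ext (h.cm (h.comm p.2 q.2) r.2)
    have m : ∀ {y : G}, y ∈ P → y ^ 13 = 1 → zpowers y ≤ (closure {y : P | y ^ 13 = 1}).map P.subtype :=
      fun hy k => zpowers_le.2 ⟨⟨_, hy⟩, subset_closure (Subtype.ext k), rfl⟩
    obtain ⟨y, hy, rfl⟩ := sup_le (sup_le (m h.xP h.x13) (m he.1 (cp he.2.1))) (m hf.1 (cp hf.2.1)) (gen hs)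
    exact congrArg Subtype.val (H9.pow_eq_one_of_mem_closure_of_class_two (by decide) hc hy)
  let S : Sylow 13 G := Sylow.ofCard P (by rw [h.card3, h.syl])
  have hS : (S : Subgroup G) = P := rfl
  have nc := h.noncomm S hS ex h1 h2 h3 (mul_assoc w a z).symm p13'
    (by rw [mul_assoc, ← h.wa']) (by rw [mul_assoc, ← h.wb']) he hf hg
  refine ⟨S, H9.isExtraspecial_of_card_cube h.card3 nc, h.card3, ?_, x, ![e, f, g], h.xP, h.x1,
    fun s hs => mem_cent1.1 (h.cen hs), ?_, ?_, ?_, ?_⟩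
  · refine ((Nat.dvd_prime p13).1 (Monoid.exponent_dvd_of_forall_pow_eq_one fun y : P =>
      Subtype.ext (ex _ y.2))).resolve_left fun q => h.x1 ?_
    have := Monoid.pow_exponent_eq_one (⟨x, h.xP⟩ : P)
    rw [q, pow_one] at this
    exact congrArg Subtype.val this
  · intro i; fin_cases i; exacts [he.1, hf.1, hg.1]
  · intro i; fin_cases i; exacts [he.2.1, hf.2.1, hg.2.1]
  · intro i; fin_cases i; exacts [he.2.2.2, hf.2.2.2, hg.2.2.2]
  · intro i j k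
    fin_cases i <;> fin_cases j
    exacts [absurd rfl k, d12, d13, d21, absurd rfl k, d23, d31, d32, absurd rfl k]

end Cx

theorem jobU : JobU := fun _ _ _ _ _ _ _ _ h => by
  obtain ⟨w, h1, h2, h3⟩ := h.norm
  obtain ⟨P, c⟩ := exists_cx h1 h2 h3
  exact c.three

end H30.Rv
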