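import Cfsg.Agent.H95.AltSimple
import Cfsg.Agent.H98.Sylow

/-! Sylow 2-subgroups of symmetric and alternating groups are self-normalizing. -/

set_option autoImplicit false
open Equiv Equiv.Perm H95 H92

namespace H30.SymTwo

variable {I Ω : Type*} {ι : I × ZMod 2 ↪ Ω}

theorem isSyl_of_sylIn {G : Type*} [Group G] {p : ℕ} {A B : Subgroup G} (h : SylIn p A B) :
    H98.IsSyl p A B := ⟨h.1, h.2.1, fun Q hQ h1 h2 => h.2.2 Q h1 h2 hQ⟩

theorem hout_of_card [Fintype I] [Fintype Ω] (hΩ : Fintype.card Ω < 2 * Fintype.card I + 2) :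
    ∀ x ∉ Set.range ι, ∀ y ∉ Set.range ι, x = y := by
  classical
  intro x hx y hy
  by_contra hxy
  have h1 : (Finset.univ.map ι ∪ {x, y}).card ≤ Fintype.card Ω := Finset.card_le_univ _
  rw [Finset.card_union_of_disjoint, Finset.card_map, Finset.card_univ, Fintype.card_prod,
    ZMod.card, Finset.card_pair hxy] at h1
  · omega
  · rw [Finset.disjoint_left]
    intro a ha ha'
    obtain ⟨z, -, rfl⟩ := Finset.mem_map.1 ha
    rcases Finset.mem_insert.1 ha' with h | h
    · exact hx ⟨z, h⟩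
    · exact hy ⟨z, Finset.mem_singleton.1 h⟩

variable [Fintype I] [Fintype Ω] [DecidableEq I] [DecidableEq Ω]

theorem liftH_mem_alt (π : Perm I) : liftH ι π ∈ alternatingGroup Ω := by
  rw [mem_alternatingGroup, sign_liftH, ZMod.card, Int.units_sq]

omit [Fintype I] [Fintype Ω] [DecidableEq Ω] in
theorem single_apply (i j : I) (x : ZMod 2) :
    baseP ι (Pi.single i 1) (ι (j, x)) = if j = i then ι (j, x + 1) else ι (j, x) := by
  rw [baseP_apply]
  split_ifs with h
  · subst h; simp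
  · simp [Pi.single_eq_of_ne h]

omit [Fintype Ω] [DecidableEq Ω] in
theorem eq_of_normalizes_full (hout : ∀ x ∉ Set.range ι, ∀ y ∉ Set.range ι, x = y)
    {S' : Subgroup (Perm I)} {g : Perm Ω}
    (hg : ∀ s ∈ wrSub ι S', g * s * g⁻¹ ∈ wrSub ι S') :
    ∃ π f, g = liftH ι π * baseP ι f := by
  have h01 : ∀ x : ZMod 2, x + 1 ≠ x := by decide
  have k1 : ∀ i x, g (ι (i, x)) ∈ Set.range ι := fun i x => by
    by_contra h
    have := wrSub_out (hg _ (baseP_mem_wrSub S' (Pi.single i 1))) h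
    rw [mul_apply, mul_apply, perm_inv_self, g.apply_eq_iff_eq, single_apply, if_pos rfl,
      ι.apply_eq_iff_eq] at this
    exact h01 x (congrArg Prod.snd this)
  have k2 : ∀ i, ∃ k c, ∀ x, g (ι (i, x)) = ι (k, x + c) := fun i => by
    obtain ⟨⟨k, y⟩, e⟩ := k1 i 0
    obtain ⟨⟨k', y'⟩, e'⟩ := k1 i 1
    obtain ⟨π, f, h⟩ := wrSub_apply (hg _ (baseP_mem_wrSub S' (Pi.single i 1)))
    have h3 := h k y
    rw [e, mul_apply, mul_apply, perm_inv_self, single_apply, if_pos rfl, zero_add, ← e',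
      ι.apply_eq_iff_eq, Prod.mk.injEq] at h3
    have hk : k' = k := by
      by_contra hk
      have h4 := h k (y + 1)
      obtain ⟨z, hz⟩ := g.surjective (ι (k, y + 1))
      have hz' : baseP ι (Pi.single i 1) z = z := by
        by_cases hr : z ∈ Set.range ι
        · obtain ⟨⟨j, w⟩, rfl⟩ := hr
          rw [single_apply, if_neg]
          rintro rfl
          rcases zmod_two_cases w with rfl | rfl
          · rw [← e, ι.apply_eq_iff_eq] at hz
            exact h01 y (congrArg Prod.snd hz).symm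
          · rw [← e', ι.apply_eq_iff_eq] at hz
            exact hk (congrArg Prod.fst hz)
        · exact baseP_out _ hr
      rw [← hz, mul_apply, mul_apply, perm_inv_self, hz', hz, ι.apply_eq_iff_eq] at h4
      exact hk (h3.1.trans (congrArg Prod.fst h4).symm)
    subst hk
    have hy : y' ≠ y := by
      rintro rfl
      have := g.injective (e.symm.trans e')
      rw [ι.apply_eq_iff_eq] at this
      exact absurd (show (0 : ZMod 2) = 1 from congrArg Prod.snd this) (by decide)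
    refine ⟨k', y, fun x => ?_⟩
    rcases zmod_two_cases x with rfl | rfl
    · rw [← e, zero_add]
    · rw [← e']
      congr 2
      revert hy
      generalize y' = a
      generalize y = b
      revert a b
      decide
  choose π c hc using k2
  have k6 : Function.Injective π := fun i j h => by
    have := hc i (c j - c i)
    rw [sub_add_cancel, h, ← zero_add (c j), ← hc] at this
    exact congrArg Prod.fst (ι.injective (g.injective this))
  refine ⟨Equiv.ofBijective π (Finite.injective_iff_bijective.1 k6), c,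
    perm_ext_one hout fun i x => ?_⟩
  rw [mul_apply, baseP_apply, liftH_apply, hc]
  rfl

omit [Fintype I] [Fintype Ω] [DecidableEq I] [DecidableEq Ω] in
theorem top_mem {S' : Subgroup (Perm I)} {π σ : Perm I} {f : I → ZMod 2}
    (h : (liftH ι π * baseP ι f) * liftH ι σ * (liftH ι π * baseP ι f)⁻¹ ∈ wrSub ι S') :
    π * σ * π⁻¹ ∈ S' := by
  obtain ⟨π', hπ', f', e⟩ := h
  have : π * σ * π⁻¹ = π' := by
    ext1 i
    obtain ⟨j, rfl⟩ := π.surjective i
    rw [mul_inv_eq_iff_eq_mul] at e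
    have h1 := congrArg (fun u : Perm Ω => u (ι (j, 0))) e
    simp only [mul_apply, baseP_apply, liftH_apply, ι.apply_eq_iff_eq, Prod.mk.injEq] at h1
    simp [h1.1]
  rwa [this]

/-- A Sylow 2-subgroup of `S_n` is self-normalizing. -/
theorem sym_selfnorm (n : ℕ) : ∀ (S : Sylow 2 (Perm (Fin n))) (g : Perm (Fin n)),
    (∀ s ∈ (S : Subgroup (Perm (Fin n))), g * s * g⁻¹ ∈ (S : Subgroup (Perm (Fin n)))) →
    g ∈ (S : Subgroup (Perm (Fin n))) := by
  induction n using Nat.strong_induction_on with | _ n ih => ?_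
  intro S g hg
  rcases Nat.eq_zero_or_pos n with rfl | hn
  · rw [Subsingleton.elim g 1]
    exact one_mem _
  obtain ⟨ι⟩ := exists_block_emb (p := 2) n
  obtain ⟨S'⟩ : Nonempty (Sylow 2 (Perm (Fin (n / 2)))) := inferInstance
  obtain ⟨b, -, hb⟩ := (isSyl_of_sylIn (sylIn_wrSub (ι := ι) (lt_block n) S')).exists_cj_eq
    (H98.isSyl_sylow S)
  rw [← hb] at hg ⊢
  have hg' : ∀ s ∈ wrSub ι S', (b⁻¹ * g * b) * s * (b⁻¹ * g * b)⁻¹ ∈ wrSub ι S' := by
    intro s hs
    have := H98.mem_cj.1 (hg _ (H98.conj_mem_cj hs))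
    convert this using 1
    group
  obtain ⟨π, f, e⟩ := eq_of_normalizes_full (hout_of_card (lt_block n)) hg'
  rw [H98.mem_cj, e]
  refine ⟨π, ih _ (Nat.div_lt_self hn one_lt_two) S' π fun σ hσ => ?_, f, rfl⟩
  have := hg' _ (liftH_mem_wrSub hσ)
  rw [e] at this
  exact top_mem this

/-- A Sylow 2-subgroup of `A_n`, `n ≥ 6`, is self-normalizing. -/
theorem alt_selfnorm {n : ℕ} (hn : 6 ≤ n) (R : Sylow 2 (alternatingGroup (Fin n))) :
    Subgroup.normalizer ((R : Subgroup (alternatingGroup (Fin n))) : Set (alternatingGroup (Fin n)))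
      ≤ R := by
  intro g hg
  obtain ⟨ι⟩ := exists_block_emb (p := 2) n
  obtain ⟨S'⟩ : Nonempty (Sylow 2 (Perm (Fin (n / 2)))) := inferInstance
  obtain ⟨b, hbA, hb⟩ := (isSyl_of_sylIn (sylIn_wrSub_alt (ι := ι) (lt_block n) S')).exists_cj_eq
    (H98.isSyl_map_subtype R)
  have hmem : ∀ x : alternatingGroup (Fin n), x ∈ (R : Subgroup (alternatingGroup (Fin n))) ↔
      b⁻¹ * x * b ∈ wrSub ι S' ⊓ alternatingGroup (Fin n) := by
    intro x
    rw [← H98.mem_cj, hb]
    exact ⟨fun h => ⟨x, h, rfl⟩, fun ⟨y, hy, e⟩ => Subtype.ext e ▸ hy⟩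
  have hg' : ∀ s ∈ wrSub ι S' ⊓ alternatingGroup (Fin n),
      (b⁻¹ * g * b) * s * (b⁻¹ * g * b)⁻¹ ∈ wrSub ι S' ⊓ alternatingGroup (Fin n) := by
    intro s hs
    have h1 : (⟨b * s * b⁻¹, mul_mem (mul_mem hbA hs.2) (inv_mem hbA)⟩ : alternatingGroup (Fin n)) ∈
        (R : Subgroup (alternatingGroup (Fin n))) := (hmem _).2 (by simpa [mul_assoc] using hs)
    have := (hmem _).1 (H98.conj_mem_of_mem_normalizer hg h1)
    convert this using 1
    simp [mul_assoc]
  obtain ⟨π, f, d, e⟩ := eq_of_normalizes (hout_of_card (lt_block n))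
    (by rw [Fintype.card_fin]; omega) hg'
  rw [Subsingleton.elim d 1, map_one, mul_one] at e
  refine (hmem g).2 (Subgroup.mem_inf.2 ⟨?_, mul_mem (mul_mem (inv_mem hbA) g.2) hbA⟩)
  rw [e]
  refine ⟨π, sym_selfnorm _ S' π fun σ hσ => ?_, f, rfl⟩
  have := (hg' _ ⟨liftH_mem_wrSub hσ, liftH_mem_alt σ⟩).1
  rw [e] at this
  exact top_mem this

theorem pronormal_of_sylow {G : Type*} [Group G] [Finite G] {p : ℕ} [Fact p.Prime]
    (S : Sylow p G) {H : Subgroup G} (hS : (S : Subgroup G) ≤ H)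
    (hN : Subgroup.normalizer ((S : Subgroup G) : Set G) ≤ Subgroup.normalizer (H : Set G)) :
    Cfsg.IsPronormal H := by
  intro g
  have h1 : H98.IsSyl p (S : Subgroup G) (H ⊔ H98.cj g H) :=
    H98.isSyl_sylow_of_le S (hS.trans le_sup_left)
  have h2 : H98.IsSyl p (H98.cj g S) (H ⊔ H98.cj g H) :=
    ((H98.isSyl_sylow S).cj_of_mem (Subgroup.mem_top g)).of_le
      ((H98.cj_mono g hS).trans le_sup_right) le_top
  obtain ⟨x, hx, e⟩ := h1.exists_cj_eq h2
  refine ⟨x, hx, ?_⟩
  have h3 : x⁻¹ * g ∈ Subgroup.normalizer ((S : Subgroup G) : Set G) := by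
    rw [← H98.cj_eq_self_iff, ← H98.cj_cj, ← e, H98.cj_inv_cj]
  have h4 := H98.cj_eq_self (hN h3)
  show H98.cj g H = H98.cj x H
  conv_rhs => rw [← h4, H98.cj_cj, mul_inv_cancel_left]

theorem pronormal_of_isCoatom {G : Type*} [Group G] {H : Subgroup G} (h : IsCoatom H) :
    Cfsg.IsPronormal H := by
  intro g
  rcases (le_sup_left : H ≤ H ⊔ H98.cj g H).eq_or_lt with e | e
  · refine ⟨1, one_mem _, ?_⟩
    show H98.cj g H = H98.cj 1 H
    rw [H98.cj_one]
    have h1 : H98.cj g H ≤ H := le_sup_right.trans e.ge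
    rcases (H98.cj_le_iff.1 h1).eq_or_lt with e' | e'
    · conv_lhs => rw [e', H98.cj_cj_inv]
    · exact absurd (by rw [← H98.cj_cj_inv g H, h.2 _ e', H98.cj_top]) h.1
  · exact ⟨g, (h.2 _ e).ge (Subgroup.mem_top g), rfl⟩

end H30.SymTwo
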