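import Cfsg.Agent.H40.T6Spec
import Cfsg.Agent.H98.Sylow

/-! T6L-19: the normaliser of a subgroup of order nineteen. -/

set_option autoImplicit false

namespace H30.T6N19

open Subgroup H98 H40.T6 Matrix Module

universe u

variable {K : Type u} [Field K] [Fintype K] {Γ : Subgroup (GL (Fin 27) K)}

/-- the matrix of an element -/
abbrev mt (y : Γ) : Matrix (Fin 27) (Fin 27) K := (y : GL (Fin 27) K).val

omit [Fintype K] in
theorem mt_mul (y z : Γ) : mt (y * z) = mt y * mt z := rfl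

omit [Fintype K] in
@[simp] theorem mt_one : mt (1 : Γ) = 1 := rfl

omit [Fintype K] in
theorem mt_pow (y : Γ) (n : ℕ) : mt (y ^ n) = mt y ^ n := by simp [mt]

omit [Fintype K] in
theorem mt_inj {y z : Γ} (h : mt y = mt z) : y = z := Subtype.ext (Units.ext h)

theorem free_dvd (H : Subgroup Γ) (W : Submodule K (Fin 27 → K))
    (h1 : ∀ y ∈ H, ∀ v ∈ W, mt y *ᵥ v ∈ W) (h2 : ∀ y ∈ H, ∀ v ∈ W, v ≠ 0 → mt y *ᵥ v = v → y = 1) :
    Nat.card H ∣ Fintype.card K ^ finrank K W - 1 := by
  let _ : MulAction H {v : W // v ≠ 0} :=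
    { smul := fun y v => ⟨⟨mt y.1 *ᵥ v.1.1, h1 _ y.2 _ v.1.2⟩, fun e => v.2 (Subtype.ext (by
        have := congrArg (mt y.1⁻¹ *ᵥ ·.1) e
        simpa [mulVec_mulVec, ← mt_mul] using this))⟩
      one_smul := fun v => Subtype.ext (Subtype.ext (one_mulVec _))
      mul_smul := fun y z v => Subtype.ext (Subtype.ext (mulVec_mulVec v.1.1 (mt y.1) (mt z.1)).symm) }
  have e := Nat.card_congr (MulAction.selfEquivOrbitsQuotientProd (G := H) (X := {v : W // v ≠ 0})
    fun v => eq_bot_iff.2 fun y hy => Subtype.ext (h2 _ y.2 _ v.1.2 (fun e => v.2 (Subtype.ext e))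
      (congrArg (·.1.1) hy)))
  classical
  have := Fintype.ofFinite W
  rw [Nat.card_prod, Nat.card_eq_fintype_card, Fintype.card_subtype_compl,
    Module.card_eq_pow_finrank (K := K) (V := W), Fintype.card_subtype_eq] at e
  exact Dvd.intro_left _ e.symm

theorem nine_dvd (hK : Fintype.card K = 4) {x : Γ} (o : orderOf x = 19)
    (fp : ∀ v, mt x *ᵥ v = v → v = 0) (W : Submodule K (Fin 27 → K))
    (h : ∀ v ∈ W, mt x *ᵥ v ∈ W) : 9 ∣ finrank K W := by
  have := Fact.mk (by decide : Nat.Prime 19)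
  have k := free_dvd (zpowers x) W (fun y hy v hv => by
      obtain ⟨i, rfl⟩ := mem_powers_iff_mem_zpowers.2 hy
      induction i with
      | zero => simpa using hv
      | succ i ih => simpa only [pow_succ', mt_mul, ← mulVec_mulVec] using h _ (ih (pow_mem (mem_zpowers x) i)))
    fun y hy v _ v0 e => by_contra fun y1 => v0 (fp v (by
      obtain ⟨i, hi⟩ := mem_powers_of_prime_card ((Nat.card_zpowers x).trans o) (g := ⟨y, hy⟩)
        (g' := ⟨x, mem_zpowers x⟩) fun e => y1 (congrArg Subtype.val e)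
      obtain rfl : y ^ i = x := congrArg Subtype.val hi
      clear hi fp h o hy
      induction i with
      | zero => simp
      | succ i ih => rw [pow_succ, mt_mul, ← mulVec_mulVec, e, ih]))
  rw [Nat.card_zpowers, o, hK, ← Nat.modEq_iff_dvd' (Nat.one_le_pow _ _ (by decide)), Nat.ModEq,
    ← Nat.div_add_mod (finrank K W) 9, pow_add, pow_mul, Nat.mul_mod, Nat.pow_mod] at k
  have := Nat.mod_lt (finrank K W) (by decide : 0 < 9)
  rw [Nat.dvd_iff_mod_eq_zero]
  generalize finrank K W % 9 = j at *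
  simp only [Nat.reducePow, Nat.reduceMod, one_pow, one_mul] at k
  interval_cases j <;> simp at k ⊢

theorem ar1 {k r : ℕ} (h : k = 1 ∨ k = 3) (e : 19 * r = k * 76532479683774853939200) : ¬ 19 ∣ r := by
  rintro ⟨c, rfl⟩
  have : 361 ∣ k * 76532479683774853939200 := ⟨c, by rw [← e]; ring⟩
  rcases h with rfl | rfl <;> norm_num at this

theorem ar2 {k c i : ℕ} (h : k = 1 ∨ k = 3) (e : 9 * c * i = k * 76532479683774853939200)
    (hi : i % 19 = 1) (h1 : 19 ∣ c) (h2 : c ∣ 4 ^ 9 - 1) : c = 19 * k := by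
  obtain ⟨c, rfl⟩ := h1
  have c1 : c * i = k * 447558360723829555200 := by nlinarith
  have c2 : c ∈ Nat.divisors 189 := Nat.mem_divisors.2 ⟨by
    have := Nat.dvd_gcd (n := 3 * 447558360723829555200)
      (Nat.dvd_of_mul_dvd_mul_left (n := 13797) (by decide : 0 < 19) h2)
      ((Dvd.intro _ c1).trans (Nat.mul_dvd_mul_right (by rcases h with h | h <;> simp [h]) _))
    simpa using this, by decide⟩
  have := congrArg (· % 19) c1
  simp only [Nat.mul_mod c, hi, mul_one, Nat.mod_mod] at this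
  rcases h with rfl | rfl
  · rw [(by decide : ∀ c ∈ Nat.divisors 189, c % 19 = 1 → c = 1) c c2 this]
  · rw [(by decide : ∀ c ∈ Nat.divisors 189, c % 19 = 3 → c = 3) c c2 this]

theorem job19 : Job19.{u} := by
  intro K _ _ hK Γ Z hZ iZ x n u g E S x19 nx fp tr EE tE E1 cE fE S0 xS uS nS gS ux hc
  have := Fact.mk (by decide : Nat.Prime 19)
  have := Fact.mk Nat.prime_three
  have o : orderOf x = 19 := orderOf_eq_prime x19 (by rintro rfl; simp at tr)
  let M : Subgroup Γ :=
    { carrier := {y | ∃ c : K, mt y * S = c • (S * mt y)}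
      one_mem' := ⟨1, by simp⟩
      mul_mem' := by
        rintro y z ⟨c, hc⟩ ⟨d, hd⟩
        exact ⟨d * c, by rw [mt_mul, mul_assoc, hd, mul_smul_comm, ← mul_assoc, hc, smul_mul_assoc,
          smul_smul, mul_assoc]⟩
      inv_mem' := by
        rintro y ⟨c, hc⟩
        have e : S * mt y⁻¹ = c • (mt y⁻¹ * S) := by
          have := congrArg (mt y⁻¹ * · * mt y⁻¹) hc
          simpa only [← mul_assoc, ← mt_mul, inv_mul_cancel, mul_smul_comm, smul_mul_assoc, mul_assoc _ (mt y),
            mul_inv_cancel, show mt (1 : Γ) = 1 from rfl, one_mul, mul_one] using this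
        have c0 : c ≠ 0 := by
          rintro rfl
          have := congrArg (· * mt y) e
          exact S0 (by simpa [mul_assoc, ← mt_mul] using this)
        exact ⟨c⁻¹, by rw [e, inv_smul_smul₀ c0]⟩ }
  have nj : ∀ j : ℕ, n ^ j * x * (n ^ j)⁻¹ = x ^ 4 ^ j := fun j => by
    induction j with
    | zero => simp
    | succ j ih =>
      rw [pow_succ, pow_succ' 4, pow_mul, mul_assoc _ n, nx, _root_.mul_inv_rev, ← mul_assoc, ← mul_assoc,
        mul_inv_cancel_right, ← conj_pow, ih, ← pow_mul, ← pow_mul, mul_comm]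
  set C := centralizer ({x} : Set Γ)
  set N := normalizer (zpowers x : Set Γ)
  have mC : ∀ y, y ∈ C ↔ y * x * y⁻¹ = x := fun y => by
    rw [mem_centralizer_singleton_iff, mul_inv_eq_iff_eq_mul]
  have mN : ∀ (y) (m : ℕ), y * x * y⁻¹ = x ^ m → y ∈ N := fun y m e => mem_normalizer_fintype (by
    rintro _ ⟨i, rfl⟩
    rw [← conj_zpow, e]
    exact zpow_mem (pow_mem (mem_zpowers x) m) i)
  have CN : C ≤ N := fun y hy => mN y 1 (by rw [(mC y).1 hy, pow_one])
  have nN : n ∈ N := mN n _ (by simpa using nj 1)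
  have dec : ∀ y ∈ N, ∃ j : Fin 9, n ^ j.1 * y ∈ C := fun y hy => by
    obtain ⟨m, hm⟩ := mem_powers_iff_mem_zpowers.2 ((mem_normalizer_iff.1 hy x).1 (mem_zpowers x))
    replace hm : x ^ (m % 19) = y * x * y⁻¹ := (pow_eq_pow_mod m x19).symm.trans hm
    have e : ∀ j : ℕ, n ^ j * y * x * (n ^ j * y)⁻¹ = x ^ (4 ^ j * (m % 19) % 19) := fun j => by
      rw [← pow_eq_pow_mod _ x19, pow_mul, ← nj, conj_pow, hm]; group
    obtain ⟨j, h | h⟩ := (by decide : ∀ m < 19, m ≠ 0 → ∃ j : Fin 9, 4 ^ j.1 * m % 19 = 1 ∨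
      4 ^ j.1 * m % 19 = 18) _ (Nat.mod_lt m (by decide)) fun k => by
        rw [k, pow_zero, eq_comm, conj_eq_one_iff] at hm
        simp [hm] at o
    · exact ⟨j, (mC _).2 (by rw [e, h, pow_one])⟩
    · refine (tr ?_).elim
      have := congrArg (fun y => (mt y).trace) (e j)
      simp only [h] at this
      rw [mt_mul, mt_mul, trace_mul_cycle, ← mt_mul, inv_mul_cancel, mt_one, one_mul] at this
      exact this
  have cN : Nat.card N = 9 * Nat.card C := by
    rw [show 9 * Nat.card C = Nat.card (Fin 9 × C) by simp]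
    refine (Nat.card_eq_of_bijective (fun p : Fin 9 × C => (⟨(n ^ p.1.1)⁻¹ * p.2,
      mul_mem (inv_mem (pow_mem nN _)) (CN p.2.2)⟩ : N)) ⟨?_, fun y => ?_⟩).symm
    · rintro ⟨i, a⟩ ⟨j, b⟩ e
      replace e : (n ^ i.1)⁻¹ * a = (n ^ j.1)⁻¹ * b := congrArg Subtype.val e
      obtain rfl : i = j := by
        have k : ∀ (i : ℕ) (a : C), ((n ^ i)⁻¹ * a)⁻¹ * x * ((n ^ i)⁻¹ * a) = x ^ 4 ^ i := fun i a => by
          have := (mC _).1 (inv_mem a.2)
          rw [_root_.mul_inv_rev, inv_inv, mul_assoc, mul_assoc, ← mul_assoc x, ← mul_assoc (n ^ i),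
            ← mul_assoc (n ^ i), nj]
          nth_rewrite 2 [← this]
          rw [conj_pow, inv_inv, mul_assoc]
        have := (k i a).symm.trans (e ▸ k j b)
        rw [pow_eq_pow_iff_modEq, o] at this
        exact (by decide : ∀ i j : Fin 9, 4 ^ i.1 % 19 = 4 ^ j.1 % 19 → i = j) i j this
      rw [Subtype.ext (mul_left_cancel e)]
    · obtain ⟨j, h⟩ := dec y y.2
      exact ⟨(j, ⟨_, h⟩), Subtype.ext (by simp)⟩
  let U := LinearMap.range (toLin' E)
  have mU : ∀ v, v ∈ U ↔ E *ᵥ v = v := fun v =>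
    ⟨by rintro ⟨w, rfl⟩; rw [toLin'_apply, mulVec_mulVec, EE], fun h => ⟨v, h⟩⟩
  have CU : ∀ y ∈ C, ∀ v ∈ U, mt y *ᵥ v ∈ U := fun y hy v hv => by
    rw [mU, mulVec_mulVec, ← (cE y (mem_centralizer_singleton_iff.1 hy)).eq, ← mulVec_mulVec, (mU v).1 hv]
  have xC : x ∈ C := mem_centralizer_singleton_iff.2 rfl
  have dU : finrank K U = 9 := by
    have h1 := nine_dvd hK o fp U (CU x xC)
    have h2 : finrank K U < 27 := by
      simpa using Submodule.finrank_lt (s := U) fun e => E1 (ext_of_mulVec_single fun i => by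
        rw [(mU _).1 (e.ge Submodule.mem_top), one_mulVec])
    have h3 := LinearMap.IsProj.trace (⟨fun v => ⟨v, rfl⟩, fun v hv => (mU v).1 hv⟩ :
      LinearMap.IsProj U (toLin' E))
    rw [trace_toLin'_eq, tE] at h3
    have h4 : ((4 : ℕ) : K) = 0 := hK ▸ FiniteField.cast_card_eq_zero K
    have h5 : (2 : K) = 0 := mul_self_eq_zero.1 (by rw [← h4]; norm_num)
    obtain h | h | h : finrank K U = 0 ∨ finrank K U = 9 ∨ finrank K U = 18 := by omega
    · simp [h] at h3
    · exact h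
    · rw [h] at h3
      exact absurd (by push_cast at h3; linear_combination h3 + 9 * h5 : (1 : K) = 0) one_ne_zero
  have cC := free_dvd C U CU fun y hy v hv v0 e => fE y (by
    let W := U ⊓ LinearMap.ker (toLin' (mt y) - LinearMap.id)
    have mW : ∀ v, v ∈ W ↔ v ∈ U ∧ mt y *ᵥ v = v := fun v => by simp [W, sub_eq_zero]
    have h1 := nine_dvd hK o fp W fun v hv => (mW _).2 ⟨CU x xC v hv.1, by
      rw [mulVec_mulVec, ← mt_mul, mem_centralizer_singleton_iff.1 hy, mt_mul, ← mulVec_mulVec,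
        ((mW v).1 hv).2]⟩
    have h2 : W = U := Submodule.eq_of_le_of_finrank_le inf_le_left (dU ▸ Nat.le_of_dvd
      (Nat.pos_of_ne_zero fun k => v0 ((Submodule.eq_bot_iff _).1 (Submodule.finrank_eq_zero.1 k) v
        ((mW v).2 ⟨hv, e⟩))) h1)
    exact ext_of_mulVec_single fun i => by
      rw [← mulVec_mulVec]; exact ((mW _).1 (h2.ge ⟨_, rfl⟩)).2)
  rw [hK, dU] at cC
  have cZ : Nat.card Z = 1 ∨ Nat.card Z = 3 := by
    obtain ⟨i, hi⟩ := IsPGroup.exists_card_eq (isPGroup_iff_forall.2 fun z hz => ⟨1, mt_inj (by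
      obtain ⟨c, e⟩ := hZ z hz
      have c0 : c ≠ 0 := by
        rintro rfl
        exact Units.ne_zero _ (e.trans (zero_smul _ _))
      have := FiniteField.pow_card_sub_one_eq_one c c0
      rw [hK] at this
      rw [mt_pow, mt, e]
      simp [smul_pow, this])⟩ : IsPGroup 3 Z)
    have := Nat.card_le_card_of_injective (fun z : Z => mt z.1 0 0) fun a b e => by
      obtain ⟨c, e1⟩ := hZ _ a.2
      obtain ⟨d, e2⟩ := hZ _ b.2
      refine Subtype.ext (mt_inj (e1.trans (.trans ?_ e2.symm)))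
      rw [show c = d by simpa [e1, e2] using e]
    rw [Nat.card_eq_fintype_card (α := K), hK, hi] at this
    rcases i with _ | _ | i
    · exact .inl hi
    · exact .inr hi
    · have := Nat.one_le_pow i 3 (by decide)
      simp only [pow_succ] at *
      omega
  have cG := Z.card_mul_index
  rw [iZ] at cG
  have sy : IsSyl 19 (zpowers x) ⊤ := isSyl_of_not_dvd_relIndex le_top
    (isPGroup_zpowers (k := 1) (by rwa [pow_one])) (ar1 cZ (by
      rw [relIndex_top_right, cG, ← (zpowers x).card_mul_index, Nat.card_zpowers, o]))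
  have iN : N.index % 19 = 1 := by
    have := card_sylow_modEq_one 19 Γ
    rw [sy.toSylowTop.card_eq_index_normalizer] at this
    exact this
  have c3 := ar2 cZ (by rw [← cN, N.card_mul_index, cG]) iN (o ▸ orderOf_dvd_natCard _ xC) cC
  have DC : zpowers x ⊔ Z = C := eq_of_le_of_card_ge (sup_le (zpowers_le.2 xC) fun z hz =>
    mem_centralizer_singleton_iff.2 (mt_inj (by
      obtain ⟨c, e⟩ := hZ z hz
      simp [mt_mul, e]))) (c3.le.trans <| Nat.le_of_dvd Nat.card_pos (Nat.Coprime.mul_dvd_of_dvd_of_dvd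
        (by rcases cZ with h | h <;> rw [h] <;> decide)
        (o ▸ orderOf_dvd_natCard _ (mem_sup_left (mem_zpowers x))) (card_dvd_of_le le_sup_right)))
  have CM : C ≤ M := DC ▸ sup_le (zpowers_le.2 ⟨1, by rw [one_smul]; exact xS⟩) fun z hz => by
    obtain ⟨c, e⟩ := hZ z hz
    exact ⟨1, by simp [e]⟩
  have NM : N ≤ M := fun y hy => by
    obtain ⟨j, h⟩ := dec y hy
    exact (mul_mem_cancel_left (pow_mem (nS : n ∈ M) j.1)).1 (CM h)
  have := hc.2 M (NM.lt_of_ne fun e => ux (by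
    obtain ⟨i, hi⟩ := (mem_normalizer_iff.1 (e.ge (⟨1, by rw [one_smul]; exact uS⟩ : u ∈ M)) x).1
      (mem_zpowers x)
    rw [← hi]
    exact Commute.zpow_self x i))
  obtain ⟨c, e⟩ : g ∈ M := this ▸ mem_top g
  exact gS c e

end H30.T6N19
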