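import Cfsg.Agent.H40.T6Spec
import Cfsg.Agent.H98.Sylow

/-! T6L-RED: local subgroups under central extensions; reduction to one Sylow subgroup. -/

set_option autoImplicit false

namespace H30.T6Red

open Subgroup H98 H40.T6

universe u

theorem jobRed : JobRed.{u} := by
  intro Γ G _ _ _ π hπ hk p hp _ P hP h1 hc
  have := Fact.mk hp
  obtain ⟨Q, hQ⟩ := exists_isSyl p (P.comap π)
  have e : Q.map π = P := by
    have := hQ.map π
    rw [map_comap_eq_self_of_surjective hπ] at this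
    exact this.eq_of_isPGroup hP
  have k : P.comap π ≤ normalizer (Q : Set Γ) := fun x hx => by
    obtain ⟨q, hq, e'⟩ := e.ge hx
    have := (hk (q⁻¹ * x) (by rw [map_mul, map_inv, e', inv_mul_cancel])).1
    simpa using mul_mem (le_normalizer hq) (center_le_normalizer _ this)
  refine ⟨Q, hQ.isPGroup, fun h => h1 (by rw [← e, h, Subgroup.map_bot]), ?_⟩
  convert isCoatom_comap_of_surjective hπ hc using 1
  refine le_antisymm (map_le_iff_le_comap.1 (e ▸ le_normalizer_map π)) fun g hg => ?_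
  have h2 := hQ.cj_of_mem_normalizer (le_normalizer_comap π hg)
  exact mem_normalizer_of_cj_le (hQ.le_of_le_normalizer' h2.isPGroup h2.le (h2.le.trans k))

variable {Γ : Type u} [Group Γ] [Finite Γ] {p : ℕ} [Fact p.Prime] {A B : Subgroup Γ}

theorem step (hB : IsPGroup p B) (h : A < B) {n : ℕ} (hn : p ^ n ∣ Nat.card A) :
    p ^ (n + 1) ∣ Nat.card B := by
  obtain ⟨i, hi⟩ := (hB.to_le h.le).exists_card_eq
  obtain ⟨j, hj⟩ := hB.exists_card_eq
  have h1 : Nat.card A < Nat.card B :=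
    (card_le_of_le h.le).lt_of_ne fun e => h.ne (eq_of_le_of_card_ge h.le e.ge)
  have p1 := (Fact.out : p.Prime).one_lt
  rw [hi] at hn h1
  rw [hj] at h1 ⊢
  have := (Nat.pow_dvd_pow_iff_le_right p1).1 hn
  have := (Nat.pow_lt_pow_iff_right p1).1 h1
  exact pow_dvd_pow p (by omega)

omit [Finite Γ] [Fact p.Prime] in
theorem coatom_cj (h : IsCoatom (normalizer (A : Set Γ))) (g : Γ) :
    IsCoatom (normalizer (cj g A : Set Γ)) := by
  rw [← cj_normalizer]
  exact ((MulAut.conj g).mapSubgroup.isCoatom_iff _).2 h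

theorem jobSyl : JobSyl.{u} := by
  intro Γ _ _ p hp Q hQ h1 hc a ha a1
  have := Fact.mk hp
  have z : ∀ {x : Γ}, x ≠ 1 → ⊥ < zpowers x := fun h => bot_lt_iff_ne_bot.2 (zpowers_ne_bot.2 h)
  have b0 : p ^ 0 ∣ Nat.card (⊥ : Subgroup Γ) := by simp
  have key : ∀ S : Subgroup Γ, IsPGroup p S → ∀ n, p ^ n ∣ Nat.card S → ¬ p ^ (n + 1) ∣ Nat.card Γ →
      ∃ R ≤ S, R ≠ ⊥ ∧ IsCoatom (normalizer (R : Set Γ)) := fun S hS n hn h => by
    obtain ⟨T, hT, ST⟩ := exists_isSyl_le hS le_top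
    obtain rfl := ST.eq_of_not_lt fun k => h ((step hT.isPGroup k hn).trans (card_subgroup_dvd_card T))
    obtain ⟨g, -, hg⟩ := hT.exists_cj_le hQ le_top
    exact ⟨_, hg, fun e => h1 ((map_eq_bot_iff_of_injective _ (MulAut.conj g).injective).1 e),
      coatom_cj hc g⟩
  have pa : IsPGroup p (zpowers a) := isPGroup_zpowers (k := 1) (by rwa [pow_one])
  refine ⟨fun h => ?_, fun h b hb ab nb => ?_⟩
  · obtain ⟨R, r1, r2, r3⟩ := key _ pa 1 (step pa (z a1) b0) h
    rwa [← r1.eq_of_not_lt fun k => h ((step pa k (step (pa.to_le r1) (bot_lt_iff_ne_bot.2 r2) b0)).trans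
      (card_subgroup_dvd_card _))]
  · have m : ∀ x ∈ closure ({a, b} : Set Γ), ∃ i < p, ∃ j < p, x = a ^ i * b ^ j := fun x hx => by
      suffices ∃ i j : ℕ, x = a ^ i * b ^ j by
        obtain ⟨i, j, rfl⟩ := this
        exact ⟨_, Nat.mod_lt i hp.pos, _, Nat.mod_lt j hp.pos, by
          rw [← pow_eq_pow_mod i ha, ← pow_eq_pow_mod j hb]⟩
      have m2 : ∀ i j k l : ℕ, a ^ i * b ^ j * (a ^ k * b ^ l) = a ^ (i + k) * b ^ (j + l) :=
        fun i j k l => by rw [(ab.pow_pow k j).symm.mul_mul_mul_comm, pow_add, pow_add]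
      induction hx using closure_induction with
      | mem x hx => rcases hx with rfl | rfl; exacts [⟨1, 0, by simp⟩, ⟨0, 1, by simp⟩]
      | one => exact ⟨0, 0, by simp⟩
      | mul x y _ _ h1 h2 =>
        obtain ⟨i, j, rfl⟩ := h1
        obtain ⟨k, l, rfl⟩ := h2
        exact ⟨_, _, m2 ..⟩
      | inv x _ h1 =>
        obtain ⟨i, j, rfl⟩ := h1
        refine ⟨(p - 1) * i, (p - 1) * j, inv_eq_of_mul_eq_one_right ?_⟩
        have : ∀ i, i + (p - 1) * i = p * i := fun i => by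
          obtain ⟨n, rfl⟩ := Nat.exists_eq_succ_of_ne_zero hp.ne_zero
          simp [Nat.succ_mul, add_comm]
        rw [m2, this, this, pow_mul, pow_mul, ha, hb, one_pow, one_pow, one_mul]
    have pS : IsPGroup p (closure ({a, b} : Set Γ)) := isPGroup_iff_forall.2 fun x hx => by
      obtain ⟨i, -, j, -, rfl⟩ := m x hx
      exact ⟨1, by rw [pow_one, (ab.pow_pow i j).mul_pow, pow_right_comm, ha, pow_right_comm, hb]; simp⟩
    have lt : zpowers a < closure ({a, b} : Set Γ) :=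
      (zpowers_le.2 (subset_closure (by simp))).lt_of_ne fun e => by
        obtain ⟨i, hi⟩ := mem_powers_iff_mem_zpowers.2 (e.ge (subset_closure (by simp) : b ∈ _))
        exact nb _ (Nat.mod_lt i hp.pos) (by rw [← pow_eq_pow_mod i ha]; exact hi.symm)
    obtain ⟨R, r1, r2, r3⟩ := key _ pS 2 (step pS lt (step pa (z a1) b0)) h
    rcases r1.eq_or_lt with rfl | r4
    · exact .inl r3
    obtain ⟨x, hx, x1⟩ := R.bot_or_exists_ne_one.resolve_left r2
    obtain ⟨i, hi, j, hj, rfl⟩ := m x (r1 hx)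
    refine .inr ⟨i, hi, j, hj, Nat.pos_of_ne_zero fun e => x1 (by
      obtain ⟨rfl, rfl⟩ := Nat.add_eq_zero_iff.1 e; simp), ?_⟩
    have pR := pS.to_le r1
    rwa [(zpowers_le.2 hx).eq_of_not_lt fun k => h ((step pS r4 (step pR k
      (step (pR.to_le k.le) (z x1) b0))).trans (card_subgroup_dvd_card _))]

end H30.T6Red
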