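import Cfsg.Agent.H86.TP.Spec

/-! Tower NF (S1308), chapter TE part 1: job FU0. -/

set_option autoImplicit false

namespace H30.TPFU0

open Cfsg Subgroup MulAction H14 H98 H1.Gold H31.S2 H14.GC H14.FE H14.NF H86.TP
open scoped commutatorElement

universe u

section
variable {G : Type u} [Group G]

/-- `y ↦ ⁅t, y⁆` on a subgroup centralising its values. -/
def cmHom (t : G) (P E : Subgroup G) (hc : P ≤ centralizer (E : Set G))
    (hm : ∀ y ∈ P, ⁅t, y⁆ ∈ E) : P →* G :=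
  MonoidHom.mk' (fun y => ⁅t, (y : G)⁆) fun a b => by
    have h := mem_centralizer_iff.mp (hc a.2) _ (hm b b.2)
    calc ⁅t, ((a * b : P) : G)⁆ = ⁅t, (a : G)⁆ * ((a : G) * ⁅t, (b : G)⁆) * (a : G)⁻¹ := by
          simp only [coe_mul, commutatorElement_def]; group
      _ = ⁅t, (a : G)⁆ * ⁅t, (b : G)⁆ := by rw [← h]; group

theorem card_eq {H : Type*} [Group H] (f : H →* G) :
    Nat.card H = Nat.card f.ker * Nat.card f.range := by
  rw [← Subgroup.index_ker, card_mul_index]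

theorem lower [Finite G] {t : G} {P E : Subgroup G} (hc : P ≤ centralizer (E : Set G))
    (hm : ∀ y ∈ P, ⁅t, y⁆ ∈ E) (hE : E ≤ P) (ht : t ∈ centralizer (E : Set G))
    (hon : ∀ r ∈ E, ∃ y ∈ P, ⁅t, y⁆ = r) : Nat.card E * Nat.card E ≤ Nat.card P := by
  rw [card_eq (cmHom t P E hc hm)]
  refine Nat.mul_le_mul ?_ (card_le_of_le fun r hr => ?_)
  · rw [← Nat.card_congr (subgroupOfEquivOfLe hE).toEquiv]
    refine card_le_of_le fun y hy => ?_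
    exact commutatorElement_eq_one_iff_mul_comm.mpr (mem_centralizer_iff.mp ht _ hy).symm
  · obtain ⟨y, hy, e⟩ := hon r hr
    exact ⟨⟨y, hy⟩, e⟩

theorem upper [Finite G] {t : G} {P E : Subgroup G} (hc : P ≤ centralizer (E : Set G))
    (hm : ∀ y ∈ P, ⁅t, y⁆ ∈ E) (hE : E ≤ P) (nd : ∀ y ∈ P, y ∉ E → ⁅t, y⁆ ≠ 1)
    (h : Nat.card E * Nat.card E ≤ Nat.card P) : ∀ r ∈ E, ∃ y ∈ P, ⁅t, y⁆ = r := by
  rw [card_eq (cmHom t P E hc hm)] at h
  have hk : Nat.card (cmHom t P E hc hm).ker ≤ Nat.card E := by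
    rw [← Nat.card_congr (subgroupOfEquivOfLe hE).toEquiv]
    refine card_le_of_le fun y hy => ?_
    by_contra hn
    exact nd y y.2 hn hy
  have hr : (cmHom t P E hc hm).range ≤ E := by
    rintro _ ⟨y, rfl⟩
    exact hm y y.2
  have h1 : Nat.card E ≤ Nat.card (cmHom t P E hc hm).range :=
    Nat.le_of_mul_le_mul_left (h.trans (Nat.mul_le_mul_right _ hk)) Nat.card_pos
  have h2 := eq_of_le_of_card_ge hr h1
  intro r hr'
  rw [← h2] at hr'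
  obtain ⟨y, e⟩ := hr'
  exact ⟨y, y.2, e⟩

end

theorem jFU0 : H86.TP.JobFU0.{u} := by
  intro cjj gq0 so cl px G _ _ Q tq E hE one Q₁ E₁ Q₂ E₂ col Y hY h2 hcm
  haveI : Fact (Nat.Prime 2) := ⟨Nat.prime_two⟩
  obtain ⟨-, -, hpt⟩ := so G Q (gq0 G Q tq) E hE
  obtain ⟨A₁, F₁, A₂, F₂, P₀, col0, pg0, fu0⟩ := one
  obtain ⟨vx, -, c1⟩ := hpt Q₁ E₁ col.p1
  obtain ⟨-, -, c0⟩ := hpt A₁ F₁ col0.p1
  obtain ⟨R, P, lp, hYR⟩ := (cl G Q tq E hE Q₁ E₁ Q₂ E₂ col).2 Y h2 hY hcm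
  obtain ⟨-, sq, hfu⟩ := (gq0 G Q₁ (cjj G Q tq Q₁ vx)).ld Q₂ E₂ R E₁ P lp
  obtain ⟨pg, hn, hc⟩ := px G Q₁ Q₂ E₂ R E₁ P Y lp sq hY hcm hYR
  refine ⟨P, pg, hn, hc, ?_⟩
  by_cases hPR : P = R
  swap
  · exact hfu hPR
  -- the order of `P₀`
  have h0 : Nat.card F₁ * Nat.card F₁ ≤ Nat.card P₀ := by
    obtain ⟨y, -, -, -, hy⟩ := col0.mv
    obtain ⟨t, ht, h1⟩ : ∃ t ∈ F₂, t ≠ 1 := by
      by_contra hn
      push Not at hn
      exact hy (mem_centralizer_iff.mpr fun t ht => by rw [hn t ht, one_mul, mul_one])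
    exact lower (pg0.le.trans inf_le_right) (fun y hy => pg0.cm t ht y hy) pg0.lt.le
      (col0.comm ht) (fu0 t ht h1)
  have hR : Nat.card P₀ ≤ Nat.card R := by
    obtain ⟨g, e1, -⟩ := col0.p1
    obtain ⟨h, e2, -⟩ := col.p1
    have hle : cj (h * g⁻¹) P₀ ≤ Q₁ := by
      rw [e2, ← cj_cj, cj_le_cj_iff, cj_le_iff, inv_inv, ← e1]
      exact pg0.le.trans inf_le_left
    obtain ⟨k, -, hk⟩ := lp.sylR.exists_cj_le (isPGroup_cj _ pg0.two) hle
    have := card_le_of_le hk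
    rwa [card_cj, card_cj] at this
  intro t ht h1
  refine upper lp.cenE (fun y hy => pg.cm t ht y hy) lp.ltP.le
    (fun y hy hn => lp.nd y hy hn t ht h1) ?_
  rw [c1, hPR, ← c0]
  exact h0.trans hR

end H30.TPFU0
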