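import Cfsg.Agent.H57.U2CSpec
import Cfsg.Agent.H48.Meta

/-! S3275, chapter U2F, non-central case: the module `V`. -/

set_option autoImplicit false

namespace H30.U2C

open Subgroup Cfsg H98 H96 H97 H48.DP H57.DPC H48.DP2 H96.U2I
open scoped commutatorElement

universe u

theorem jobNP : H57.U2C.JobNP.{u} := by
  intro kk md l1 G _ _ M Q T R Q₀ F Y V y t h
  have : Fact (Nat.Prime 2) := ⟨Nat.prime_two⟩
  have : Fact (Nat.Prime 3) := ⟨Nat.prime_three⟩
  obtain ⟨-, ea, -, h2, h3⟩ := l1 G M Q T R Q₀ F y t h.toSb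
  have KM : T ⊔ F ≤ M := sup_le h.TM h.FM
  have VM : V ≤ ncl M (oZ 2 T) := h.eV ▸ ncl_mono KM le_rfl
  have eV : IsElementaryAbelian 2 V :=
    ⟨⟨⟨fun a b => Subtype.ext (congrArg Subtype.val (ea.1.1.1 ⟨a, VM a.2⟩ ⟨b, VM b.2⟩) :)⟩⟩,
      fun a ha => ea.2 a (VM ha)⟩
  have m1 := (md G T Q₀ F (oZ 2 T) 1 h.kq h.e27 (h.eV ▸ eV) (one_mem _)
    (fun g _ => mem_centralizer_singleton_iff.2 (by rw [mul_one, one_mul])) fun d hd s hs => by
      rw [commutatorElement_eq_one_iff_mul_comm.2 (oZ_le_centralizer T hd s hs)]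
      exact one_mem _).1
  rw [← h.eV] at m1
  refine ⟨⟨m1, KM, KM.trans h.MQ, le_centralizer_iff.1 (VM.trans h2), fun w hw w1 =>
    h.gd F h.FM w w1 (by rw [← sq]; exact eV.2 w hw), h.big⟩, VM.trans h3, fun m hm a ha b hb =>
      congrArg Subtype.val (ea.1.1.1 ⟨b, cj_le_of_le VM (le_normalizer_ncl M _ hm) hb⟩ ⟨a, VM ha⟩),
    fun s hs s2 sV => ?_, fun hc => ?_⟩
  · obtain ⟨g, hg, h4⟩ := (kk G T _ Y h.kq1).2.1.exists_cj_le
      (isPGroup_zpowers (k := 1) (by rw [pow_one, sq, s2])) (zpowers_le.2 hs)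
    have h5 : g * s * g⁻¹ ∈ T ⊓ Ce V := ⟨h4 (conj_mem_cj (mem_zpowers s)),
      conj_mem_of_mem_normalizer (le_normalizer_centralizer m1.KU
        (sup_le_sup_left h.YF T hg)) sV⟩
    exact ((mem_normalizer_iff.1 (sup_le h.kq1.TQ h.kq1.FQ hg) s).2 h5).1
  · obtain ⟨A, -, a1, a2⟩ := H48.exists_normal_elemAb_sq (by decide) h.kq1.F3 h.nc
    have a3 : A.map Y.subtype ≤ Y := map_subtype_le _
    have hX : ncl ((T ⊔ Y) ⊔ (T ⊔ zpowers y)) V ≤ R := ncl_le_iff.2 fun g hg =>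
      cj_le_iff.2 (hc _ (inv_mem hg))
    refine h.yM (h.eq _ (A.map Y.subtype) (h.syl.isPGroup.to_le (hX.trans h.RT))
      (fun e => h.big fun f _ b hb => ?_)
      (a3.trans (le_sup_right.trans (le_sup_left.trans (le_normalizer_ncl _ _))))
      (a3.trans (h.YF.trans h.FM)) ⟨?_, ?_⟩ ?_
      (le_normalizer_ncl _ _ (mem_sup_right (mem_sup_right (mem_zpowers y)))))
    · rw [ncl_eq_bot_iff.1 e] at hb
      rw [mem_bot.1 hb, one_mul, mul_one]
    · have := a1.1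
      infer_instance
    · rintro _ ⟨a, ha, rfl⟩
      rw [← map_pow, a1.2 a ha, map_one]
    · rw [card_map_of_injective Y.subtype_injective, a2]
      norm_num

end H30.U2C
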