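/- U5 tower (row S5258): `JobN1` and `JobN2` (blueprints/U5.md). -/
import Cfsg.Agent.H90.U5Tri
import Cfsg.Agent.H9.RFFix

set_option autoImplicit false
set_option linter.unusedSectionVars false
set_option linter.unusedSimpArgs false

open Subgroup H90.U5
open H90.RF (cm Au Pr Lg cm_eq_one conj_eq_cm)

universe v

namespace H30.U5

section Gen
variable {P : Type*} [Group P] {X U : Subgroup P} {Y : Subgroup (Equiv.Perm P)}

theorem tr {a b c : P} (h : a⁻¹ * b ∈ U) (k : b⁻¹ * c ∈ U) : a⁻¹ * c ∈ U := by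
  simpa [mul_assoc] using mul_mem h k

theorem sy {a b : P} (h : a⁻¹ * b ∈ U) : b⁻¹ * a ∈ U := by simpa using inv_mem h

theorem mp (hU : ∀ c ∈ X, c ∈ U ↔ ∀ w ∈ X, cm c w = 1) {β : P → P} (h : Au X β) {a b : P} (ha : a ∈ X)
    (hb : b ∈ X) : (β a)⁻¹ * β b ∈ U ↔ a⁻¹ * b ∈ U := by
  have m := mul_mem (inv_mem ha) hb
  rw [← h.inv ha, ← h.mul _ (inv_mem ha) _ hb, hU _ m, hU _ (h.mem _ m)]
  refine ⟨fun k w hw => h.inj _ ?_ ?_, fun k w hw => ?_⟩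
  · exact mul_mem (inv_mem hw) (mul_mem (mul_mem m hw) (inv_mem m))
  · rw [h.cm m hw, k _ (h.mem w hw)]
  · obtain ⟨w, hw', rfl⟩ := h.sur w hw
    rw [← h.cm m hw', k w hw', h.one]

/-- the member of a coset of inner automorphisms that commutes with `k` -/
theorem rigid [Finite P] (l : Lg X Y) (hU : ∀ c ∈ X, c ∈ U ↔ ∀ w ∈ X, cm c w = 1)
    (inn : ∀ s ∈ X, ∃ y ∈ Y, ∀ c ∈ X, y c = s * c * s⁻¹) (cinn : ∀ s ∈ X, ∀ c ∈ X, cm s c ∈ U)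
    (rad : ∀ y ∈ Y, (∀ c ∈ X, c⁻¹ * y c ∈ U) → ∃ s ∈ X, ∀ c ∈ X, y c = s * c * s⁻¹)
    {ν : P → P} (aν : Au X ν) (νν : ∀ c ∈ X, ν (ν c) = c) {k g : Equiv.Perm P} (hk : k ∈ Y) (hg : g ∈ Y)
    (fpf : ∀ s ∈ X, s⁻¹ * k s ∈ U → s ∈ U) (kν : ∀ c ∈ X, ν (k c) = k (ν c))
    (gν : ∀ c ∈ X, (ν c)⁻¹ * g c ∈ U) :
    ∃ m ∈ Y, (∀ c ∈ X, c⁻¹ * ν (m c) ∈ U) ∧ ∀ t ∈ Y, ∀ t' ∈ Y, Commute k t → Commute k t' →
      (∀ c ∈ X, ν (t c) = t' (ν c)) → ∀ c ∈ X, ν (m (t c)) = t (ν (m c)) := by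
  have cX : ∀ s ∈ X, ∀ c ∈ X, s * c * s⁻¹ ∈ X := fun s hs c hc => mul_mem (mul_mem hs hc) (inv_mem hs)
  let J : Subgroup (Equiv.Perm P) :=
    { carrier := {y | y ∈ Y ∧ ∃ s ∈ X, ∀ c ∈ X, y c = s * c * s⁻¹}
      one_mem' := ⟨one_mem _, 1, one_mem _, fun c _ => by simp⟩
      mul_mem' := fun {y y'} ⟨hy, s, hs, e⟩ ⟨hy', s', hs', e'⟩ => ⟨mul_mem hy hy', s * s', mul_mem hs hs',
        fun c hc => by rw [Equiv.Perm.mul_apply, e' c hc, e _ (cX _ hs' c hc)]; group⟩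
      inv_mem' := fun {y} ⟨hy, s, hs, e⟩ => ⟨inv_mem hy, s⁻¹, inv_mem hs, fun c hc => by
        rw [Equiv.Perm.inv_eq_iff_eq, e _ (cX _ (inv_mem hs) c hc)]; group⟩ }
  have ak := l.au k hk
  have ak' := l.au _ (inv_mem hk)
  have kc : ∀ (y : Equiv.Perm P) s, s ∈ X → (∀ c ∈ X, y c = s * c * s⁻¹) →
      ∀ c ∈ X, (k * y * k⁻¹) c = k s * c * (k s)⁻¹ := fun y s hs e c hc => by
    rw [Equiv.Perm.mul_apply, Equiv.Perm.mul_apply, e _ (ak'.mem c hc), ak.conj hs (ak'.mem c hc),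
      show k (k⁻¹ c) = c from k.apply_symm_apply c]
  let δ : J →* J := MonoidHom.mk' (fun y => ⟨k * y * k⁻¹, mul_mem (mul_mem hk y.2.1) (inv_mem hk),
    y.2.2.elim fun s h => ⟨k s, ak.mem s h.1, kc y s h.1 h.2⟩⟩) fun y y' => Subtype.ext (by
      change k * (y.1 * y'.1) * k⁻¹ = k * y.1 * k⁻¹ * (k * y'.1 * k⁻¹)
      group)
  have one : ∀ y ∈ J, k * y * k⁻¹ = y → y = 1 := fun y ⟨hy, s, hs, e⟩ h => by
    have z := (hU s hs).1 (fpf s hs ((hU _ (mul_mem (inv_mem hs) (ak.mem s hs))).2 fun w hw => by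
      have q := kc y s hs e w hw
      rw [h, e w hw] at q
      rw [cm_eq_one]
      calc _ = s⁻¹ * (k s * w * (k s)⁻¹) * k s := by group
        _ = _ := by rw [← q]; group))
    exact l.ext hy (one_mem _) fun c hc => by
      rw [e c hc, conj_eq_cm, z c hc, mul_one, Equiv.Perm.one_apply]
  have dv : ∀ A ∈ Y, ∀ B ∈ Y, (∀ c ∈ X, (A c)⁻¹ * B c ∈ U) → A⁻¹ * B ∈ J := fun A hA B hB h =>
    have m := mul_mem (inv_mem hA) hB
    ⟨m, rad _ m fun c hc => (mp hU (l.au A hA) hc ((l.au _ m).mem c hc)).1 (by simpa using h c hc)⟩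
  obtain ⟨ι, ck⟩ := H9.RF.fix_coset (ι := J.subtype) (δ := δ) (k := k) (fun _ => rfl)
    (fun y e => Subtype.ext (one y y.2 (congrArg Subtype.val e))) (g := g)
    ⟨⟨_, dv g hg _ (mul_mem (mul_mem hk hg) (inv_mem hk)) fun c hc => by
      obtain ⟨c, hc', rfl⟩ := ak.sur c hc
      rw [Equiv.Perm.mul_apply, Equiv.Perm.mul_apply, show k⁻¹ (k c) = c from k.symm_apply_apply c]
      refine tr (sy (gν _ hc)) ?_
      rw [kν c hc', mp hU ak (aν.mem c hc') ((l.au g hg).mem c hc')]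
      exact gν c hc'⟩, rfl⟩
  obtain ⟨ι, hι, s, hs, e⟩ := ι
  have hm := mul_mem hg hι
  have mν : ∀ c ∈ X, (ν c)⁻¹ * (g * ι) c ∈ U := fun c hc => by
    rw [Equiv.Perm.mul_apply, e c hc]
    exact tr ((mp hU aν hc (cX s hs c hc)).2 (cinn s hs c hc)) (gν _ (cX s hs c hc))
  change Commute k (g * ι) at ck
  generalize g * ι = m at hm mν ck
  have am := l.au m hm
  refine ⟨m, hm, fun c hc => ?_, fun t ht t' ht' c1 c2 h c hc => ?_⟩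
  · have := (mp hU aν (aν.mem c hc) (am.mem c hc)).2 (mν c hc)
    rwa [νν c hc] at this
  · have q := inv_mul_eq_one.1 (one _ (dv _ (mul_mem ht' hm) _ (mul_mem hm ht) fun c hc => by
      rw [Equiv.Perm.mul_apply, Equiv.Perm.mul_apply]
      refine tr (sy ?_) (mν _ ((l.au t ht).mem c hc))
      rw [h c hc, mp hU (l.au t' ht') (aν.mem c hc) (am.mem c hc)]
      exact mν c hc) (mul_inv_eq_iff_eq_mul.2 ((c2.mul_right ck).inv_right.mul_right (ck.mul_right c1))))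
    have d := am.mem c hc
    rw [← Equiv.Perm.mul_apply, ← q, Equiv.Perm.mul_apply, ← νν _ ((l.au t ht).mem _ (aν.mem _ d)),
      h _ (aν.mem _ d), νν _ d]

/-- a central automorphism that commutes with `t` -/
theorem kill {A : Type*} [AddGroup A] (hU : ∀ c ∈ U, ∀ w ∈ X, cm c w = 1) (UX : U ≤ X) {β t : P → P}
    (a : Au X β) (h : ∀ c ∈ X, c⁻¹ * β c ∈ U) (fU : ∀ c ∈ U, β c = c) (at' : Au ⊤ t) (pt : Pr t X)
    (ht : ∀ c ∈ X, β (t c) = t (β c)) (φ : P → A) (hφ : ∀ z ∈ U, ∀ z' ∈ U, φ (z * z') = φ z + φ z')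
    (φt : ∀ z ∈ U, φ (t z) = φ z) (sur : ∀ u ∈ X, ∃ w ∈ X, (t w)⁻¹ * (w * u) ∈ U) :
    ∀ u ∈ X, φ (u⁻¹ * β u) = 0 := fun u hu => by
  have ad : ∀ u ∈ X, ∀ w ∈ X, φ ((u * w)⁻¹ * β (u * w)) = φ (u⁻¹ * β u) + φ (w⁻¹ * β w) := fun u hu w hw => by
    rw [← hφ _ (h u hu) _ (h w hw), a.mul u hu w hw, ← mul_assoc (u⁻¹ * β u),
      cm_eq_one.1 (hU _ (h u hu) _ (inv_mem hw))]
    congr 1
    group
  obtain ⟨w, hw, z⟩ := sur u hu
  have e := ad _ (pt w hw) _ (UX z)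
  have o : φ 1 = 0 := by simpa using hφ 1 (one_mem _) 1 (one_mem _)
  rw [mul_inv_cancel_left, ad w hw u hu, fU _ z, inv_mul_cancel, o, ht w hw, ← at'.inv trivial,
    ← at'.mul _ trivial _ trivial, φt _ (h w hw)] at e
  exact add_left_cancel e

end Gen

variable {K : Type v} [Field K] [Finite K] {T : BF K} {p : ℕ} {Y0 Y1 Y2 : Subgroup (Equiv.Perm (Co T))}

theorem HT.mul {x y : Kˣ × Kˣ} (h : HT T Y0 x) (k : HT T Y0 y) : HT T Y0 (x * y) := by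
  obtain ⟨α, hα, e⟩ := h
  obtain ⟨β, hβ, e'⟩ := k
  exact ⟨α * β, mul_mem hα hβ, fun u => by rw [Equiv.Perm.mul_apply, e', e, dg_dg]; rfl⟩

theorem exists_r (T : BF K) : ∃ r : Kˣ, (r : K) ^ 3 ≠ T.σ r ^ 2 := by
  by_contra h
  have k : ∀ r : K, r ≠ 0 → r * T.σ r = 1 := fun r r0 => by
    have h1 : r ^ 3 = T.σ r ^ 2 := not_not.1 (not_exists.1 h (Units.mk0 r r0))
    have h2 := congrArg T.σ h1
    rw [map_pow, map_pow, T.sq] at h2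
    exact mul_left_cancel₀ (pow_ne_zero 2 r0) (by linear_combination T.σ r * h1 + h2)
  have n := T.ne
  have w0 : T.ω ≠ 0 := fun e => n (by simp [e])
  have w1 : T.ω + 1 ≠ 0 := fun e => n (by simp [eq_neg_of_add_eq_zero_left e])
  have h1 : T.ω ^ 3 = T.σ T.ω ^ 2 := not_not.1 (not_exists.1 h (Units.mk0 _ w0))
  have h2 := k _ w0
  have h3 := k _ w1
  rw [map_add, map_one] at h3
  grind

theorem tor_comm {X : Subgroup (Co T)} {Y : Subgroup (Equiv.Perm (Co T))} (l : Lg X Y) {α β : Equiv.Perm (Co T)}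
    (hα : α ∈ Y) (hβ : β ∈ Y) {a b c d : K} (e : ∀ u ∈ X, α u = dg T a b u) (e' : ∀ u ∈ X, β u = dg T c d u) :
    Commute α β := l.ext (mul_mem hα hβ) (mul_mem hβ hα) fun u hu => by
  rw [Equiv.Perm.mul_apply, Equiv.Perm.mul_apply, e _ ((l.au β hβ).mem u hu), e' _ ((l.au α hα).mem u hu),
    e u hu, e' u hu, dg_dg, dg_dg, mul_comm a, mul_comm b]

theorem zero_of {x a : K} (hx : x ≠ 1) (h : x * a = a) : a = 0 := by
  by_contra e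
  exact hx (mul_right_cancel₀ e (h.trans (one_mul a).symm))

theorem jobN1 : JobN1.{v} := by
  intro p _ K _ _ _ T Y0 Y1 Y2 t G h1 h2
  have res : ∀ x, HT T Y0 x → ∃ α ∈ Y1, ∀ u ∈ sQ1 T, α u = dg T x.1 x.2 u := fun x ⟨y, hy, e⟩ =>
    (t.res1 y hy).imp fun α k => ⟨k.1, fun u hu => (k.2 u hu).trans (e u)⟩
  have dq : ∀ (a b : K), Pr (dg T a b) (sQ1 T) := fun a b u hu => ⟨by simp [dg, hu.1], by simp [dg, hu.2]⟩
  obtain ⟨r, hr⟩ := exists_r T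
  have s0 := (map_ne_zero T.σ).2 r.ne_zero
  obtain ⟨k, hk, ek⟩ := res _ (HT.mul (h2 (t1 T r).2) (h1 r))
  obtain ⟨x, x1, ek⟩ : ∃ x : K, x ≠ 1 ∧ ∀ u ∈ sQ1 T, k u = dg T x 1 u :=
    ⟨r ^ 3 / T.σ r ^ 2, fun e => hr ((div_eq_one_iff_eq (pow_ne_zero 2 s0)).1 e), fun u hu => by
      rw [ek u hu]
      congr 1 <;> simp [t1, t2] <;> field_simp⟩
  obtain ⟨g, hg, eg⟩ := G.1
  obtain ⟨m, hm, e, c⟩ := rigid (U := sZ T) t.l1 (fun c hc => ⟨fun h w _ => cm_one' h w, mem_Z_of hc⟩)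
    (fun s _ => by
      obtain ⟨y, hy, e⟩ := t.inn s
      exact (t.res1 y hy).imp fun α k => ⟨k.1, fun u hu => (k.2 u hu).trans (e u)⟩)
    (fun _ hs _ hc => cm_Q1 hs hc) t.rad1 au_nu1 (fun _ => nu1_nu1) hk hg
    (fun s hs h => by
      rw [ek s hs, Q1_mod hs (dq _ _ s hs)] at h
      simp only [dg, mul_one, map_one] at h
      exact ⟨zero_of x1 h.1, hs.1, zero_of x1 h.2.1, hs.2, zero_of x1 h.2.2⟩)
    (fun c hc => by rw [ek c hc, ek _ (au_nu1.mem c hc)]; ext <;> simp [dg, Co.nu1])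
    fun c hc => (Q1_mod (au_nu1.mem c hc) ((t.l1.au g hg).mem c hc)).2 (eg c hc)
  have am := t.l1.au m hm
  have aβ := au_nu1.comp am
  have n := T.ne
  have w0 : T.ω ≠ 0 := fun e => n (by simp [e])
  have w1' : T.ω ≠ 1 := fun e => n (by simp [e])
  have w2 : T.σ T.ω ≠ 1 := fun e => n (by rw [← T.sq T.ω, e, map_one, map_one])
  have v0 := (map_ne_zero T.σ).2 w0
  let ρ := Units.mk0 _ w0
  obtain ⟨τ, hτ, eτ⟩ := res _ (h1 ρ)
  obtain ⟨τ', hτ', eτ'⟩ := res _ (h1 (Units.mk0 _ v0)⁻¹)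
  have cτ := c τ hτ τ' hτ' (tor_comm t.l1 hk hτ ek eτ) (tor_comm t.l1 hk hτ' ek eτ') fun u hu => by
    rw [eτ u hu, eτ' _ (au_nu1.mem u hu)]
    ext <;> simp [dg, Co.nu1, t1, ρ, T.sq] <;> field_simp <;> simp
  have z := kill (fun c hc w _ => cm_one' hc w) (Z_le.trans Z2_le_Q1) aβ e (fix_Z aβ e) (au_dg (t1 T ρ))
    (dq _ _) (fun u hu => by rw [← eτ u hu, cτ u hu, eτ _ (aβ.mem u hu)]) Co.g
    (fun z hz z' hz' => by simp [hz.1, hz.2.2.1, hz.2.2.2.2])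
    (fun z _ => by simp [dg, t1, ρ, T.sq]; field_simp) fun u hu =>
      ⟨w1 T (u.a / (T.ω⁻¹ - 1)) (u.c / (T.ω / T.σ T.ω - 1)) (u.d / (T.σ T.ω - 1)), w1_mem _ _ _, by
        have i1 : T.ω⁻¹ - 1 ≠ 0 := sub_ne_zero.2 (by simpa using w1')
        have i2 : T.ω / T.σ T.ω - 1 ≠ 0 := sub_ne_zero.2 fun e => n ((div_eq_one_iff_eq v0).1 e).symm
        have i3 : T.σ T.ω - 1 ≠ 0 := sub_ne_zero.2 w2
        rw [Q1_mod (dq _ _ _ (w1_mem _ _ _)) (mul_mem (w1_mem _ _ _) hu)]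
        generalize ha : u.a / (T.ω⁻¹ - 1) = a
        generalize hc : u.c / (T.ω / T.σ T.ω - 1) = c
        generalize hd : u.d / (T.σ T.ω - 1) = d
        rw [div_eq_iff (by assumption)] at ha hc hd
        simp [dg, t1, ρ, T.sq, hu.1, hu.2, ha, hc, hd]
        refine ⟨?_, ?_, ?_⟩ <;> field_simp <;> ring⟩
  refine ⟨m, hm, fun u hu => ?_⟩
  rw [← nu1_nu1 (am.mem u hu), ← inv_mul_eq_one.1 (eq_of_Z (e u hu) (one_mem _) (z u hu))]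

theorem sur2 {x y : K} (h1 : x * y ≠ 1) (h2 : y ≠ 1) :
    ∀ u ∈ sQ2 T, ∃ w ∈ sQ2 T, (dg T x y w)⁻¹ * (w * u) ∈ sV T := fun u hu =>
  ⟨w2 T (u.c / (x * y - 1)) (u.b / (y - 1)), w2_mem _ _, by
    have i1 := sub_ne_zero.2 h1
    have i2 := sub_ne_zero.2 h2
    have a0 : (w2 T (u.c / (x * y - 1)) (u.b / (y - 1))).a = 0 := w2_mem _ _
    rw [Q2_mod (by simp [mem_sQ2, dg, a0]) (mul_mem (w2_mem _ _) hu)]
    simp only [dg, Co.mul_c, Co.mul_b, a0, w2_c, w2_b]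
    constructor <;> field_simp <;> ring⟩

theorem jobN2 : JobN2.{v} := by
  intro p _ K _ _ _ T Y0 Y1 Y2 t G h1 h2
  have res : ∀ x, HT T Y0 x → ∃ α ∈ Y2, ∀ u ∈ sQ2 T, α u = dg T x.1 x.2 u := fun x ⟨y, hy, e⟩ =>
    (t.res2 y hy).imp fun α k => ⟨k.1, fun u hu => (k.2 u hu).trans (e u)⟩
  have dq : ∀ (a b : K), Pr (dg T a b) (sQ2 T) := fun a b u hu => by
    simp [mem_sQ2, dg, (mem_sQ2 T).1 hu]
  obtain ⟨r, hr⟩ := exists_r T
  have s0 := (map_ne_zero T.σ).2 r.ne_zero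
  have r0 := r.ne_zero
  obtain ⟨k, hk, ek⟩ := res _ (HT.mul (h2 r) (h1 (r ^ 2)))
  have y1 : (r : K) ^ 3 / T.σ r ^ 2 ≠ 1 := fun e => hr ((div_eq_one_iff_eq (pow_ne_zero 2 s0)).1 e)
  obtain ⟨y, y1, ek⟩ : ∃ y : K, y ≠ 1 ∧ ∀ u ∈ sQ2 T, k u = dg T 1 y u :=
    ⟨r ^ 3 / T.σ r ^ 2, y1, fun u hu => by
      rw [ek u hu]
      congr 1 <;> simp [t1, t2] <;> field_simp⟩
  obtain ⟨g, hg, eg⟩ := G.1
  obtain ⟨j, hj, ej⟩ := res _ (HT.mul (h2 (-1)) (h1 (-1)))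
  obtain ⟨m, hm, e, c⟩ := rigid (U := sV T) t.l2 (fun c hc => ⟨fun h w => cm_V' h, mem_V_of hc⟩)
    (fun s _ => by
      obtain ⟨y, hy, e⟩ := t.inn s
      exact (t.res2 y hy).imp fun α k => ⟨k.1, fun u hu => (k.2 u hu).trans (e u)⟩)
    (fun _ hs _ hc => cm_Q2 hs hc) t.rad2 au_nu2 (fun _ => nu2_nu2) hk (mul_mem hg hj)
    (fun s hs h => by
      rw [ek s hs, Q2_mod hs (dq _ _ s hs)] at h
      simp only [dg, one_mul] at h
      exact ⟨hs, zero_of y1 h.2, zero_of y1 h.1⟩)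
    (fun c hc => by
      rw [ek c hc, ek _ (au_nu2.mem c hc)]
      ext <;> simp [dg, Co.nu2, T.sq, (mem_sQ2 T).1 hc]
      ring)
    fun c hc => (Q2_mod (au_nu2.mem c hc) ((t.l2.au _ (mul_mem hg hj)).mem c hc)).2 (by
      rw [Equiv.Perm.mul_apply, ej c hc, (eg _ (dq _ _ c hc)).1, (eg _ (dq _ _ c hc)).2]
      simp [dg, t1, t2, Co.nu2])
  have am := t.l2.au m hm
  have aβ := au_nu2.comp am
  have key : ∀ (s r : Kˣ) (φ : Co T → K), (∀ z ∈ sV T, ∀ z' ∈ sV T, φ (z * z') = φ z + φ z') → ∀ a b : K,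
      ((t2 s * t1 T r).1 : K) = a → ((t2 s * t1 T r).2 : K) = b → (∀ z ∈ sV T, φ (dg T a b z) = φ z) →
      a * b ≠ 1 → b ≠ 1 → ∀ u ∈ sQ2 T, φ (u⁻¹ * (m u).nu2) = 0 := by
    rintro s r φ hφ _ _ rfl rfl φt n1 n2
    obtain ⟨τ, hτ, eτ⟩ := res _ (HT.mul (h2 s) (h1 r))
    obtain ⟨τ', hτ', eτ'⟩ := res _ (HT.mul (h2 (r / s)) (h1 r))
    have cτ := c τ hτ τ' hτ' (tor_comm t.l2 hk hτ ek eτ) (tor_comm t.l2 hk hτ' ek eτ') fun u hu => by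
      have := (map_ne_zero T.σ).2 r.ne_zero
      have := (map_ne_zero T.σ).2 s.ne_zero
      rw [eτ u hu, eτ' _ (au_nu2.mem u hu)]
      ext <;> simp [dg, Co.nu2, t1, t2, T.sq, (mem_sQ2 T).1 hu] <;> field_simp <;> simp
    exact kill (fun c hc w => cm_V' hc) (V_le.trans Z3_le) aβ e (fix_V aβ e) (au_dg _) (dq _ _)
      (fun u hu => by rw [← eτ u hu, cτ u hu, eτ _ (aβ.mem u hu)]) φ hφ φt (sur2 n1 n2)
  have n := T.ne
  have w0 : T.ω ≠ 0 := fun e => n (by simp [e])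
  have v0 := (map_ne_zero T.σ).2 w0
  have i1 : T.ω / T.σ T.ω ≠ 1 := fun e => n ((div_eq_one_iff_eq v0).1 e).symm
  have i2 : T.σ T.ω / T.ω ≠ 1 := fun e => n ((div_eq_one_iff_eq w0).1 e)
  have keg := fun φ hφ h => key (Units.mk0 _ (div_ne_zero w0 v0)) 1 φ hφ ((T.ω / T.σ T.ω) ^ 2) (T.σ T.ω / T.ω)
    (by simp [t1, t2]) (by simp [t1, t2]) h (by convert i1 using 1; field_simp) i2
  have ze := keg Co.e (fun z hz z' _ => by simp [hz.2.1]) fun z _ => by simp [dg, T.sq]; field_simp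
  have zg := keg Co.g (fun z hz z' hz' => by simp [hz.1, hz.2.2, hz'.1]) fun z _ => by
    simp [dg, T.sq]; field_simp
  have zd := key r (r / Units.mk0 _ s0) Co.d (fun z hz z' hz' => by simp [hz.1, hz.2.2]) (r * T.σ r)
    (r ^ 2 / T.σ r ^ 3) (by simp [t1, t2]; field_simp) (by simp [t1, t2, T.sq]; field_simp)
    (fun z _ => by simp [dg, T.sq]; field_simp) (fun e => hr (by field_simp at e; exact e)) fun e => hr (by
      have := congrArg T.σ ((div_eq_one_iff_eq (pow_ne_zero 3 s0)).1 e)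
      rw [map_pow, map_pow, T.sq] at this
      exact this.symm)
  refine ⟨m, hm, fun u hu => ?_⟩
  have : u⁻¹ * (m u).nu2 = 1 := Co.ext (e u hu).1 (e u hu).2.1 (e u hu).2.2 (ze u hu) (zd u hu) (zg u hu)
  rw [← nu2_nu2 (am.mem u hu), ← inv_mul_eq_one.1 this]

end H30.U5
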