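import Cfsg.Agent.H98.Subnormal
import Cfsg.Agent.H18.Subnormal
import Cfsg.Agent.H99.Product

/-! The Guralnick–Tracey / Flavell extension of Wielandt's zipper lemma. -/

set_option autoImplicit false
open Subgroup H98

namespace H30.Zip

variable {G : Type*} [Group G]

/-- The normal closure of `A` in `H`. -/
def ncl (A H : Subgroup G) : Subgroup G := ⨆ h : H, cj (h : G) A

theorem cj_le_ncl (A : Subgroup G) {H : Subgroup G} {h : G} (hh : h ∈ H) : cj h A ≤ ncl A H :=
  le_iSup (fun h : H => cj (h : G) A) ⟨h, hh⟩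

theorem le_ncl (A H : Subgroup G) : A ≤ ncl A H := by
  simpa [cj_one] using cj_le_ncl A (one_mem H)

theorem ncl_le {A H N : Subgroup G} (hA : A ≤ N) (hN : H ≤ normalizer (N : Set G)) :
    ncl A H ≤ N := iSup_le fun h => cj_le_of_le hA (hN h.2)

theorem ncl_le_self {A H : Subgroup G} (hA : A ≤ H) : ncl A H ≤ H := ncl_le hA le_normalizer

theorem ncl_mono {A B H K : Subgroup G} (hA : A ≤ B) (hH : H ≤ K) : ncl A H ≤ ncl B K :=
  iSup_le fun h => (cj_mono _ hA).trans (cj_le_ncl B (hH h.2))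

theorem le_norm_ncl [Finite G] (A H : Subgroup G) : H ≤ normalizer (ncl A H : Set G) := by
  intro g hg
  apply mem_normalizer_of_cj_le
  rw [cj_le_iff]
  refine iSup_le fun h => ?_
  rw [← cj_le_iff, cj_cj]
  exact cj_le_ncl A (mul_mem hg h.2)

theorem eq_of_subN {A H : Subgroup G} (h : SubN A H) (e : ncl A H = H) : A = H := by
  rcases h.eq_or_exists_normal with h1 | ⟨N, h1, h2, h3⟩
  · exact h1
  · exact absurd (e ▸ ncl_le h1 h3) (not_le_of_gt h2)

theorem exists_sigma [Finite G] {A : Subgroup G} (L : Subgroup G) (h : A ≤ L) :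
    ∃ S, A ≤ S ∧ SubN S L ∧ ncl A S = S := by
  induction L using WellFoundedLT.induction with
  | ind L ih =>
    by_cases e : ncl A L = L
    · exact ⟨L, h, SubN.refl L, e⟩
    · obtain ⟨S, h1, h2, h3⟩ := ih (ncl A L) (lt_of_le_of_ne (ncl_le_self h) e) (le_ncl A L)
      exact ⟨S, h1, h2.trans (SubN.of_normal (ncl_le_self h) (le_norm_ncl A L)), h3⟩

theorem subN_sup [Finite G] {A B H : Subgroup G} (hA : SubN A H) (hB : SubN B H) :
    SubN (A ⊔ B) H := by
  have h := subN_map_subtype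
    (H18.isSubnormal_sup hA.isSubnormal_subgroupOf hB.isSubnormal_subgroupOf)
  rwa [Subgroup.map_sup, map_subgroupOf_eq_of_le hA.le, map_subgroupOf_eq_of_le hB.le] at h

/-- At most one maximal subgroup contains `A`. -/
def Uniq (A : Subgroup G) : Prop := ∀ K L : Subgroup G, IsCoatom K → IsCoatom L → A ≤ K → A ≤ L → K = L

theorem Uniq.mono {A B : Subgroup G} (h : Uniq A) (hAB : A ≤ B) : Uniq B :=
  fun K L hK hL h1 h2 => h K L hK hL (hAB.trans h1) (hAB.trans h2)

/-- Every proper overgroup generated by its conjugates of `A` lies in `N`. -/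
def Bd (A N : Subgroup G) : Prop := ∀ H, A ≤ H → H ≠ ⊤ → ncl A H = H → H ≤ N

structure Good (B N : Subgroup G) : Prop where
  co : IsCoatom N
  le : B ≤ N
  full : ncl B ⊤ = ⊤
  sub : ∀ L, B ≤ L → L ≠ ⊤ → ¬ L ≤ N → SubN B L

theorem isCoatom_cj {N : Subgroup G} (h : IsCoatom N) (g : G) : IsCoatom (cj g N) := by
  constructor
  · intro e
    apply h.1
    rw [← cj_inv_cj g N, e, cj_top]
  · intro L hL
    have : N < cj g⁻¹ L := by rw [← cj_lt_cj_iff (g := g), cj_cj_inv]; exact hL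
    rw [← cj_cj_inv g L, h.2 _ this, cj_top]

theorem Good.cj {B N : Subgroup G} (h : Good B N) (g : G) : Good (cj g B) (cj g N) where
  co := isCoatom_cj h.co g
  le := cj_mono g h.le
  full := by
    rw [eq_top_iff, ← h.full]
    refine iSup_le fun x => ?_
    have := cj_le_ncl (H98.cj g B) (mem_top ((x : G) * g⁻¹))
    rw [cj_cj, inv_mul_cancel_right] at this
    rw [h.full]
    exact this
  sub := fun L h1 h2 h3 => by
    have := (h.sub (H98.cj g⁻¹ L) (cj_le_iff.1 h1)
      (fun e => h2 (by rw [← cj_cj_inv g L, e, cj_top])) (fun e => h3 (le_cj_iff.2 e))).cj g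
    rwa [cj_cj_inv] at this

theorem mem_of_cj_eq {B N : Subgroup G} (co : IsCoatom N) (le : B ≤ N) (full : ncl B ⊤ = ⊤)
    {g : G} (e : H98.cj g N = N) : g ∈ N := by
  have h1 : normalizer (N : Set G) = N := by
    rcases (le_normalizer (H := N)).eq_or_lt with h2 | h2
    · exact h2.symm
    · exfalso
      apply co.1
      rw [eq_top_iff, ← full]
      exact ncl_le le (co.2 _ h2).ge
  rw [← h1]; exact cj_eq_self_iff.1 e

theorem cj_eq_iff_mem {B N : Subgroup G} (h : Good B N) {g : G} (e : H98.cj g N = N) : g ∈ N :=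
  mem_of_cj_eq h.co h.le h.full e

variable [Finite G]

/-- The induction hypothesis. -/
def IH (G : Type*) [Group G] (n : ℕ) : Prop :=
  ∀ J : Subgroup G, n < Nat.card J → ncl J ⊤ = ⊤ → ∀ N, N ≠ ⊤ → Bd J N → Uniq J

theorem two {n : ℕ} (ih : IH G n) {B N B' N' : Subgroup G} (h : Good B N) (h' : Good B' N')
    (hn : Nat.card B = n) (hJ : B ⊔ B' ≠ ⊤) (hB' : ¬ B' ≤ N) : Uniq (B ⊔ B') := by
  have hlt : n < Nat.card ↥(B ⊔ B') := by
    rw [← hn]
    refine H99.card_lt_card_of_lt (lt_of_le_of_ne le_sup_left fun e => hB' ?_)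
    exact (le_sup_right.trans e.ge).trans h.le
  have hfull : ncl (B ⊔ B') ⊤ = ⊤ := by
    rw [eq_top_iff, ← h.full]
    exact (ncl_mono le_sup_left le_rfl).trans (by rw [h.full])
  have key : ∀ H, B ⊔ B' ≤ H → H ≠ ⊤ → ncl (B ⊔ B') H = H → ¬ H ≤ N' → B ⊔ B' = H := by
    intro H h1 h2 h3 h4
    refine eq_of_subN (subN_sup (h.sub H (le_sup_left.trans h1) h2 fun e => hB' ?_)
      (h'.sub H (le_sup_right.trans h1) h2 h4)) h3
    exact (le_sup_right.trans h1).trans e
  by_cases hB : B ≤ N'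
  · refine ih _ hlt hfull N' h'.co.1 fun H h1 h2 h3 => ?_
    by_contra h4
    exact h4 (key H h1 h2 h3 h4 ▸ sup_le hB h'.le)
  · refine ih _ hlt hfull _ hJ fun H h1 h2 h3 => (key H h1 h2 h3 fun e => hB ?_).ge
    exact (le_sup_left.trans h1).trans e

theorem exists_H {n : ℕ} (ih : IH G n) {B N K : Subgroup G} (h : Good B N)
    (hn : Nat.card B = n) (hK : IsCoatom K) (hKN : K ≠ N) (hBK : B ≤ K) :
    ∃ H, H ≤ K ∧ ¬ H ≤ N ∧ (∀ x ∈ H, cj x B ≤ N) ∧ Uniq H := by
  obtain ⟨H, ⟨h1, h2, h3, h4⟩, hmin⟩ := WellFounded.has_min (wellFounded_lt (α := Subgroup G))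
    {H | B ≤ H ∧ H ≤ K ∧ ¬ H ≤ N ∧ Uniq H} ⟨K, hBK, le_rfl,
      fun e => hKN ((hK.le_iff_eq h.co.1).1 e).symm,
      fun L L' hL hL' e e' => ((hK.le_iff_eq hL.1).1 e).trans ((hK.le_iff_eq hL'.1).1 e').symm⟩
  refine ⟨H, h2, h3, fun x hx => ?_, h4⟩
  by_contra hx'
  have hJ : B ⊔ cj x B ≤ ncl B H := sup_le (le_ncl B H) (cj_le_ncl B hx)
  have hT : ncl B H ≤ H := ncl_le_self h1
  have hHt : H ≠ ⊤ := fun e => hK.1 (top_le_iff.1 (e ▸ h2))
  have hu := two ih h (h.cj x) hn (fun e => hHt (top_le_iff.1 (e ▸ hJ.trans hT))) hx'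
  have e : ncl B H = H := by
    by_contra e
    exact hmin (ncl B H) ⟨le_ncl B H, hT.trans h2,
      fun e' => hx' ((le_sup_right.trans hJ).trans e'), hu.mono hJ⟩ (lt_of_le_of_ne hT e)
  exact h3 (eq_of_subN (h.sub H h1 hHt h3) e ▸ h.le)

theorem step {n : ℕ} (ih : IH G n) {A M K : Subgroup G} (h : Good A M) (hn : Nat.card A = n)
    (hK : IsCoatom K) (hAK : A ≤ K) : K = M := by
  by_contra hKM
  obtain ⟨H, -, h2, h3, -⟩ := exists_H ih h hn hK hKM hAK
  obtain ⟨x, hxH, hxM⟩ := SetLike.not_le_iff_exists.1 h2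
  have hne : cj x M ≠ M := fun e => hxM (cj_eq_iff_mem h e)
  have a1 : cj x A ≤ M := h3 x hxH
  have a2 : A ≤ cj x M := le_cj_iff.2 (h3 _ (inv_mem hxH))
  have clique : ∀ g g' : G, cj g A ≤ M ⊓ cj x M → cj g' A ≤ M ⊓ cj x M → cj g' A ≤ cj g M := by
    intro g g' e e'
    by_contra c
    have hle := sup_le e e'
    have hu := two ih (h.cj g) (h.cj g') ((card_cj g A).trans hn)
      (fun t => h.co.1 (top_le_iff.1 (t ▸ hle.trans inf_le_left))) c
    exact hne (hu _ _ (isCoatom_cj h.co x) h.co (hle.trans inf_le_right) (hle.trans inf_le_left))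
  set X : Subgroup G := ⨆ g : {g : G // cj g A ≤ M ⊓ cj x M}, cj (g : G) A with hX
  have hXle : ∀ g : G, cj g A ≤ M ⊓ cj x M → cj g A ≤ X := fun g hg =>
    le_iSup (fun g : {g : G // cj g A ≤ M ⊓ cj x M} => cj (g : G) A) ⟨g, hg⟩
  have hnorm : ∀ y : G, (∀ g : G, cj g A ≤ M ⊓ cj x M → cj (y * g) A ≤ M ⊓ cj x M) →
      y ∈ normalizer (X : Set G) := by
    intro y hy
    apply mem_normalizer_of_cj_le
    rw [cj_le_iff]
    refine iSup_le fun g => ?_
    rw [← cj_le_iff, cj_cj]
    exact hXle _ (hy g g.2)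
  obtain ⟨H₂, b1, b2, b3, b4⟩ := exists_H ih h hn (isCoatom_cj h.co x) hne a2
  obtain ⟨H₁, c1, c2, c3, c4⟩ := exists_H ih (h.cj x) ((card_cj x A).trans hn) h.co hne.symm a1
  have n2 : H₂ ≤ normalizer (X : Set G) := by
    intro y hy
    refine hnorm y fun g hg => ?_
    rw [← cj_cj]
    refine le_inf ?_ (cj_le_of_le_of_mem (hg.trans inf_le_right) (b1 hy))
    rw [cj_le_iff]
    exact clique y⁻¹ g (le_inf (b3 _ (inv_mem hy)) (cj_le_of_le_of_mem a2 (b1 (inv_mem hy)))) hg
  have n1 : H₁ ≤ normalizer (X : Set G) := by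
    intro y hy
    refine hnorm y fun g hg => ?_
    rw [← cj_cj]
    refine le_inf (cj_le_of_le_of_mem (hg.trans inf_le_left) (c1 hy)) ?_
    rw [cj_le_iff, cj_cj]
    refine clique (y⁻¹ * x) g ?_ hg
    rw [← cj_cj]
    exact le_inf (cj_le_of_le_of_mem a1 (c1 (inv_mem hy))) (c3 _ (inv_mem hy))
  have hAX : A ≤ X := by
    have := hXle 1 (by rw [cj_one]; exact le_inf h.le a2)
    rwa [cj_one] at this
  have hXM : X ≤ M := iSup_le fun g => g.2.trans inf_le_left
  have hNX : normalizer (X : Set G) ≠ ⊤ := fun e => h.co.1 (by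
    rw [eq_top_iff, ← h.full]
    exact (ncl_le hAX e.ge).trans hXM)
  obtain ⟨L, hL, hNL⟩ := (eq_top_or_exists_le_coatom _).resolve_left hNX
  exact hne ((b4 _ _ (isCoatom_cj h.co x) hL b1 (n2.trans hNL)).trans
    (c4 _ _ hL h.co (n1.trans hNL) c1))

theorem ih_all (n : ℕ) : IH G n := by
  induction hk : Nat.card G - n using Nat.strong_induction_on generalizing n with
  | _ k ihk =>
    intro A hA hfull N hN hB
    have hle : Nat.card A ≤ Nat.card G := Subgroup.card_le_card_group A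
    have ih : IH G (Nat.card A) := ihk _ (by omega) _ rfl
    obtain ⟨M, hM, hNM⟩ := (eq_top_or_exists_le_coatom _).resolve_left hN
    intro K L hK hL h1 h2
    have hAt : A ≠ ⊤ := fun e => hK.1 (top_le_iff.1 (e ▸ h1))
    have hAM : A ≤ M := (hB A le_rfl hAt (le_antisymm (ncl_le_self le_rfl) (le_ncl A A))).trans hNM
    have good : Good A M := by
      refine ⟨hM, hAM, hfull, fun P p1 p2 p3 => ?_⟩
      obtain ⟨S, s1, s2, s3⟩ := exists_sigma P p1
      rcases s1.eq_or_lt with e | e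
      · exact e ▸ s2
      · exfalso
        have hSt : S ≠ ⊤ := fun t => p2 (top_le_iff.1 (t ▸ s2.le))
        have hu : Uniq S := by
          refine ih S (H99.card_lt_card_of_lt e) ?_ N hN fun H q1 q2 q3 => hB H (s1.trans q1) q2 ?_
          · rw [eq_top_iff, ← hfull]
            exact (ncl_mono s1 le_rfl).trans (by rw [hfull])
          · refine le_antisymm (ncl_le_self (s1.trans q1)) ?_
            rw [← q3]
            refine (ncl_le ?_ (le_norm_ncl A H)).trans (by rw [q3])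
            rw [← s3]
            exact ncl_mono le_rfl q1
        obtain ⟨Q, hQ, hPQ⟩ := (eq_top_or_exists_le_coatom _).resolve_left p2
        exact p3 (hu _ _ hQ hM (s2.le.trans hPQ) ((hB S s1 hSt s3).trans hNM) ▸ hPQ)
    exact (step ih good rfl hK h1).trans (step ih good rfl hL h2).symm

/-- The Guralnick–Tracey theorem. -/
theorem uniq_of_bd {A N : Subgroup G} (hfull : ncl A ⊤ = ⊤) (hN : N ≠ ⊤) (h : Bd A N) : Uniq A :=
  ih_all 0 A Nat.card_pos hfull N hN h

omit [Finite G] in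
theorem ncl_top_eq (A : Subgroup G) : ncl A ⊤ = normalClosure (A : Set G) := by
  apply le_antisymm
  · exact ncl_le le_normalClosure (normalizer_eq_top _).ge
  · have : (ncl A ⊤).Normal := by
      constructor
      intro n hn g
      have : cj g (ncl A ⊤) ≤ ncl A ⊤ := by
        rw [cj_le_iff]
        refine iSup_le fun h => ?_
        rw [← cj_le_iff, cj_cj]
        exact cj_le_ncl A (mem_top _)
      exact this (conj_mem_cj hn)
    exact normalClosure_le_normal (le_ncl A ⊤)

omit [Finite G] in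
theorem normalClosure_subgroupOf_eq_top {A H : Subgroup G} (hA : A ≤ H) (e : ncl A H = H) :
    normalClosure ((A.subgroupOf H : Subgroup H) : Set H) = ⊤ := by
  have h1 : ncl A H ≤ (normalClosure ((A.subgroupOf H : Subgroup H) : Set H)).map H.subtype := by
    refine ncl_le ?_ (le_normalizer_map_subtype _)
    rw [← map_subgroupOf_eq_of_le hA]
    refine Subgroup.map_mono ?_
    rw [map_subgroupOf_eq_of_le hA]
    exact le_normalClosure
  rw [e] at h1
  rw [eq_top_iff]
  intro x _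
  obtain ⟨y, hy, hxy⟩ := h1 x.2
  rwa [← Subtype.ext hxy]

omit [Finite G] in
theorem iterate_comm_map {G' : Type*} [Group G'] (f : G →* G') (a : G) (k : ℕ) (g : G) :
    f ((fun c : G => c * a * c⁻¹ * a⁻¹)^[k] g) =
      (fun c : G' => c * f a * c⁻¹ * (f a)⁻¹)^[k] (f g) := by
  induction k generalizing g with
  | zero => rfl
  | succ k ih => rw [Function.iterate_succ_apply, Function.iterate_succ_apply, ih]; simp

universe u in
/-- If the conjugates of `a` generate `Γ`, so do `a` and the `k`-fold commutators with `a`. -/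
theorem engel_gen (k n : ℕ) : ∀ (Γ : Type u) [Group Γ] [Finite Γ] (a : Γ), Nat.card Γ = n →
    normalClosure (zpowers a : Set Γ) = ⊤ →
    zpowers a ⊔ closure (Set.range (fun c : Γ => c * a * c⁻¹ * a⁻¹)^[k]) = ⊤ := by
  induction n using Nat.strong_induction_on with
  | _ n ih =>
    intro Γ _ _ a hn hfull
    rw [← ncl_top_eq] at hfull
    by_contra hN
    have hu : Uniq (zpowers a) := by
      refine uniq_of_bd hfull hN fun H h1 h2 h3 => ?_
      have ha : a ∈ H := h1 (mem_zpowers a)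
      have e : (zpowers a).subgroupOf H = zpowers (⟨a, ha⟩ : H) := by
        apply map_injective H.subtype_injective
        rw [map_subgroupOf_eq_of_le h1, MonoidHom.map_zpowers]; rfl
      have h4 := normalClosure_subgroupOf_eq_top h1 h3
      rw [e] at h4
      have hlt : Nat.card H < n := by
        rw [← hn, ← card_top (G := Γ)]
        exact H99.card_lt_card_of_lt (lt_top_iff_ne_top.2 h2)
      have h5 := congrArg (Subgroup.map H.subtype) (ih _ hlt H ⟨a, ha⟩ rfl h4)
      rw [← MonoidHom.range_eq_map, range_subtype, Subgroup.map_sup, MonoidHom.map_zpowers,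
        MonoidHom.map_closure] at h5
      rw [← h5]
      refine sup_le_sup le_rfl (closure_mono ?_)
      rintro _ ⟨_, ⟨x, rfl⟩, rfl⟩
      exact ⟨x, (iterate_comm_map H.subtype ⟨a, ha⟩ k x).symm⟩
    obtain ⟨M, hM, hNM⟩ := (eq_top_or_exists_le_coatom _).resolve_left hN
    have haM : zpowers a ≤ M := le_sup_left.trans hNM
    have step1 : ∀ g, g ∉ M → g * a * g⁻¹ * a⁻¹ ∉ M := by
      intro g hg h
      have h1 : g * a * g⁻¹ ∈ M := by
        simpa using mul_mem h (haM (mem_zpowers a))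
      have h2 : zpowers a ≤ cj g⁻¹ M := by
        rw [zpowers_le, mem_cj]; simpa using h1
      exact hg (inv_mem_iff.1 (mem_of_cj_eq hM haM hfull (hu _ _ (isCoatom_cj hM _) hM h2 haM)))
    have step2 : ∀ j g, g ∉ M → (fun c : Γ => c * a * c⁻¹ * a⁻¹)^[j] g ∉ M := by
      intro j
      induction j with
      | zero => exact fun g hg => hg
      | succ j ihj => exact fun g hg => ihj _ (step1 g hg)
    obtain ⟨g, -, hg⟩ := SetLike.exists_of_lt (lt_top_iff_ne_top.2 hM.1)
    exact step2 k g hg (hNM (mem_sup_right (subset_closure ⟨g, rfl⟩)))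

end H30.Zip
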